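import Mathlib

/-!
The hypothesis under which the consequences of the Odd Order Theorem are proved in this folder.
-/

set_option autoImplicit false

namespace CfsgLib.FTCons

universe u

/-- Every finite group of odd order is solvable. -/
def OddSolvable : Prop :=
  ∀ (G : Type u) [Group G] [Finite G], Odd (Nat.card G) → Group.IsSolvable G

variable {G : Type u} [Group G] [Finite G]

/-- Of two subgroups of coprime orders one is solvable. -/
theorem OddSolvable.solvable_or_of_coprime (hFT : OddSolvable.{u}) {A B : Subgroup G}
    (h : (Nat.card A).Coprime (Nat.card B)) : Group.IsSolvable A ∨ Group.IsSolvable B := by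
  by_cases hA : Odd (Nat.card A)
  · exact Or.inl (hFT A hA)
  · refine Or.inr (hFT B ?_)
    rw [← Nat.not_even_iff_odd]
    intro hB
    exact absurd (Nat.eq_one_of_dvd_coprimes h (Nat.not_odd_iff_even.1 hA).two_dvd hB.two_dvd)
      (by norm_num)

end CfsgLib.FTCons
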