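import Mathlib
import Cfsg.Agent.Lib.FTCons.Basic
import Cfsg.Agent.Lib.ConstStab.Basic
import Cfsg.Agent.Lib.Solvable.Fitting
import Cfsg.Agent.Lib.TransOdd.Key

/-!
An odd order group transitive on the nonzero vectors: the Fitting subgroup is cyclic and fixed point
free and contains the derived subgroup (S1161), given the odd order theorem.
-/

set_option autoImplicit false

namespace CfsgLib.FTCons.TransitiveFitting

open scoped commutatorElement

universe u v

variable {D : Type u} {E : Type v} [Group D] [Finite D] [AddCommGroup E] [Finite E]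
  [DistribMulAction D E] [FaithfulSMul D E]

/-- Half-transitive action on the nonzero vectors. -/
def ConstCard (N : Subgroup D) (E : Type v) [AddCommGroup E] [DistribMulAction D E] : Prop :=
  ∀ a b : E, a ≠ 0 → b ≠ 0 →
    Nat.card (MulAction.stabilizer N a) = Nat.card (MulAction.stabilizer N b)

omit [Finite E] [FaithfulSMul D E] in
theorem constCard_of_transitive (htrans : ∀ a b : E, a ≠ 0 → b ≠ 0 → ∃ d : D, d • a = b)
    (N : Subgroup D) [N.Normal] : ConstCard N E := by
  have key : ∀ (g : D) (a : E), Nat.card (MulAction.stabilizer N a) ≤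
      Nat.card (MulAction.stabilizer N (g • a)) := by
    intro g a
    refine Nat.card_le_card_of_injective
      (fun x => ⟨⟨g * (x.1 : D) * g⁻¹, (inferInstance : N.Normal).conj_mem _ x.1.2 g⟩,
        MulAction.mem_stabilizer_iff.2 (by
          show (g * (x.1 : D) * g⁻¹) • g • a = g • a
          rw [mul_smul, mul_smul, inv_smul_smul]
          exact congrArg (g • ·) x.2)⟩) ?_
    intro x y hxy
    exact Subtype.ext (Subtype.ext (by simpa using congrArg (fun z => ((z.1 : N) : D)) hxy))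
  intro a b ha hb
  obtain ⟨g, rfl⟩ := htrans a b ha hb
  refine le_antisymm (key g a) ?_
  simpa using key g⁻¹ (g • a)

theorem fitting_cyclic (hodd : Odd (Nat.card D)) {q : ℕ} (hq : q.Prime) (hE : ∀ e : E, q • e = 0)
    (hconst : ∀ N : Subgroup D, N.Normal → ConstCard N E) :
    IsCyclic ↥(Cfsg.fittingSubgroup D) ∧
      ∀ g ∈ Cfsg.fittingSubgroup D, g ≠ 1 → ∀ a : E, g • a = a → a = 0 := by
  classical
  set F := Cfsg.fittingSubgroup D with hFdef
  have hcore : ∀ r : ℕ, r.Prime → IsCyclic (Cfsg.pCore r D) ∧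
      ∀ g ∈ Cfsg.pCore r D, g ≠ 1 → ∀ a : E, g • a = a → a = 0 := by
    intro r hr
    haveI := Fact.mk hr
    have hP := Fitting.pCore_isPGroup (G := D) r
    by_cases hr2 : r = 2
    · have hb : Cfsg.pCore r D = ⊥ := by
        obtain ⟨n, hn⟩ := hP.exists_card_eq
        have hodd' : Odd (r ^ n) := hn ▸ hodd.of_dvd_nat (Subgroup.card_subgroup_dvd_card _)
        refine Subgroup.eq_bot_of_card_eq _ ?_
        rcases Nat.eq_zero_or_pos n with rfl | hn0
        · simpa using hn
        · exact absurd hodd' (Nat.not_odd_iff_even.2 (Nat.even_pow.2 ⟨hr2 ▸ even_two, hn0.ne'⟩))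
      rw [hb]
      exact ⟨inferInstance, fun g hg hg1 => absurd (Subgroup.mem_bot.1 hg) hg1⟩
    haveI : FaithfulSMul (Cfsg.pCore r D) E :=
      ⟨fun {a b} hab => Subtype.ext (eq_of_smul_eq_smul hab)⟩
    obtain ⟨hcyc, hfpf⟩ := ConstStab.cyclic_and_fpf (E := E) hr2 hP hq hE
      (hconst _ (Fitting.pCore_normal r))
    exact ⟨hcyc, fun g hg hg1 a ha => hfpf ⟨g, hg⟩ (fun e => hg1 (Subtype.ext_iff.1 e)) a ha⟩
  haveI : Group.IsNilpotent F := Fitting.fitting_isNilpotent
  refine ⟨?_, ?_⟩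
  · haveI : IsMulCommutative F := by
      constructor
      constructor
      rintro ⟨x, hx⟩ ⟨y, hy⟩
      apply Subtype.ext
      show x * y = y * x
      have hab : ∀ x ∈ F, ∀ y ∈ F, x * y = y * x := by
        rw [hFdef, Fitting.fitting_eq_iSup_pCore, Subgroup.iSup_eq_closure]
        refine TransOdd.commute_closure ?_
        intro a ha b hb
        obtain ⟨i, hi⟩ := Set.mem_iUnion.1 ha
        obtain ⟨j, hj⟩ := Set.mem_iUnion.1 hb
        rcases eq_or_ne i j with rfl | hij
        · haveI := (hcore i (Nat.prime_of_mem_primeFactors i.2)).1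
          letI := IsCyclic.commGroup (α := Cfsg.pCore (i : ℕ) D)
          exact congrArg Subtype.val (mul_comm (⟨a, hi⟩ : Cfsg.pCore (i : ℕ) D) ⟨b, hj⟩)
        · exact (Fitting.commute_pCore_of_ne (Nat.prime_of_mem_primeFactors i.2)
            (Nat.prime_of_mem_primeFactors j.2) (fun e => hij (Subtype.ext e)) hi hj).eq
      exact hab x hx y hy
    letI : CommGroup F := { (inferInstance : Group F) with mul_comm := mul_comm' }
    refine IsCyclic.iff_exponent_eq_card.2 (Nat.dvd_antisymm Group.exponent_dvd_nat_card ?_)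
    refine (Nat.dvd_iff_prime_pow_dvd_dvd _ _).2 fun r k hr hrk => ?_
    haveI := Fact.mk hr
    obtain ⟨P⟩ : Nonempty (Sylow r F) := inferInstance
    have hPc : IsCyclic (P : Subgroup F) := by
      haveI : IsCyclic ((P : Subgroup F).map F.subtype) := by
        rw [show (P : Subgroup F).map F.subtype = Cfsg.pCore r D from Fitting.sylow_fitting_eq_pCore P]
        exact (hcore r hr).1
      exact ((P : Subgroup F).equivMapOfInjective F.subtype F.subtype_injective).isCyclic.2 inferInstance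
    obtain ⟨g, hg⟩ := IsCyclic.exists_generator (α := (P : Subgroup F))
    refine dvd_trans ?_ (Monoid.order_dvd_exponent (g : F))
    rw [Subgroup.orderOf_coe, orderOf_eq_card_of_forall_mem_zpowers hg, P.card_eq_multiplicity]
    exact pow_dvd_pow r (hr.pow_dvd_iff_le_factorization Nat.card_pos.ne' |>.1 hrk)
  · intro x hx hx1 a ha
    obtain ⟨r, hr, hrd⟩ := Nat.exists_prime_and_dvd (fun e => hx1 (orderOf_eq_one_iff.1 e))
    haveI := Fact.mk hr
    set y := x ^ (orderOf x / r) with hy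
    have hyo : orderOf y = r := orderOf_pow_orderOf_div (orderOf_pos x).ne' hrd
    have hyF : y ∈ F := pow_mem hx _
    have hpg : IsPGroup r (Subgroup.zpowers (⟨y, hyF⟩ : F)) :=
      IsPGroup.of_card (n := 1) (by rw [Nat.card_zpowers, Subgroup.orderOf_mk, hyo, pow_one])
    obtain ⟨P, hP⟩ := hpg.exists_le_sylow
    have hyc : y ∈ Cfsg.pCore r D := by
      rw [← Fitting.sylow_fitting_eq_pCore P]
      exact ⟨⟨y, hyF⟩, hP (Subgroup.mem_zpowers _), rfl⟩
    exact (hcore r hr).2 y hyc (fun e => hr.ne_one (by rw [← hyo, e, orderOf_one])) a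
      (pow_mem (show x ∈ MulAction.stabilizer D a from ha) _)

theorem commutator_le (hFT : OddSolvable.{u}) (hodd : Odd (Nat.card D))
    (hcyc : IsCyclic ↥(Cfsg.fittingSubgroup D)) : commutator D ≤ Cfsg.fittingSubgroup D := by
  haveI := hFT D hodd
  set F := Cfsg.fittingSubgroup D with hFdef
  haveI hFn : F.Normal := Fitting.fitting_normal
  haveI := hcyc
  rw [commutator_def, Subgroup.commutator_le]
  intro a _ b _
  refine Fitting.centralizer_fitting_le (Subgroup.mem_centralizer_iff.2 fun f hf => ?_)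
  obtain ⟨g, hg⟩ := IsCyclic.exists_generator (α := F)
  have hconj : ∀ c : D, ∃ k : ℤ, ∀ n : ℤ, c * ((g : D) ^ n) * c⁻¹ = (g : D) ^ (k * n) := by
    intro c
    obtain ⟨k, hk⟩ := hg ⟨c * g * c⁻¹, hFn.conj_mem _ g.2 c⟩
    refine ⟨k, fun n => ?_⟩
    have h : (g : D) ^ k = c * g * c⁻¹ := congrArg Subtype.val hk
    rw [← conj_zpow, ← h, zpow_mul]
  obtain ⟨n, hn⟩ := hg ⟨f, hf⟩
  have hn' : (g : D) ^ n = f := congrArg Subtype.val hn
  obtain ⟨i, hi⟩ := hconj a
  obtain ⟨j, hj⟩ := hconj b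
  obtain ⟨i', hi'⟩ := hconj a⁻¹
  obtain ⟨j', hj'⟩ := hconj b⁻¹
  have h : ⁅a, b⁆ * f * ⁅a, b⁆⁻¹ = f := by
    rw [← hn']
    have e1 : (g : D) ^ n = (g : D) ^ (i * (i' * n)) := by
      calc (g : D) ^ n = a * (a⁻¹ * (g : D) ^ n * a⁻¹⁻¹) * a⁻¹ := by group
        _ = _ := by rw [hi' n, hi]
    calc ⁅a, b⁆ * (g : D) ^ n * ⁅a, b⁆⁻¹
        = a * (b * (a⁻¹ * (b⁻¹ * (g : D) ^ n * b⁻¹⁻¹) * a⁻¹⁻¹) * b⁻¹) * a⁻¹ := by
          simp [commutatorElement_def, mul_assoc]
      _ = (g : D) ^ (i * (j * (i' * (j' * n)))) := by rw [hj', hi', hj, hi]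
      _ = (g : D) ^ (j * (i * (i' * (j' * n)))) := by ring_nf
      _ = b * (a * (a⁻¹ * (g : D) ^ (j' * n) * a⁻¹⁻¹) * a⁻¹) * b⁻¹ := by rw [hi', hi, hj]
      _ = b * (g : D) ^ (j' * n) * b⁻¹ := by group
      _ = b * (b⁻¹ * (g : D) ^ n * b⁻¹⁻¹) * b⁻¹ := by rw [hj']
      _ = (g : D) ^ n := by group
  exact (mul_inv_eq_iff_eq_mul.1 h).symm

/-- The statement of S1161. -/
theorem fitting_structure (hFT : OddSolvable.{u}) (hodd : Odd (Nat.card D)) {q : ℕ} (hq : q.Prime)
    (hE : ∀ e : E, q • e = 0)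
    (htrans : ∀ a b : E, a ≠ 0 → b ≠ 0 → ∃ d : D, d • a = b) :
    IsCyclic ↥(Cfsg.fittingSubgroup D) ∧
      (∀ g ∈ Cfsg.fittingSubgroup D, g ≠ 1 → ∀ a : E, g • a = a → a = 0) ∧
      commutator D ≤ Cfsg.fittingSubgroup D := by
  obtain ⟨hc, hf⟩ := fitting_cyclic hodd hq hE
    (fun N hN => haveI := hN; constCard_of_transitive htrans N)
  exact ⟨hc, hf, commutator_le hFT hodd hc⟩

end CfsgLib.FTCons.TransitiveFitting
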