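import Mathlib
import Cfsg.Prelude.Def_Perm
import Cfsg.Agent.Lib.FTCons.Basic
import Cfsg.Agent.Lib.Solvable.MinNormal
import Cfsg.Agent.Lib.PermGroup.Basic
import Cfsg.Agent.Lib.TransLinear.Huppert
import Cfsg.Agent.S0735

/-!
Kantor's theorem on 2-homogeneous groups that are not 2-transitive (S0737), given the odd order
theorem: the group is solvable, hence affine, and Huppert's theorem makes it semilinear.
-/

set_option autoImplicit false

namespace CfsgLib.FTCons.Kantor

open MulAction
open scoped Pointwise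

universe u

/-- The linear part: a solvable group of automorphisms transitive up to sign is semilinear. -/
theorem semilinear_of_transitive {p : ℕ} [Fact p.Prime] {V : Type*} [AddCommGroup V]
    [Module (ZMod p) V] [Finite V] [Nontrivial V] {H : Type*} [Group H] [Finite H]
    [Group.IsSolvable H] [DistribMulAction H V]
    (htr : ∀ v w : V, v ≠ 0 → w ≠ 0 → ∃ h : H, h • v = w ∨ h • v = -w) :
    (∃ (F : Type) (_ : Field F) (_ : Fintype F) (e : V ≃+ F),
      ∀ h : H, ∃ (a : F) (σ : F ≃+* F), a ≠ 0 ∧ ∀ v : V, e (h • v) = a * σ (e v)) ∨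
    Nat.card V ∈ ({9, 25, 49, 121, 529, 81} : Set ℕ) := by
  haveI : SMulCommClass H (ZMod p) V :=
    ⟨fun h r x => ZMod.map_smul (DistribMulAction.toAddMonoidHom V h) r x⟩
  let ρ0 : H →* (V ≃ₗ[ZMod p] V) := DistribMulAction.toModuleAut (ZMod p) V
  let sc : (ZMod p)ˣ →* (V ≃ₗ[ZMod p] V) := DistribMulAction.toModuleAut (ZMod p) V
  let ρ1 : H × (ZMod p)ˣ →* (V ≃ₗ[ZMod p] V) :=
    ρ0.noncommCoprod sc fun h r => LinearEquiv.ext fun x => smul_comm h (r : ZMod p) x
  have hDsol : Group.IsSolvable ρ1.range := by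
    haveI : Group.IsSolvable (H × (ZMod p)ˣ) := inferInstance
    exact Group.isSolvable_of_surjective ρ1.rangeRestrict_surjective
  haveI : Finite ρ1.range := Finite.of_surjective _ ρ1.rangeRestrict_surjective
  have htrans : CfsgLib.TransLinear.Trans ρ1.range.subtype := by
    intro v w hv hw
    obtain ⟨h, hh | hh⟩ := htr v w hv hw
    · refine ⟨⟨ρ1 (h, 1), MonoidHom.mem_range.2 ⟨_, rfl⟩⟩, ?_⟩
      show h • (1 : (ZMod p)ˣ) • v = w
      rw [one_smul, hh]
    · refine ⟨⟨ρ1 (h, -1), MonoidHom.mem_range.2 ⟨_, rfl⟩⟩, ?_⟩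
      show h • (-1 : (ZMod p)ˣ) • v = w
      rw [Units.smul_def, Units.val_neg, Units.val_one, neg_one_smul, smul_neg, hh, neg_neg]
  rcases CfsgLib.TransLinear.huppert hDsol ρ1.range.subtype_injective htrans with
    ⟨F, hF, hFf, e, he⟩ | hexc
  · refine Or.inl ⟨F, hF, hFf, e, fun h => ?_⟩
    obtain ⟨a, σ, hσ⟩ := he ⟨ρ1 (h, 1), MonoidHom.mem_range.2 ⟨_, rfl⟩⟩
    refine ⟨a, σ, ?_, fun v => ?_⟩
    · rintro rfl
      obtain ⟨v, hv⟩ := exists_ne (0 : V)
      have h1 := hσ v
      rw [zero_mul] at h1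
      exact hv ((LinearEquiv.map_eq_zero_iff _).1 (e.map_eq_zero_iff.1 h1))
    · rw [← hσ v]
      show _ = e (h • (1 : (ZMod p)ˣ) • v)
      rw [one_smul]
  · exact Or.inr hexc

/-- Automorphisms of an abelian group acting on its additive copy. -/
@[instance_reducible]
def additiveAction {M : Type*} [CommGroup M] {H : Type*} [Group H] (c : H →* MulAut M) :
    DistribMulAction H (Additive M) where
  smul h x := Additive.ofMul (c h x.toMul)
  one_smul x := by
    show Additive.ofMul (c 1 x.toMul) = x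
    rw [map_one]
    rfl
  mul_smul a b x := by
    show Additive.ofMul (c (a * b) x.toMul) = Additive.ofMul (c a (c b x.toMul))
    rw [map_mul]
    rfl
  smul_zero h := by
    show Additive.ofMul (c h 1) = 0
    rw [map_one]
    rfl
  smul_add h x y := by
    show Additive.ofMul (c h (x.toMul * y.toMul)) = _
    rw [map_mul]
    rfl

variable {α : Type u} [Fintype α] [DecidableEq α]

theorem three_le (G : Subgroup (Equiv.Perm α)) (hne : G ≠ ⊥) (hn2 : ¬ IsMultiplyPretransitive G α 2) :
    3 ≤ Fintype.card α := by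
  by_contra h
  have hcard : Nat.card (Equiv.Perm α) ≤ 2 := by
    rw [Nat.card_perm, Nat.card_eq_fintype_card]
    calc (Fintype.card α).factorial ≤ Nat.factorial 2 := Nat.factorial_le (by omega)
      _ = 2 := rfl
  have h1 : 1 < Nat.card G := G.one_lt_card_iff_ne_bot.2 hne
  have htop : G = ⊤ := Subgroup.eq_top_of_le_card G (hcard.trans h1)
  apply hn2
  subst htop
  have hh := Equiv.Perm.isMultiplyPretransitive α 2
  refine ⟨fun x y => ?_⟩
  obtain ⟨g, hg⟩ := hh.exists_smul_eq x y
  exact ⟨⟨g, Subgroup.mem_top g⟩, hg⟩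

set_option maxHeartbeats 1000000 in
theorem structure_of_kantor (hFT : OddSolvable.{u}) (G : Subgroup (Equiv.Perm α)) (hne : G ≠ ⊥)
    (h2 : IsPretransitive G (Set.powersetCard α 2)) (hn2 : ¬ IsMultiplyPretransitive G α 2) :
    Odd (Nat.card G) ∧ ∃ (p f : ℕ) (_ : Fact p.Prime), p ≠ 2 ∧ Fintype.card α = p ^ f ∧
      p ^ f % 4 = 3 ∧ ∃ e : α ≃ GaloisField p f,
        (∀ g : G, e.symm.trans (((g : Equiv.Perm α)).trans e) ∈
          Cfsg.semiaffineGroup (GaloisField p f)) ∧
        ∀ b : GaloisField p f, ∃ g : G, ∀ x : α, e ((g : Equiv.Perm α) x) = e x + b := by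
  classical
  have h3 := three_le G hne hn2
  obtain ⟨heven, hprim⟩ := Cfsg.Agent.S0735.result G h2 h3
  haveI := hprim hne
  have hodd : Odd (Nat.card G) := Nat.not_even_iff_odd.1 fun he => hn2 (heven he)
  refine ⟨hodd, ?_⟩
  haveI hsol : Group.IsSolvable G := hFT G hodd
  haveI : Nontrivial G := (Subgroup.nontrivial_iff_ne_bot G).2 hne
  obtain ⟨N, hN⟩ := CfsgLib.MinNormal.exists_isMinNormal (G := G)
  haveI hNn : N.Normal := hN.1
  haveI hNc : IsMulCommutative N := hN.isMulCommutative
  obtain ⟨p, hp, ⟨-, hNp⟩, -, f, hfpos, hf⟩ := hN.elementaryAbelian_of_solvable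
  haveI := Fact.mk hp
  haveI hNt : IsPretransitive N α := CfsgLib.PermGroup.isPretransitive_of_normal hN.2.1
  have hcomm : ∀ a b : N, a * b = b * a := fun a b => mul_comm' a b
  have hreg : ∀ x : α, stabilizer N x = ⊥ := by
    intro x
    refine (Subgroup.eq_bot_iff_forall _).2 fun n hn => ?_
    refine Subtype.ext (eq_of_smul_eq_smul (α := α) fun y => ?_)
    obtain ⟨m, rfl⟩ := exists_smul_eq N x y
    show (n : G) • m • x = (1 : G) • m • x
    rw [one_smul]
    show n • m • x = m • x
    rw [smul_smul, hcomm, mul_smul, hn]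
  obtain ⟨x0⟩ : Nonempty α := Fintype.card_pos_iff.1 (by omega)
  let ev : N ≃ α := Equiv.ofBijective (fun n : N => n • x0)
    ⟨fun _ _ h => CfsgLib.PermGroup.semiregular_inj hreg h, fun y => exists_smul_eq N x0 y⟩
  have hcardN : Nat.card N = Fintype.card α := by
    rw [Nat.card_congr ev, Nat.card_eq_fintype_card]
  -- arithmetic of the degree
  have hnodd : Odd (Fintype.card α) :=
    hcardN ▸ hodd.of_dvd_nat (Subgroup.card_subgroup_dvd_card N)
  have hmod : Fintype.card α % 4 = 3 := by
    have hchoose : Odd ((Fintype.card α).choose 2) := by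
      obtain ⟨s⟩ : Nonempty (Set.powersetCard α 2) := by
        apply Finite.card_pos_iff.1
        rw [Set.powersetCard.card, Nat.card_eq_fintype_card]
        exact Nat.choose_pos (by omega)
      have h := index_stabilizer_of_transitive G s
      rw [Set.powersetCard.card, Nat.card_eq_fintype_card] at h
      exact h ▸ hodd.of_dvd_nat (Subgroup.index_dvd_card _)
    obtain ⟨k, hk⟩ := hnodd
    rw [Nat.choose_two_right, hk, Nat.odd_iff] at hchoose
    rw [show (2 * k + 1) * (2 * k + 1 - 1) = 2 * ((2 * k + 1) * k) by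
      rw [Nat.add_sub_cancel]; ring, Nat.mul_div_cancel_left _ (by norm_num)] at hchoose
    rw [hk]
    rcases Nat.even_or_odd' k with ⟨j, rfl | rfl⟩
    · rw [show (2 * (2 * j) + 1) * (2 * j) = 2 * ((2 * (2 * j) + 1) * j) by ring,
        Nat.mul_mod_right] at hchoose
      omega
    · omega
  have hpne : p ≠ 2 := by
    intro h
    subst h
    refine (Nat.not_even_iff_odd.2 hnodd) ?_
    rw [← hcardN, hf]
    exact Nat.even_pow.2 ⟨even_two, hfpos.ne'⟩
  have hf0 : f ≠ 0 := hfpos.ne'
  refine ⟨p, f, inferInstance, hpne, hcardN ▸ hf, by rw [← hf, hcardN]; exact hmod, ?_⟩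
  -- the linear group
  letI cgN : CommGroup N := { (inferInstance : Group N) with mul_comm := hcomm }
  haveI : Nontrivial N := (Subgroup.nontrivial_iff_ne_bot N).2 hN.2.1
  have hexp : ∀ x : N, x ^ p = 1 := fun x => Subtype.ext (by simpa using hNp x x.2)
  let c : stabilizer G x0 →* MulAut N := (MulAut.conjNormal (H := N)).comp (stabilizer G x0).subtype
  have hconj : ∀ (h : stabilizer G x0) (m m' : N), (h : G) • m • x0 = m' • x0 → c h m = m' := by
    intro h m m' e
    refine CfsgLib.PermGroup.semiregular_inj hreg (x := x0) ?_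
    rw [← e]
    exact (CfsgLib.PermGroup.smul_smul_of_fix (g := (h : G)) (n := (m : G)) (x := x0) h.2).symm
  have htr : ∀ m k : N, m ≠ 1 → k ≠ 1 → ∃ h, c h m = k ∨ c h m = k⁻¹ := by
    intro m k hm hk
    have hne' : ∀ t : N, t ≠ 1 → t • x0 ≠ x0 := fun t ht e =>
      ht (CfsgLib.PermGroup.semiregular_eq_one hreg e)
    obtain ⟨g, hg⟩ := h2.exists_smul_eq
      ⟨{x0, m • x0}, Finset.card_pair (Ne.symm (hne' m hm))⟩
      ⟨{x0, k • x0}, Finset.card_pair (Ne.symm (hne' k hk))⟩
    have he : g • ({x0, m • x0} : Finset α) = {x0, k • x0} := congrArg Subtype.val hg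
    simp only [Finset.smul_finset_insert, Finset.smul_finset_singleton] at he
    have h1 : g • x0 ∈ ({x0, k • x0} : Finset α) := he ▸ Finset.mem_insert_self _ _
    have h1' : g • m • x0 ∈ ({x0, k • x0} : Finset α) :=
      he ▸ Finset.mem_insert_of_mem (Finset.mem_singleton_self _)
    simp only [Finset.mem_insert, Finset.mem_singleton] at h1 h1'
    rcases h1 with h1 | h1
    · exact ⟨⟨g, h1⟩, Or.inl (hconj _ m k
        (h1'.resolve_left fun e => hne' m hm (smul_left_cancel g (e.trans h1.symm))))⟩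
    · have h4 : g • m • x0 = x0 :=
        h1'.resolve_right fun e => hne' m hm (smul_left_cancel g (e.trans h1.symm))
      have hh : ((k : G)⁻¹ * g) • x0 = x0 := by
        rw [mul_smul, h1]
        exact inv_smul_smul (k : G) x0
      refine ⟨⟨_, hh⟩, Or.inr (hconj _ m k⁻¹ ?_)⟩
      show ((k : G)⁻¹ * g) • m • x0 = _
      rw [mul_smul, h4]
      rfl
  letI := additiveAction c
  letI : Module (ZMod p) (Additive N) :=
    AddCommGroup.zmodModule fun x => congrArg Additive.ofMul (hexp x.toMul)
  haveI : Nontrivial (Additive N) := Additive.ofMul.symm.nontrivial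
  rcases semilinear_of_transitive (p := p) (V := Additive N) (H := stabilizer G x0)
      (fun v w hv hw => by
        obtain ⟨h, hh⟩ := htr v.toMul w.toMul hv hw
        exact ⟨h, hh.imp (fun e => congrArg Additive.ofMul e) (fun e => congrArg Additive.ofMul e)⟩) with
    ⟨F, hF, hFf, e, he⟩ | hexc
  · haveI : Fintype (GaloisField p f) := Fintype.ofFinite _
    have hFcard : Fintype.card F = Fintype.card (GaloisField p f) := by
      rw [← Nat.card_eq_fintype_card, ← Nat.card_eq_fintype_card, GaloisField.card p f hf0,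
        ← Nat.card_congr e.toEquiv, ← hf]
      exact Nat.card_congr Additive.toMul
    let E : F ≃+* GaloisField p f := FiniteField.ringEquivOfCardEq hFcard
    let cE : N → GaloisField p f := fun n => E (e (Additive.ofMul n))
    have hcmul : ∀ a b : N, cE (a * b) = cE a + cE b := fun a b => by
      show E (e (Additive.ofMul (a * b))) = _
      rw [ofMul_mul, map_add, map_add]
    let eA : α ≃ GaloisField p f :=
      ev.symm.trans ((Additive.ofMul.trans e.toEquiv).trans E.toEquiv)
    have heA : ∀ n : N, eA (n • x0) = cE n := fun n => by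
      show E (e (Additive.ofMul (ev.symm (ev n)))) = cE n
      rw [ev.symm_apply_apply]
    refine ⟨eA, fun g => ?_, fun b => ?_⟩
    · obtain ⟨b, hb⟩ := exists_smul_eq N x0 (g • x0)
      have hh : ((b : G)⁻¹ * g) • x0 = x0 := by
        rw [mul_smul, ← hb]
        exact inv_smul_smul (b : G) x0
      obtain ⟨a, σ, ha, hσ⟩ := he ⟨_, hh⟩
      refine ⟨Units.mk0 (E a) (by simpa using ha), cE b, E.symm.trans (σ.trans E), fun x => ?_⟩
      obtain ⟨m, hm⟩ := exists_smul_eq N x0 (eA.symm x)
      have hx : cE m = x := by rw [← heA, hm, eA.apply_symm_apply]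
      show eA (g • eA.symm x) = _
      rw [← hm]
      have hgm : g • m • x0 = (b * MulAut.conjNormal ((b : G)⁻¹ * g) m) • x0 := by
        have h := CfsgLib.PermGroup.smul_smul_of_fix (g := (b : G)⁻¹ * g) (n := (m : G)) (x := x0) hh
        rw [mul_smul]
        show g • (m : G) • x0 = (b : G) • ((MulAut.conjNormal ((b : G)⁻¹ * g) m : N) : G) • x0
        rw [MulAut.conjNormal_apply, ← h, smul_smul (b : G), mul_inv_cancel_left]
      rw [hgm, heA, hcmul, add_comm, ← hx]
      congr 1
      have h : e (Additive.ofMul (MulAut.conjNormal ((b : G)⁻¹ * g) m)) =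
          a * σ (e (Additive.ofMul m)) := hσ (Additive.ofMul m)
      show E (e (Additive.ofMul (MulAut.conjNormal ((b : G)⁻¹ * g) m))) =
        E a * E (σ (E.symm (E (e (Additive.ofMul m)))))
      rw [h, map_mul, E.symm_apply_apply]
    · refine ⟨((Additive.toMul (e.symm (E.symm b)) : N) : G), fun x => ?_⟩
      obtain ⟨m, rfl⟩ := exists_smul_eq N x0 x
      show eA ((Additive.toMul (e.symm (E.symm b)) : N) • m • x0) = _
      rw [smul_smul, heA, heA, hcmul, add_comm]
      congr 1
      show E (e (Additive.ofMul (Additive.toMul (e.symm (E.symm b))))) = b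
      simp
  · exfalso
    rw [show Nat.card (Additive N) = Fintype.card α from
      (Nat.card_congr Additive.toMul).trans hcardN] at hexc
    simp only [Set.mem_insert_iff, Set.mem_singleton_iff] at hexc
    omega

end CfsgLib.FTCons.Kantor
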