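import Cfsg.Agent.Lib.FTCons.AbelianFactorCount
import Cfsg.Agent.Lib.PrimRecog.Basic

/-!
Modulo the odd order theorem: an A-group having a class of size `2 ^ a`, the largest 2-part of a class
size, is solvable (S4133).
-/

set_option autoImplicit false
set_option linter.style.haveILetI false

namespace CfsgLib.FTCons.PrimePowerClassTwo

open Subgroup
open scoped Pointwise
open scoped commutatorElement

universe u

variable {G : Type u} [Group G] [Finite G]

theorem exists_perfect_normal (K : Subgroup G) [K.Normal] :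
    ∃ D : Subgroup G, D ≤ K ∧ D.Normal ∧ ⁅D, D⁆ = D ∧ (D = ⊥ → Group.IsSolvable K) := by
  obtain ⟨n, hn⟩ : ∃ n, derivedSeries K (n + 1) = derivedSeries K n := by
    obtain ⟨a, b, hab, h⟩ := Finite.exists_ne_map_eq_of_infinite (derivedSeries K)
    wlog hlt : a < b generalizing a b
    · exact this b a hab.symm h.symm (by omega)
    exact ⟨a, le_antisymm (derivedSeries_antitone _ (Nat.le_succ a))
      (h.le.trans (derivedSeries_antitone _ (by omega)))⟩
  refine ⟨(derivedSeries K n).map K.subtype, map_subtype_le _, ?_, ?_, fun h => ?_⟩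
  · have : (derivedSeries K n).Characteristic := inferInstance
    infer_instance
  · rw [← map_commutator, ← derivedSeries_succ, hn]
  · exact ⟨⟨n, (map_eq_bot_iff_of_injective _ K.subtype_injective).1 h⟩⟩

/-- A perfect group with abelian Sylow subgroups has trivial centre. -/
theorem center_eq_bot (hperf : commutator G = ⊤)
    (hA : ∀ (p : ℕ) [Fact p.Prime] (P : Sylow p G), IsMulCommutative (P : Subgroup G)) :
    center G = ⊥ := by
  refine eq_bot_iff.2 fun z hz => mem_bot.2 ?_
  rw [← orderOf_eq_one_iff]
  by_contra hne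
  obtain ⟨p, hp, hpd⟩ := Nat.exists_prime_and_dvd hne
  have : Fact p.Prime := ⟨hp⟩
  set y := z ^ (orderOf z / p)
  have hy : orderOf y = p := orderOf_pow_orderOf_div (orderOf_pos z).ne' hpd
  have hyc : y ∈ center G := pow_mem hz _
  obtain ⟨P, hP⟩ := (IsPGroup.of_card (n := 1) (by rw [Nat.card_zpowers, hy, pow_one]) :
    IsPGroup p (zpowers y)).exists_le_sylow
  have hyP : y ∈ (P : Subgroup G) := hP (mem_zpowers y)
  letI : CommGroup (P : Subgroup G) :=
    { (inferInstance : Group (P : Subgroup G)) with mul_comm := (hA p P).is_comm.comm }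
  let f : G →* (P : Subgroup G) := MonoidHom.transfer (MonoidHom.id (P : Subgroup G))
  have hf : ∀ g, f g = 1 := fun g => by
    have hg : g ∈ f.ker := (Abelianization.commutator_subset_ker f) (hperf ▸ mem_top g)
    exact hg
  have hcomm : ∀ (k : ℕ) (g₀ : G), g₀⁻¹ * y ^ k * g₀ ∈ (P : Subgroup G) →
      g₀⁻¹ * y ^ k * g₀ = y ^ k := fun k g₀ _ => by
    rw [mul_assoc, ← mem_center_iff.1 (pow_mem hyc k) g₀, ← mul_assoc, inv_mul_cancel, one_mul]
  have h := MonoidHom.transfer_eq_pow (MonoidHom.id (P : Subgroup G)) y hcomm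
  rw [show MonoidHom.transfer (MonoidHom.id (P : Subgroup G)) y = 1 from hf y] at h
  have h2 : y ^ (P : Subgroup G).index = 1 := (congrArg Subtype.val h).symm
  exact P.not_dvd_index (hy.symm.dvd.trans (orderOf_dvd_of_pow_eq_one h2))

/-- The relative index in a normal subgroup divides the index. -/
theorem relIndex_dvd_index_right {X : Type*} [Group X] [Finite X] (E N : Subgroup X) [N.Normal] :
    E.relIndex N ∣ E.index := by
  have a1 := relIndex_mul_relIndex (E ⊓ N) E (E ⊔ N) inf_le_left le_sup_left
  have a2 := relIndex_mul_relIndex (E ⊓ N) N (E ⊔ N) inf_le_right le_sup_right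
  rw [inf_relIndex_left] at a1
  rw [inf_relIndex_right, relIndex_sup_right] at a2
  have he : E.relIndex (E ⊔ N) = E.relIndex N :=
    mul_left_cancel₀ (fun h0 : N.relIndex E = 0 =>
      (Nat.card_pos (α := E ⧸ N.subgroupOf E)).ne' h0) (a1.trans (a2.symm.trans (mul_comm _ _)))
  exact Dvd.intro _ (he ▸ relIndex_mul_index (le_sup_left : E ≤ E ⊔ N))

variable (hFT : CfsgLib.FTCons.OddSolvable.{u})

include hFT in
/-- Perfect, abelian Sylow subgroups, every class of odd size: trivial. -/
theorem subsingleton_of_perfect_odd_classes (hperf : commutator G = ⊤)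
    (hA : ∀ (p : ℕ) [Fact p.Prime] (P : Sylow p G), IsMulCommutative (P : Subgroup G))
    (hcl : ∀ y : G, Odd (centralizer ({y} : Set G)).index) : Subsingleton G := by
  classical
  have : Fact (Nat.Prime 2) := ⟨Nat.prime_two⟩
  obtain ⟨T⟩ := (inferInstance : Nonempty (Sylow 2 G))
  have hc := center_eq_bot hperf hA
  have hT : (T : Subgroup G) ≤ center G := by
    refine fun t ht => mem_center_iff.2 fun y => ?_
    -- the centraliser of `T` meets every class
    have hall : ∀ y : G, ∃ g : G, g * y * g⁻¹ ∈ centralizer ((T : Subgroup G) : Set G) := by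
      intro y
      obtain ⟨S⟩ := (inferInstance : Nonempty (Sylow 2 ↥(centralizer ({y} : Set G))))
      have hS : ¬ 2 ∣ (centralizer ({y} : Set G)).index := (hcl y).not_two_dvd_nat
      obtain ⟨S', hS'⟩ := (S.isPGroup'.map (centralizer ({y} : Set G)).subtype).exists_le_sylow
      have hcard : Nat.card (S' : Subgroup G) =
          Nat.card ((S : Subgroup _).map (centralizer ({y} : Set G)).subtype) := by
        rw [card_map_of_injective (centralizer ({y} : Set G)).subtype_injective,
          S.card_eq_multiplicity, S'.card_eq_multiplicity,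
          ← (centralizer ({y} : Set G)).card_mul_index, Nat.factorization_mul Nat.card_pos.ne'
          index_ne_zero_of_finite, Finsupp.add_apply, Nat.factorization_eq_zero_of_not_dvd hS,
          add_zero]
      have heq := eq_of_le_of_card_ge hS' hcard.le
      obtain ⟨g, hg⟩ := MulAction.exists_smul_eq G S' T
      refine ⟨g, mem_centralizer_iff.2 fun x hx => ?_⟩
      rw [← hg] at hx
      have hx' : g⁻¹ * x * g ∈ (S' : Subgroup G) := by
        rwa [SetLike.mem_coe, Sylow.coe_subgroup_smul, Subgroup.mem_pointwise_smul_iff_inv_smul_mem,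
          MulAut.smul_def, ← map_inv, MulAut.conj_apply, inv_inv] at hx
      rw [← heq] at hx'
      obtain ⟨s, -, hs⟩ := hx'
      have h2 := mem_centralizer_singleton_iff.1 s.2
      rw [coe_subtype] at hs
      rw [hs] at h2
      calc x * (g * y * g⁻¹) = g * ((g⁻¹ * x * g) * y) * g⁻¹ := by group
        _ = g * (y * (g⁻¹ * x * g)) * g⁻¹ := by rw [h2]
        _ = g * y * g⁻¹ * x := by group
    -- so that centraliser is everything
    have htop : centralizer ((T : Subgroup G) : Set G) = ⊤ := by
      by_contra hne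
      obtain ⟨a, -, ha⟩ := CfsgLib.PrimRecog.exists_not_conj_mem (T := (⊤ : Subgroup G))
        (P := centralizer ((T : Subgroup G) : Set G)) (fun h => hne (top_le_iff.1 h))
      obtain ⟨g, hg⟩ := hall a
      exact ha g⁻¹ (mem_top _) (by rwa [inv_inv])
    exact (mem_centralizer_iff.1 (htop ▸ mem_top y : y ∈ centralizer ((T : Subgroup G) : Set G))
      t ht).symm
  rw [hc, le_bot_iff] at hT
  have hodd : Odd (Nat.card G) := by
    rw [← Nat.not_even_iff_odd, even_iff_two_dvd]
    intro h2
    have := T.dvd_card_of_dvd_card h2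
    rw [hT, Subgroup.card_bot] at this
    omega
  have hs := hFT G hodd
  by_contra hns
  rw [not_subsingleton_iff_nontrivial] at hns
  exact (Group.IsSolvable.commutator_lt_top_of_nontrivial G).ne hperf

omit [Finite G] in
theorem centralizer_mul_of_disjoint {M W : Subgroup G} [M.Normal] [W.Normal] (hd : M ⊓ W = ⊥)
    {x y : G} (hx : x ∈ W) (hy : y ∈ M) :
    centralizer ({x * y} : Set G) = centralizer ({x} : Set G) ⊓ centralizer ({y} : Set G) := by
  ext g
  constructor
  · intro hg
    have he : g * (x * y) * g⁻¹ = x * y :=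
      mul_inv_eq_iff_eq_mul.2 (mem_centralizer_singleton_iff.1 hg)
    have hm : x⁻¹ * (g * x * g⁻¹) = y * (g * y * g⁻¹)⁻¹ := by
      rw [eq_mul_inv_iff_mul_eq, show x⁻¹ * (g * x * g⁻¹) * (g * y * g⁻¹) =
        x⁻¹ * (g * (x * y) * g⁻¹) by group, he, inv_mul_cancel_left]
    have h1 : x⁻¹ * (g * x * g⁻¹) ∈ M ⊓ W :=
      ⟨hm ▸ M.mul_mem hy (M.inv_mem (‹M.Normal›.conj_mem y hy g)),
        W.mul_mem (W.inv_mem hx) (‹W.Normal›.conj_mem x hx g)⟩
    rw [hd, mem_bot] at h1
    have h2 : y * (g * y * g⁻¹)⁻¹ = 1 := hm ▸ h1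
    exact ⟨mem_centralizer_singleton_iff.2 (mul_inv_eq_iff_eq_mul.1 (inv_mul_eq_one.1 h1).symm),
      mem_centralizer_singleton_iff.2 (mul_inv_eq_iff_eq_mul.1 (mul_inv_eq_one.1 h2).symm)⟩
  · rintro ⟨h1, h2⟩
    have e1 : g * x = x * g := mem_centralizer_singleton_iff.1 h1
    have e2 : g * y = y * g := mem_centralizer_singleton_iff.1 h2
    rw [mem_centralizer_singleton_iff, ← mul_assoc, e1, mul_assoc, e2, mul_assoc]

include hFT in
theorem solvable_of_two_part_class
    (hA : ∀ (p : ℕ) [Fact p.Prime] (P : Sylow p G), IsMulCommutative (P : Subgroup G))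
    (a : ℕ) (hmax : ∀ y : G, ¬ 2 ^ (a + 1) ∣ (centralizer ({y} : Set G)).index)
    (x : G) (hx : (centralizer ({x} : Set G)).index = 2 ^ a) : Group.IsSolvable G := by
  classical
  have : Fact (Nat.Prime 2) := ⟨Nat.prime_two⟩
  set C := centralizer ({x} : Set G)
  set W := normalClosure ({x} : Set G)
  set K := centralizer (W : Set G)
  have hKC : K ≤ C := fun g hg => mem_centralizer_singleton_iff.2
    (mem_centralizer_iff.1 hg x (subset_normalClosure (Set.mem_singleton x))).symm
  have hKn : K.Normal := inferInstance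
  -- the kernel is solvable
  have hK : Group.IsSolvable K := by
    obtain ⟨D, hDK, hDn, hperf, hsol⟩ := exists_perfect_normal K
    refine hsol ?_
    have hperf' : commutator D = ⊤ := by
      apply map_injective D.subtype_injective
      rw [commutator_def, map_commutator, ← MonoidHom.range_eq_map, range_subtype, hperf]
    have hAD : ∀ (p : ℕ) [Fact p.Prime] (P : Sylow p D), IsMulCommutative (P : Subgroup D) := by
      intro p _ P
      obtain ⟨S, hS⟩ := (P.isPGroup'.map D.subtype).exists_le_sylow
      refine ⟨⟨fun u v => Subtype.ext (Subtype.ext ?_)⟩⟩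
      simpa using congrArg Subtype.val ((hA p S).is_comm.comm
        (⟨_, hS ⟨_, u.2, rfl⟩⟩ : (S : Subgroup G)) ⟨_, hS ⟨_, v.2, rfl⟩⟩)
    have hd : D ⊓ W = ⊥ := eq_bot_iff.2 fun d hd => mem_bot.2 (by
      have hz : (⟨d, hd.1⟩ : D) ∈ center D := mem_center_iff.2 fun e =>
        Subtype.ext (mem_centralizer_iff.1 (hDK e.2) d hd.2).symm
      rw [center_eq_bot hperf' hAD, mem_bot] at hz
      exact congrArg Subtype.val hz)
    have hDC : D ≤ C := hDK.trans hKC
    have hodd : ∀ y : D, Odd (centralizer ({y} : Set D)).index := by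
      intro y
      set E := C ⊓ centralizer ({(y : G)} : Set G) with hE
      have h1 : (centralizer ({x * (y : G)} : Set G)).index = E.relIndex C * 2 ^ a := by
        rw [centralizer_mul_of_disjoint hd (subset_normalClosure (Set.mem_singleton x)) y.2, ← hx,
          relIndex_mul_index inf_le_left]
      have h2 : ¬ 2 ∣ E.relIndex C := fun h =>
        hmax (x * y) (by rw [h1, pow_succ']; exact Nat.mul_dvd_mul_right h _)
      have h3 : E.relIndex D ∣ E.relIndex C := by
        have hn : (D.subgroupOf C).Normal := hDn.subgroupOf C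
        rw [← relIndex_subgroupOf (hDC : D ≤ C)]
        exact relIndex_dvd_index_right (E.subgroupOf C) (D.subgroupOf C)
      have h4 : centralizer ({y} : Set D) = E.subgroupOf D := by
        ext g
        simp only [hE, mem_subgroupOf, mem_inf, mem_centralizer_singleton_iff]
        exact ⟨fun h => ⟨hDC g.2, congrArg Subtype.val h⟩, fun h => Subtype.ext h.2⟩
      rw [h4, ← Nat.not_even_iff_odd, even_iff_two_dvd]
      exact fun h => h2 (h.trans h3)
    have := subsingleton_of_perfect_odd_classes hFT hperf' hAD hodd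
    exact Subgroup.eq_bot_of_subsingleton D
  -- a Sylow subgroup
  obtain ⟨U⟩ := (inferInstance : Nonempty (Sylow 2 C))
  obtain ⟨T, hT⟩ := (U.isPGroup'.map C.subtype).exists_le_sylow
  set U' := (U : Subgroup C).map C.subtype
  have hcardU : Nat.card U' = Nat.card (U : Subgroup C) := card_map_of_injective C.subtype_injective
  have hTU : Nat.card (T : Subgroup G) = Nat.card U' * 2 ^ a := by
    rw [hcardU, T.card_eq_multiplicity, U.card_eq_multiplicity, ← C.card_mul_index, hx,
      Nat.factorization_mul Nat.card_pos.ne' (pow_ne_zero _ two_ne_zero), Finsupp.add_apply,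
      Nat.Prime.factorization_pow Nat.prime_two, Finsupp.single_eq_same, pow_add]
  have hTC : (T : Subgroup G) ⊓ C = U' := by
    refine (eq_of_le_of_card_ge (le_inf hT (map_subtype_le _)) ?_).symm
    have hp : IsPGroup 2 ((T : Subgroup G).subgroupOf C) := T.isPGroup'.comap_subtype
    obtain ⟨S, hS⟩ := hp.exists_le_sylow
    have h1 : Nat.card ↥((T : Subgroup G) ⊓ C) = Nat.card ((T : Subgroup G).subgroupOf C) := by
      rw [← card_map_of_injective C.subtype_injective, subgroupOf_map_subtype]
    rw [h1, hcardU, U.card_eq_multiplicity, ← S.card_eq_multiplicity]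
    exact Subgroup.card_le_of_le hS
  have hrel : C.relIndex (T : Subgroup G) = C.index := by
    have h1 := relIndex_mul_relIndex (⊥ : Subgroup G) ((T : Subgroup G) ⊓ C) (T : Subgroup G)
      bot_le inf_le_left
    rw [relIndex_bot_left, relIndex_bot_left, inf_relIndex_left, hTC, hTU] at h1
    rw [hx]
    exact Nat.eq_of_mul_eq_mul_left Nat.card_pos h1
  have hcover : ∀ g : G, ∃ t ∈ (T : Subgroup G), ∃ c ∈ C, g = t * c := by
    let e : (T : Subgroup G) ⧸ C.subgroupOf (T : Subgroup G) → G ⧸ C :=
      Quotient.map' Subtype.val fun u v huv => by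
        rw [QuotientGroup.leftRel_apply] at huv ⊢
        exact mem_subgroupOf.1 huv
    have he : Function.Injective e := by
      intro u v huv
      induction u using QuotientGroup.induction_on
      induction v using QuotientGroup.induction_on
      exact QuotientGroup.eq.2 (mem_subgroupOf.2 (QuotientGroup.eq.1 huv))
    intro g
    obtain ⟨w, hw⟩ := (he.bijective_of_nat_card_le (le_of_eq hrel.symm)).2 (g : G ⧸ C)
    induction w using QuotientGroup.induction_on with
    | _ w => exact ⟨w, w.2, (w : G)⁻¹ * g, QuotientGroup.eq.1 hw, (mul_inv_cancel_left _ _).symm⟩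
  have hUK : U' ≤ K := by
    intro u hu
    have huC : u ∈ C := map_subtype_le _ hu
    rw [← hTC] at hu
    have hle : W ≤ centralizer ({u} : Set G) := by
      refine (closure_le _).2 fun w hw => ?_
      rw [Group.mem_conjugatesOfSet_iff] at hw
      obtain ⟨x', hx', hconj⟩ := hw
      rw [Set.mem_singleton_iff] at hx'
      obtain ⟨g, rfl⟩ := isConj_iff.1 hconj
      obtain ⟨t, ht, c, hc, rfl⟩ := hcover g
      have hxc : c * x * c⁻¹ = x := mul_inv_eq_iff_eq_mul.2 (mem_centralizer_singleton_iff.1 hc)
      rw [hx', SetLike.mem_coe, mem_centralizer_singleton_iff,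
        show t * c * x * (t * c)⁻¹ = t * (c * x * c⁻¹) * t⁻¹ by group, hxc]
      have htu : t * u = u * t := congrArg Subtype.val
        ((hA 2 T).is_comm.comm (⟨t, ht⟩ : (T : Subgroup G)) ⟨u, hu.1⟩)
      have hux : u * x = x * u := mem_centralizer_singleton_iff.1 huC
      have htu' : t⁻¹ * u = u * t⁻¹ := by
        rw [eq_mul_inv_iff_mul_eq, mul_assoc, ← htu, inv_mul_cancel_left]
      calc t * x * t⁻¹ * u = t * (x * u) * t⁻¹ := by rw [mul_assoc, htu']; group
        _ = t * u * (x * t⁻¹) := by rw [← hux]; group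
        _ = u * (t * x * t⁻¹) := by rw [htu]; group
    exact mem_centralizer_iff.2 fun w hw => mem_centralizer_singleton_iff.1 (hle hw)
  -- the top
  have hsurjq := QuotientGroup.mk'_surjective K
  have hquot : Group.IsSolvable (G ⧸ K) := by
    refine CfsgLib.FTCons.AbelianFactor.isSolvable_of_factor hFT _ (G ⧸ K) rfl (fun S => ?_)
      (C.map (QuotientGroup.mk' K)) ?_ ?_
    · obtain ⟨S', rfl⟩ := Sylow.mapSurjective_surjective hsurjq 2 S
      refine ⟨⟨fun u v => Subtype.ext ?_⟩⟩
      obtain ⟨u', hu', hu⟩ := mem_map.1 (show (u : G ⧸ K) ∈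
        (S' : Subgroup G).map (QuotientGroup.mk' K) from u.2)
      obtain ⟨v', hv', hv⟩ := mem_map.1 (show (v : G ⧸ K) ∈
        (S' : Subgroup G).map (QuotientGroup.mk' K) from v.2)
      show (u : G ⧸ K) * v = v * u
      rw [← hu, ← hv, ← map_mul, ← map_mul]
      exact congrArg _ (congrArg Subtype.val ((hA 2 S').is_comm.comm
        (⟨u', hu'⟩ : (S' : Subgroup G)) ⟨v', hv'⟩))
    · have h1 : Nat.card (C.map (QuotientGroup.mk' K)) = K.relIndex C := by
        rw [← relIndex_bot_left, ← QuotientGroup.map_mk'_self K, relIndex_map_map,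
          QuotientGroup.ker_mk', sup_idem, sup_of_le_left hKC]
      have h2 : K.relIndex C ∣ (U : Subgroup C).index := by
        refine index_dvd_of_le fun c hc => ?_
        exact mem_subgroupOf.2 (hUK ⟨c, hc, rfl⟩)
      rw [h1, ← Nat.not_even_iff_odd, even_iff_two_dvd]
      exact fun h => U.not_dvd_index (h.trans h2)
    · refine ⟨a, ?_⟩
      rw [index_map_eq _ hsurjq (by rw [QuotientGroup.ker_mk']; exact hKC), hx]
  exact Group.isSolvable_of_ker_le_range K.subtype (QuotientGroup.mk' K)
    (by rw [QuotientGroup.ker_mk', range_subtype])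

end CfsgLib.FTCons.PrimePowerClassTwo
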