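import Cfsg.Agent.Lib.Components.Balance
import Cfsg.Agent.Lib.Components.PComponent
import Cfsg.Agent.Lib.Tech46.BBalance.PComp

/-!
Odd subgroups of centralisers against the components of `C/O(C)`.
-/

set_option autoImplicit false

namespace CfsgLib.FTCons.GoldFunctor

open Subgroup CfsgLib.Components
open scoped commutatorElement

local instance : Fact (Nat.Prime 2) := ⟨Nat.prime_two⟩

section abstract

variable {Y : Type*} [Group Y]

/-- A commutator with an odd subgroup normalised by a component is trivial. -/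
theorem odd_normalized [Finite Y] (hO : Cfsg.pPrimeCore 2 Y = ⊥) {L W R : Subgroup Y}
    (hL : Cfsg.IsComponent L) (hW : W ≤ normalizer (L : Set Y)) (hR : ¬ 2 ∣ Nat.card R)
    (hLR : L ≤ normalizer (R : Set Y)) (h : ⁅L, W⁆ ≤ R) : ⁅L, W⁆ = ⊥ := by
  have hI : ⁅L, W⁆ ≤ L ⊓ R := le_inf (le_normalizer_iff_commutator_le_left.mp hW) h
  obtain h1 | h1 := component_eq_or_commutator_of_normalized hL inf_le_left
    (show L ≤ normalizer ((L ⊓ R : Subgroup Y) : Set Y) from
      (le_inf le_normalizer hLR).trans inf_normalizer_le_normalizer_inf)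
  · exact absurd ((dvd_card_component hO hL).trans (card_dvd_of_le (inf_eq_left.mp h1))) hR
  · refine commutator_eq_bot_of_perfect (component_commutator_self hL) (le_bot_iff.mp ?_)
    exact (commutator_mono hI le_rfl).trans (by rw [commutator_comm, h1])

/-- `W` normalises `L` and `A` centralises it: `[W,A]` centralises `L`. -/
theorem commutator_le_centralizer {L W A : Subgroup Y} (hW : W ≤ normalizer (L : Set Y))
    (hA : A ≤ centralizer (L : Set Y)) : ⁅W, A⁆ ≤ centralizer (L : Set Y) := by
  rw [commutator_le]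
  intro w hw a ha
  rw [commutatorElement_def]
  exact mul_mem ((mem_normalizer_iff.mp (normalizer_le_normalizer_centralizer L (hW hw)) a).mp (hA ha))
    (inv_mem (hA ha))

end abstract

variable {K : Type*} [Group K] [Finite K]

/-- The quotient by the odd core. -/
abbrev quo (K : Type*) [Group K] : K →* K ⧸ Cfsg.pPrimeCore 2 K :=
  QuotientGroup.mk' (Cfsg.pPrimeCore 2 K)

theorem quo_core_eq_bot : Cfsg.pPrimeCore 2 (K ⧸ Cfsg.pPrimeCore 2 K) = ⊥ :=
  CfsgLib.PCore.pPrimeCore_quotient_pPrimeCore

theorem le_range_of_fixed {L : Subgroup (K ⧸ Cfsg.pPrimeCore 2 K)} {T : Subgroup K}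
    (hT : IsPGroup 2 T) (hTL : T.map (quo K) ≤ centralizer (L : Set _)) :
    L ≤ (centralizer (T : Set K)).map (quo K) := by
  rw [map_centralizer_quotient CfsgLib.PCore.pPrimeCore_coprime hT]
  exact le_centralizer_iff.mp hTL

/-- The core of the centraliser of `T` centralises the components centralised by `T`. -/
theorem core_commutes {L : Subgroup (K ⧸ Cfsg.pPrimeCore 2 K)} (hL : Cfsg.IsComponent L)
    {T : Subgroup K} (hT : IsPGroup 2 T) (hTL : T.map (quo K) ≤ centralizer (L : Set _))
    {V : Subgroup K} (hV : V ≤ centralizerCore 2 (T : Set K))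
    (hVN : V.map (quo K) ≤ normalizer (L : Set _)) : ⁅L, V.map (quo K)⁆ = ⊥ := by
  have hLR : L ≤ normalizer (((centralizerCore 2 (T : Set K)).map (quo K) : Subgroup _) : Set _) := by
    refine (le_range_of_fixed hT hTL).trans ((map_mono ?_).trans (le_normalizer_map _))
    rw [le_normalizer_iff]
    exact fun c hc y hy => conj_mem_centralizerCore (centralizer_le_normalizer _ hc) hy
  refine odd_normalized quo_core_eq_bot hL hVN ?_ hLR
    ((commutator_mono le_rfl (map_mono hV)).trans ?_)
  · intro h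
    exact Nat.prime_two.coprime_iff_not_dvd.mp
      (card_centralizerCore_coprime (p := 2) (T : Set K)).symm (h.trans (card_map_dvd _ _))
  · rw [commutator_comm]
    exact le_normalizer_iff_commutator_le_left.mp hLR

theorem orderOf_quo {a : K} (ha : orderOf a = 2) : orderOf (quo K a) = 2 := by
  have hsq : a ^ 2 = 1 := ha ▸ pow_orderOf_eq_one a
  refine orderOf_eq_prime (by rw [← map_pow, hsq, map_one]) fun h1 => ?_
  have h2 : orderOf a ∣ Nat.card (Cfsg.pPrimeCore 2 K) :=
    orderOf_dvd_natCard _ ((QuotientGroup.eq_one_iff a).mp h1)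
  rw [ha] at h2
  exact CfsgLib.PCore.not_dvd_card_pPrimeCore h2

theorem map_core_normalizes {a : K} (ha : orderOf a = 2)
    {L : Subgroup (K ⧸ Cfsg.pPrimeCore 2 K)} (hL : Cfsg.IsComponent L) {W : Subgroup K}
    (hW : W ≤ Cfsg.centralizerPPrimeCore 2 a) : W.map (quo K) ≤ normalizer (L : Set _) :=
  (map_mono hW).trans ((map_centralizerPPrimeCore_le (isPGroup_zpowers ha)).trans
    (centralizerPPrimeCore_le_normalizer_component quo_core_eq_bot (orderOf_quo ha) hL))

theorem map_core_commutes {a : K} (ha : orderOf a = 2)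
    {L : Subgroup (K ⧸ Cfsg.pPrimeCore 2 K)} (hL : Cfsg.IsComponent L)
    (hne : ⁅L, zpowers (quo K a)⁆ ≠ L) {W : Subgroup K}
    (hW : W ≤ Cfsg.centralizerPPrimeCore 2 a) : ⁅L, W.map (quo K)⁆ = ⊥ :=
  le_bot_iff.mp ((commutator_mono le_rfl
    ((map_mono hW).trans (map_centralizerPPrimeCore_le (isPGroup_zpowers ha)))).trans
      (commutator_centralizerPPrimeCore_eq_bot quo_core_eq_bot (orderOf_quo ha) hL hne).le)

/-- The core of a centralizer, restricted to a subgroup. -/
theorem centralizerCore_subgroupOf_le {G : Type*} [Group G] [Finite G] (H : Subgroup G)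
    (T : Subgroup G) (hT : T ≤ H) :
    (centralizerCore 2 (T : Set G)).subgroupOf H ≤
      centralizerCore 2 ((T.subgroupOf H : Subgroup H) : Set H) := by
  rintro y ⟨w, hw, hwy⟩
  have hwy' : (w : G) = (y : G) := hwy
  have hmap : ∀ v : H, v ∈ centralizer ((T.subgroupOf H : Subgroup H) : Set H) →
      (v : G) ∈ centralizer (T : Set G) := fun v hv => mem_centralizer_iff.mpr fun t ht =>
    congrArg Subtype.val (mem_centralizer_iff.mp hv ⟨t, hT ht⟩ ht)
  let g : centralizer ((T.subgroupOf H : Subgroup H) : Set H) →* centralizer (T : Set G) :=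
    (H.subtype.comp (centralizer ((T.subgroupOf H : Subgroup H) : Set H)).subtype).codRestrict _
      fun v => hmap v v.2
  have hg : Function.Injective g := fun u v h =>
    Subtype.ext (Subtype.ext (congrArg (fun t : centralizer (T : Set G) => (t : G)) h))
  have hy : y ∈ centralizer ((T.subgroupOf H : Subgroup H) : Set H) :=
    mem_centralizer_iff.mpr fun t ht => Subtype.ext
      (mem_centralizer_iff.mp (hwy' ▸ w.2 : (y : G) ∈ centralizer (T : Set G)) t ht)
  refine ⟨⟨y, hy⟩, CfsgLib.PCore.comap_pPrimeCore_le g hg (x := ⟨y, hy⟩) ?_, rfl⟩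
  show g ⟨y, hy⟩ ∈ Cfsg.pPrimeCore 2 _
  rwa [show g ⟨y, hy⟩ = w from Subtype.ext hwy'.symm]

end CfsgLib.FTCons.GoldFunctor
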