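import Cfsg.Agent.Lib.SignalizerConn42
import Cfsg.Agent.Lib.FTCons.Basic
import Cfsg.Agent.Lib.Coprime.HyperplaneGeneration
import Cfsg.Agent.S1327

/-!
In a group with 2-constrained 2-locals and a normal elementary abelian subgroup of order at least 8 in a
Sylow 2-subgroup `S`, the odd cores of the centralizers of the elements of a noncyclic `B ≤ S` generate
one subgroup `W` of odd order (statement S3110, modulo the Odd Order Theorem and the completeness of
solvable signalizer functors).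
-/

set_option autoImplicit false

namespace CfsgLib.FTCons

open Subgroup CfsgLib.SignalizerConn42

universe u

variable {G : Type u} [Group G]

/-- The subgroup generated by the cores of the centralizers of the non-identity elements of `E`. -/
def coreJoin (E : Subgroup G) : Subgroup G :=
  ⨆ b : {b : G // b ∈ E ∧ b ≠ 1}, Cfsg.centralizerPPrimeCore 2 (b : G)

theorem le_coreJoin {E : Subgroup G} {b : G} (hb : b ∈ E) (hb1 : b ≠ 1) :
    Cfsg.centralizerPPrimeCore 2 b ≤ coreJoin E :=
  le_iSup (fun z : {z : G // z ∈ E ∧ z ≠ 1} => Cfsg.centralizerPPrimeCore 2 (z : G)) ⟨b, hb, hb1⟩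

theorem coreJoin_mono {E E' : Subgroup G} (h : E ≤ E') : coreJoin E ≤ coreJoin E' :=
  iSup_le fun b => le_coreJoin (h b.2.1) b.2.2

variable [Finite G]

theorem normalizer_zpowers_involution {y : G} (hy : orderOf y = 2) :
    normalizer ((zpowers y : Subgroup G) : Set G) = centralizer ({y} : Set G) := by
  ext g
  rw [mem_centralizer_singleton_iff]
  constructor
  · intro hg
    have h1 := (mem_normalizer_iff.1 hg y).1 (mem_zpowers y)
    obtain ⟨k, hk⟩ := mem_zpowers_iff.1 h1
    rw [← zpow_mod_orderOf, hy] at hk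
    rcases Int.emod_two_eq_zero_or_one k with e | e
    · have hk' : g * y * g⁻¹ = 1 := by rw [← hk]; norm_num [e]
      exact absurd (conj_eq_one_iff.1 hk') fun e' => by rw [e', orderOf_one] at hy; omega
    · have hk' : g * y * g⁻¹ = y := by rw [← hk]; norm_num [e]
      exact mul_inv_eq_iff_eq_mul.1 hk'
  · intro hg
    refine mem_normalizer_iff.2 fun z => ?_
    constructor
    · intro hz
      obtain ⟨k, rfl⟩ := mem_zpowers_iff.1 hz
      rw [((show Commute g y from hg).zpow_right k).eq, mul_inv_cancel_right]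
      exact zpow_mem (mem_zpowers y) k
    · intro hz
      obtain ⟨k, hk⟩ := mem_zpowers_iff.1 hz
      have : z = y ^ k := by
        rw [show z = g⁻¹ * (g * z * g⁻¹) * g by group, ← hk, mul_assoc,
          ← ((show Commute g y from hg).zpow_right k).eq, inv_mul_cancel_left]
      rw [this]
      exact zpow_mem (mem_zpowers y) k

/-- Balance: `b` has trivial 2-layer centralizer, `a` is any 2-element commuting with `b`. -/
theorem core_balance {a b : G} (hap : IsPGroup 2 (zpowers a)) (ha1 : a ≠ 1) (hcom : a * b = b * a)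
    (hL : Cfsg.pLayer 2 ↥(centralizer ({b} : Set G)) = ⊥) :
    Cfsg.centralizerPPrimeCore 2 a ⊓ centralizer {b} ≤ Cfsg.centralizerPPrimeCore 2 b := by
  haveI : Fact (Nat.Prime 2) := ⟨Nat.prime_two⟩
  set K := centralizer ({b} : Set G) with hK
  have haK : a ∈ K := mem_centralizer_singleton_iff.mpr hcom
  set P := zpowers (⟨a, haK⟩ : K) with hP
  have hPp : IsPGroup 2 P := by
    intro x
    obtain ⟨n, hn⟩ := hap ⟨((x : K) : G), by
      obtain ⟨i, hi⟩ := mem_zpowers_iff.1 x.2
      exact mem_zpowers_iff.2 ⟨i, by rw [← hi]; rfl⟩⟩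
    exact ⟨n, Subtype.ext (Subtype.ext (congrArg Subtype.val hn :))⟩
  have hP1 : P ≠ ⊥ := fun h => ha1 (congrArg Subtype.val (zpowers_eq_bot.mp h))
  have h93 := (Cfsg.Agent.S1293.result 2 hL P hPp hP1).2
  intro y hy
  have hy' : y ∈ CfsgLib.Components.centralizerCore 2 ({a, b} : Set G) :=
    CfsgLib.Components.centralizerCore_inf_le (Set.singleton_subset_iff.mpr (Set.mem_insert a _))
      ⟨hy.1, by
        show y ∈ centralizer ({a, b} : Set G)
        rw [mem_centralizer_iff]
        rintro z (rfl | rfl)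
        · exact mem_centralizer_iff.mp (CfsgLib.Components.centralizerCore_le_centralizer _ hy.1) z rfl
        · exact mem_centralizer_iff.mp hy.2 z rfl⟩
  obtain ⟨w, hw, rfl⟩ := hy'
  have hleK : centralizer ({a, b} : Set G) ≤ K :=
    centralizer_le (Set.singleton_subset_iff.mpr (Set.mem_insert_of_mem _ rfl))
  have hcen : ∀ x : centralizer ({a, b} : Set G), inclusion hleK x ∈ centralizer (P : Set K) := by
    intro x
    rw [hP, ← CfsgLib.Components.centralizer_singleton_eq, mem_centralizer_singleton_iff]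
    exact Subtype.ext (mem_centralizer_iff.mp x.2 a (Set.mem_insert a _)).symm
  let f : centralizer ({a, b} : Set G) →* centralizer (P : Set K) :=
    (inclusion hleK).codRestrict _ hcen
  have hf : Function.Surjective f := fun z => by
    refine ⟨⟨((z : K) : G), ?_⟩, Subtype.ext (Subtype.ext rfl)⟩
    rw [mem_centralizer_iff]
    rintro t (rfl | rfl)
    · exact congrArg Subtype.val (mem_centralizer_iff.mp z.2 ⟨t, haK⟩ (mem_zpowers _))
    · exact mem_centralizer_iff.mp (z : K).2 t rfl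
  have h1 : inclusion hleK w ∈ CfsgLib.Components.centralizerCore 2 (P : Set K) :=
    ⟨f w, CfsgLib.PCore.map_pPrimeCore_le f hf (mem_map_of_mem f hw), rfl⟩
  exact ⟨inclusion hleK w, h93 (CfsgLib.Components.centralizerCore_le_normalizer_core P h1), rfl⟩

theorem core_le_centralizer (a : G) : Cfsg.centralizerPPrimeCore 2 a ≤ centralizer ({a} : Set G) :=
  map_subtype_le _

theorem odd_core (a : G) : ¬ 2 ∣ Nat.card (Cfsg.centralizerPPrimeCore 2 a) := by
  haveI : Fact (Nat.Prime 2) := ⟨Nat.prime_two⟩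
  rw [Cfsg.centralizerPPrimeCore, card_map_of_injective (subtype_injective _)]
  exact CfsgLib.PCore.not_dvd_card_pPrimeCore

theorem mem_normalizer_core {a c : G} (hc : c * a = a * c) :
    c ∈ normalizer (Cfsg.centralizerPPrimeCore 2 a : Set G) := by
  haveI : Fact (Nat.Prime 2) := ⟨Nat.prime_two⟩
  refine CfsgLib.Coprime.mem_normalizer_of_forall_conj fun x hx => ?_
  have h := centralizerPPrimeCore_conj (p := 2) a c (mem_map_of_mem _ hx)
  rwa [hc, mul_inv_cancel_right] at h

theorem commute_of_elemAb {E : Subgroup G} (hE : Cfsg.IsElementaryAbelian 2 E) {x y : G} (hx : x ∈ E)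
    (hy : y ∈ E) : x * y = y * x :=
  congrArg Subtype.val (hE.1.is_comm.comm ⟨x, hx⟩ ⟨y, hy⟩)

/-- A noncyclic subgroup of an elementary abelian 2-group generates the same subgroup. -/
theorem coreJoin_eq_of_le
    (hL : ∀ y : G, orderOf y = 2 → Cfsg.pLayer 2 ↥(centralizer ({y} : Set G)) = ⊥)
    {F E : Subgroup G} (hFE : F ≤ E) (hE : Cfsg.IsElementaryAbelian 2 E) (hF : 2 < Nat.card F) :
    coreJoin E = coreJoin F := by
  haveI : Fact (Nat.Prime 2) := ⟨Nat.prime_two⟩
  refine le_antisymm (iSup_le fun e => ?_) (coreJoin_mono hFE)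
  haveI : IsMulCommutative F := ⟨⟨fun x y => Subtype.ext (commute_of_elemAb hE (hFE x.2) (hFE y.2))⟩⟩
  have hncyc : ¬ IsCyclic F := fun hcyc => by
    haveI := hcyc
    obtain ⟨g, hg⟩ := IsCyclic.exists_generator (α := F)
    have h1 : Nat.card F ≤ 2 := by
      rw [← orderOf_eq_card_of_forall_mem_zpowers hg]
      exact Nat.le_of_dvd two_pos (orderOf_dvd_of_pow_eq_one
        (show g ^ 2 = 1 from Subtype.ext (by simpa using hE.2 _ (hFE g.2))))
    omega
  have hFp : IsPGroup 2 F := fun x => ⟨1, Subtype.ext (by simpa using hE.2 _ (hFE x.2))⟩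
  obtain ⟨n, hn⟩ := IsPGroup.iff_card.mp hFp
  rw [← CfsgLib.CoprimeGeneration.iSup_centralizer_eq F (Cfsg.centralizerPPrimeCore 2 (e : G)) hncyc
    (fun y hy => mem_normalizer_core (commute_of_elemAb hE (hFE hy) e.2.1))
    (hn ▸ Nat.Coprime.pow_left n (Nat.prime_two.coprime_iff_not_dvd.mpr (odd_core _)))]
  refine iSup₂_le fun y hy => ?_
  have hy2 : orderOf y = 2 := orderOf_eq_prime (hE.2 y (hFE hy.1)) hy.2
  have hep : IsPGroup 2 (zpowers (e : G)) := fun x => ⟨1, Subtype.ext (by
    simpa using hE.2 _ (zpowers_le.2 e.2.1 x.2))⟩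
  exact (core_balance hep e.2.2 (commute_of_elemAb hE e.2.1 (hFE hy.1)) (hL y hy2)).trans
    (le_coreJoin hy.1 hy.2)

theorem two_constrained_layer
    (h2c : ∀ T : Subgroup G, IsPGroup 2 T → T ≠ ⊥ →
      Cfsg.IsPConstrained 2 ↥(normalizer (T : Set G)))
    (y : G) (hy : orderOf y = 2) : Cfsg.pLayer 2 ↥(centralizer ({y} : Set G)) = ⊥ := by
  haveI : Fact (Nat.Prime 2) := ⟨Nat.prime_two⟩
  have h := h2c (zpowers y) (CfsgLib.Components.isPGroup_zpowers hy)
    (fun e => by rw [zpowers_eq_bot] at e; rw [e, orderOf_one] at hy; omega)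
  rw [normalizer_zpowers_involution hy] at h
  exact (Cfsg.Agent.S1327.result 2).1 h

/-- The elementary abelian normal subgroup of a Sylow 2-subgroup given by the hypothesis. -/
theorem exists_normal_elemAb (S : Sylow 2 G) (A : Subgroup ↥(S : Subgroup G)) (hAn : A.Normal)
    (hAab : IsMulCommutative ↥A) (hA3 : ¬ Cfsg.PRankLE 2 2 ↥A) (S' : Sylow 2 G) :
    ∃ V : Subgroup G, V ≤ (S' : Subgroup G) ∧ Cfsg.IsElementaryAbelian 2 V ∧ 4 < Nat.card V ∧
      (S' : Subgroup G) ≤ normalizer (V : Set G) := by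
  haveI : Fact (Nat.Prime 2) := ⟨Nat.prime_two⟩
  obtain ⟨g, rfl⟩ := MulAction.exists_smul_eq G S S'
  have hAc : ∀ x ∈ A, ∀ y ∈ A, x * y = y * x := fun x hx y hy =>
    congrArg Subtype.val (hAab.is_comm.comm (⟨x, hx⟩ : A) ⟨y, hy⟩)
  let O : Subgroup ↥(S : Subgroup G) :=
    { carrier := {a | a ∈ A ∧ a ^ 2 = 1}
      one_mem' := ⟨A.one_mem, one_pow _⟩
      mul_mem' := fun {x y} hx hy => ⟨A.mul_mem hx.1 hy.1, by
        rw [(show Commute x y from hAc x hx.1 y hy.1).mul_pow, hx.2, hy.2, one_mul]⟩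
      inv_mem' := fun {x} hx => ⟨A.inv_mem hx.1, by rw [inv_pow, hx.2, inv_one]⟩ }
  let f : ↥(S : Subgroup G) →* G := (MulAut.conj g).toMonoidHom.comp (S : Subgroup G).subtype
  have hf : Function.Injective f := (MulAut.conj g).injective.comp Subtype.val_injective
  have hS' : ((g • S : Sylow 2 G) : Subgroup G) = f.range := by
    rw [MonoidHom.range_comp, range_subtype]
    rfl
  refine ⟨O.map f, ?_, ⟨?_, ?_⟩, ?_, ?_⟩
  · rw [hS']
    exact map_le_range f O
  · haveI : IsMulCommutative O := ⟨⟨fun x y => Subtype.ext (hAc x x.2.1 y y.2.1)⟩⟩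
    exact Subgroup.map_isMulCommutative O f
  · rintro _ ⟨x, hx, rfl⟩
    rw [← map_pow, hx.2, map_one]
  · simp only [Cfsg.PRankLE, not_forall, not_le] at hA3
    obtain ⟨A₀, -, hA₀, hcard⟩ := hA3
    rw [card_map_of_injective hf]
    have hle : A₀.map A.subtype ≤ O := by
      rintro _ ⟨x, hx, rfl⟩
      exact ⟨x.2, congrArg Subtype.val (hA₀ x hx)⟩
    have := card_le_of_le hle
    rw [card_map_of_injective A.subtype_injective] at this
    omega
  · rw [hS']
    rintro _ ⟨s, rfl⟩
    refine CfsgLib.Coprime.mem_normalizer_of_forall_conj ?_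
    rintro _ ⟨x, hx, rfl⟩
    exact ⟨s * x * s⁻¹, ⟨hAn.conj_mem x hx.1 s, by rw [conj_pow, hx.2, mul_one, mul_inv_cancel]⟩,
      by simp only [map_mul, map_inv]⟩

/-- The common subgroup generated by the cores. -/
theorem core_completion (hFT : OddSolvable.{u}) (hcomp : Completion G 2)
    (h2c : ∀ T : Subgroup G, IsPGroup 2 T → T ≠ ⊥ →
      Cfsg.IsPConstrained 2 ↥(normalizer (T : Set G)))
    (S : Sylow 2 G) (A : Subgroup ↥(S : Subgroup G)) (hAn : A.Normal) (hAab : IsMulCommutative ↥A)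
    (hA3 : ¬ Cfsg.PRankLE 2 2 ↥A) (S' : Sylow 2 G) :
    ∃ W : Subgroup G, Odd (Nat.card ↥W) ∧
      ∀ B : Subgroup G, B ≤ (S' : Subgroup G) → ¬ Cfsg.PRankLE 2 1 ↥B →
        W = (⨆ b : {b : G // b ∈ B ∧ b ≠ 1}, Cfsg.centralizerPPrimeCore 2 (b : G)) ∧
        normalizer (B : Set G) ≤ normalizer (W : Set G) := by
  haveI : Fact (Nat.Prime 2) := ⟨Nat.prime_two⟩
  obtain ⟨V, hVS, hV, hV4, hSV⟩ := exists_normal_elemAb S A hAn hAab hA3 S'
  have hL := two_constrained_layer h2c
  refine ⟨coreJoin V, ?_, ?_⟩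
  · -- odd order
    have hVp : IsPGroup 2 V := fun x => ⟨1, Subtype.ext (by simpa using hV.2 _ x.2)⟩
    have h8 : 2 ^ 3 ≤ Nat.card V := by
      obtain ⟨n, hn⟩ := IsPGroup.iff_card.mp hVp
      rw [hn] at hV4 ⊢
      refine Nat.pow_le_pow_right two_pos ?_
      by_contra h
      have : 2 ^ n ≤ 2 ^ 2 := Nat.pow_le_pow_right two_pos (by omega)
      omega
    rw [← Nat.not_even_iff_odd, even_iff_two_dvd]
    exact hcomp V (fun x hx y hy => commute_of_elemAb hV hx hy) hV.2 h8
      (fun a => Cfsg.centralizerPPrimeCore 2 a) (fun a _ _ => core_le_centralizer a)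
      (fun a _ _ => odd_core a)
      (fun a ha _ b hb x hx => (mem_normalizer_iff.1
        (mem_normalizer_core (commute_of_elemAb hV hb ha)) x).1 hx)
      (fun a _ _ => hFT _ (by
        rw [← Nat.not_even_iff_odd, even_iff_two_dvd]; exact odd_core a))
      (fun a ha ha1 b hb hb1 => core_balance
        (fun x => ⟨1, Subtype.ext (by simpa using hV.2 _ (zpowers_le.2 ha x.2))⟩) ha1
        (commute_of_elemAb hV ha hb) (hL b (orderOf_eq_prime (hV.2 b hb) hb1)))
  -- a central involution of `S'` in `V`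
  obtain ⟨z, hzV, hz2, hzc⟩ : ∃ z ∈ V, orderOf z = 2 ∧ ∀ s ∈ (S' : Subgroup G), s * z = z * s := by
    haveI := S'.2.isNilpotent
    haveI : (V.subgroupOf (S' : Subgroup G)).Normal := normal_subgroupOf_of_le_normalizer hSV
    have hne : V.subgroupOf (S' : Subgroup G) ≠ ⊥ := fun e => by
      have := (Nat.card_congr (subgroupOfEquivOfLe hVS).toEquiv).symm
      rw [e, Subgroup.card_bot] at this
      omega
    obtain ⟨w, hw, hwc, hw1⟩ :=
      CfsgLib.Coprime39.exists_central_mem (V.subgroupOf (S' : Subgroup G)) hne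
    refine ⟨w, hw, orderOf_eq_prime (hV.2 _ hw) (fun e => hw1 (Subtype.ext e)),
      fun s hs => congrArg Subtype.val (mem_center_iff.1 hwc ⟨s, hs⟩)⟩
  have hz1 : z ≠ 1 := fun e => by rw [e, orderOf_one] at hz2; omega
  -- for an involution outside `V`
  have hext : ∀ x ∈ (S' : Subgroup G), orderOf x = 2 → x ∉ V →
      ∃ E F : Subgroup G, Cfsg.IsElementaryAbelian 2 E ∧ x ∈ E ∧ z ∈ E ∧ F ≤ E ∧ F ≤ V ∧
        2 < Nat.card F := by
    intro x hx hx2 hxV
    have hxx : x * x = 1 := by rw [← pow_two, ← hx2, pow_orderOf_eq_one]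
    have hxi : x⁻¹ = x := inv_eq_of_mul_eq_one_right hxx
    have hxn : ∀ v ∈ V, x * v * x⁻¹ ∈ V := fun v hv => (mem_normalizer_iff.1 (hSV hx) v).1 hv
    letI : CommGroup V :=
      { (inferInstance : Group V) with mul_comm := fun a b => hV.1.is_comm.comm a b }
    let φ : V →* V := MonoidHom.mk' (fun v => v * ⟨x * v * x⁻¹, hxn v v.2⟩) fun v w => by
      refine Subtype.ext ?_
      have hc := commute_of_elemAb hV (hxn v v.2) w.2
      show (v : G) * w * (x * (v * w) * x⁻¹) = v * (x * v * x⁻¹) * (w * (x * w * x⁻¹))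
      calc (v : G) * w * (x * (v * w) * x⁻¹) = v * ((w : G) * (x * v * x⁻¹)) * (x * w * x⁻¹) := by group
        _ = v * ((x * v * x⁻¹) * w) * (x * w * x⁻¹) := by rw [hc]
        _ = _ := by group
    set F := (φ.ker).map V.subtype with hF
    have hFfix : ∀ v ∈ F, x * v = v * x := by
      rintro _ ⟨v, hv, rfl⟩
      have h1 : (v : G) * (x * v * x⁻¹) = 1 := congrArg Subtype.val hv
      have h2 : (v : G)⁻¹ = v := inv_eq_of_mul_eq_one_right (by rw [← pow_two]; exact hV.2 _ v.2)
      have h3 : x * v * x⁻¹ = v := by rw [← eq_inv_of_mul_eq_one_right h1] at h2; exact h2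
      exact mul_inv_eq_iff_eq_mul.1 h3
    have hrange : φ.range ≤ φ.ker := by
      rintro _ ⟨v, rfl⟩
      refine Subtype.ext ?_
      show (v : G) * (x * v * x⁻¹) * (x * (v * (x * v * x⁻¹)) * x⁻¹) = 1
      have hc := commute_of_elemAb hV (hxn v v.2) v.2
      calc (v : G) * (x * v * x⁻¹) * (x * (v * (x * v * x⁻¹)) * x⁻¹)
          = v * ((x * v * x⁻¹) * (x * v * x⁻¹)) * ((x * x) * v * (x * x)⁻¹) := by group
        _ = v * (x * (v * v) * x⁻¹) * v := by rw [hxx]; group
        _ = 1 := by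
          rw [← pow_two (v : G), hV.2 _ v.2, mul_one, mul_inv_cancel, mul_one, ← pow_two,
            hV.2 _ v.2]
    have hcard : 2 < Nat.card F := by
      rw [hF, card_map_of_injective V.subtype_injective]
      have h1 := Subgroup.card_mul_index φ.ker
      rw [Subgroup.index_ker] at h1
      have h2 := card_le_of_le hrange
      by_contra h3
      have : Nat.card V ≤ 2 * 2 := h1 ▸ Nat.mul_le_mul (by omega) (by omega)
      omega
    have hzF : z ∈ F := by
      refine ⟨⟨z, hzV⟩, Subtype.ext ?_, rfl⟩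
      show z * (x * z * x⁻¹) = 1
      rw [hzc x hx, mul_inv_cancel_right, ← pow_two]
      exact hV.2 z hzV
    refine ⟨F ⊔ zpowers x, F, elemAb_sup ⟨?_, fun v hv => hV.2 v (map_subtype_le _ hv)⟩
      (elemAb_zpowers (hx2 ▸ pow_orderOf_eq_one x)) (fun v hv y hy => ?_),
      mem_sup_right (mem_zpowers x), mem_sup_left hzF, le_sup_left, map_subtype_le _, hcard⟩
    · exact ⟨⟨fun a b => Subtype.ext
        (commute_of_elemAb hV (map_subtype_le _ a.2) (map_subtype_le _ b.2))⟩⟩
    · obtain ⟨k, rfl⟩ := mem_zpowers_iff.1 hy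
      exact ((show Commute v x from (hFfix v hv).symm).zpow_right k).eq
  -- noncyclic elementary subgroups of `S'`
  have hfour : ∀ F : Subgroup G, F ≤ (S' : Subgroup G) → Cfsg.IsElementaryAbelian 2 F →
      2 < Nat.card F → coreJoin F = coreJoin V := by
    intro F hFS hF hF2
    by_cases hFV : F ≤ V
    · exact (coreJoin_eq_of_le hL hFV hV hF2).symm
    obtain ⟨x, hxF, hxV⟩ := Set.not_subset.1 hFV
    have hx1 : x ≠ 1 := fun e => hxV (e ▸ V.one_mem)
    obtain ⟨E, P, hE, hxE, hzE, hPE, hPV, hP⟩ :=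
      hext x (hFS hxF) (orderOf_eq_prime (hF.2 x hxF) hx1) hxV
    have hE1 : Cfsg.IsElementaryAbelian 2 (F ⊔ zpowers z : Subgroup G) := by
      refine elemAb_sup hF (elemAb_zpowers (hz2 ▸ pow_orderOf_eq_one z)) fun v hv y hy => ?_
      obtain ⟨k, rfl⟩ := mem_zpowers_iff.1 hy
      exact ((show Commute v z from hzc v (hFS hv)).zpow_right k).eq
    set Q := zpowers x ⊔ zpowers z with hQ
    have hQ1 : Q ≤ F ⊔ zpowers z := sup_le_sup_right (zpowers_le.2 hxF) _
    have hQE : Q ≤ E := sup_le (zpowers_le.2 hxE) (zpowers_le.2 hzE)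
    have hQ2 : 2 < Nat.card Q := by
      have hlt : zpowers z < Q := lt_of_le_not_ge le_sup_right fun h =>
        hxV (zpowers_le.2 hzV (h (mem_sup_left (mem_zpowers x))))
      have h1 := card_le_of_le hlt.le
      rw [Nat.card_zpowers, hz2] at h1
      refine lt_of_le_of_ne h1 fun e => hlt.ne (eq_of_le_of_card_ge hlt.le ?_)
      rw [Nat.card_zpowers, hz2]
      exact e.ge
    calc coreJoin F = coreJoin (F ⊔ zpowers z) := (coreJoin_eq_of_le hL le_sup_left hE1 hF2).symm
      _ = coreJoin Q := coreJoin_eq_of_le hL hQ1 hE1 hQ2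
      _ = coreJoin E := (coreJoin_eq_of_le hL hQE hE hQ2).symm
      _ = coreJoin P := coreJoin_eq_of_le hL hPE hE hP
      _ = coreJoin V := (coreJoin_eq_of_le hL hPV hV hP).symm
  intro B hBS hB
  have hWB : coreJoin V = coreJoin B := by
    refine le_antisymm ?_ (iSup_le fun b => ?_)
    · simp only [Cfsg.PRankLE, not_forall, not_le] at hB
      obtain ⟨F₀, hF₀c, hF₀p, hF₀⟩ := hB
      haveI := hF₀c
      rw [← hfour (F₀.map B.subtype) ((map_subtype_le _).trans hBS)
        ⟨Subgroup.map_isMulCommutative F₀ B.subtype, by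
          rintro _ ⟨y, hy, rfl⟩; rw [← map_pow, hF₀p y hy, map_one]⟩
        (by rw [card_map_of_injective B.subtype_injective]; simpa using hF₀)]
      exact coreJoin_mono (map_subtype_le _)
    · obtain ⟨b, hbB, hb1⟩ := b
      obtain ⟨k, hk⟩ := IsPGroup.iff_orderOf.1 S'.2 ⟨b, hBS hbB⟩
      rw [← Subgroup.orderOf_coe] at hk
      change orderOf b = 2 ^ k at hk
      obtain ⟨k, rfl⟩ : ∃ j, k = j + 1 := by
        rcases k with _ | j
        · exact absurd (orderOf_eq_one_iff.1 (hk.trans (pow_zero _))) hb1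
        · exact ⟨j, rfl⟩
      set x := b ^ 2 ^ k with hxdef
      have hx2 : orderOf x = 2 := by
        rw [hxdef, orderOf_pow, hk, Nat.gcd_eq_right (pow_dvd_pow 2 k.le_succ), pow_succ,
          Nat.mul_div_cancel_left _ (pow_pos two_pos k)]
      have hbp : IsPGroup 2 (zpowers b) := by
        refine IsPGroup.iff_card.2 ⟨k + 1, ?_⟩
        rw [Nat.card_zpowers, hk]
      have hbx : Cfsg.centralizerPPrimeCore 2 b ≤ Cfsg.centralizerPPrimeCore 2 x := by
        refine le_trans (le_inf le_rfl fun y hy => mem_centralizer_singleton_iff.2 ?_)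
          (core_balance hbp hb1 (Commute.pow_right (Commute.refl b) _).eq (hL x hx2))
        exact ((show Commute y b from
          mem_centralizer_singleton_iff.1 (core_le_centralizer b hy)).pow_right _).eq
      refine hbx.trans ?_
      have hxS : x ∈ (S' : Subgroup G) := hBS (pow_mem hbB _)
      have hx1 : x ≠ 1 := fun e => by rw [e, orderOf_one] at hx2; omega
      by_cases hxV : x ∈ V
      · exact le_coreJoin hxV hx1
      · obtain ⟨E, P, hE, hxE, -, hPE, hPV, hP⟩ := hext x hxS hx2 hxV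
        rw [coreJoin_eq_of_le hL hPV hV hP, ← coreJoin_eq_of_le hL hPE hE hP]
        exact le_coreJoin hxE hx1
  refine ⟨hWB, fun g hg => ?_⟩
  rw [hWB]
  refine CfsgLib.Coprime.mem_normalizer_of_forall_conj fun y hy => ?_
  have hle : (coreJoin B).map (MulAut.conj g).toMonoidHom ≤ coreJoin B := by
    rw [coreJoin, Subgroup.map_iSup]
    exact iSup_le fun b => (centralizerPPrimeCore_conj (p := 2) (b : G) g).trans
      (le_coreJoin ((mem_normalizer_iff.1 hg b).1 b.2.1) fun e => b.2.2 (conj_eq_one_iff.1 e))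
  exact hle (mem_map_of_mem _ hy)

end CfsgLib.FTCons
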