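import Cfsg.Agent.Lib.TransLinear.Huppert
import Cfsg.Agent.Lib.AutPSL.FieldGalois

/-!
A solvable group transitive on the nonzero vectors of a space of order `2 ^ n` has a normal subgroup
of prime order `p` containing all its elements of order `p`, with `|A| < p (2 ^ n - 1)`.
-/

set_option autoImplicit false

namespace CfsgLib.FTCons.AbelianFactor

open Subgroup CfsgLib.TransLinear

theorem exists_large_prime {n : ℕ} (hn : 2 ≤ n) : ∃ p, p.Prime ∧ n < p ∧ p ∣ 2 ^ n - 1 := by
  rcases eq_or_lt_of_le hn with rfl | h3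
  · exact ⟨3, by norm_num⟩
  by_cases h6 : n = 6
  · subst h6; exact ⟨7, by norm_num⟩
  obtain ⟨r, hr⟩ := CfsgLib.NumberTheory.exists_isPPD_of_two_lt (a := 2) (n := n) one_lt_two h3
    (fun h => h6 h.2)
  exact ⟨r, hr.1, hr.lt one_le_two (by omega), hr.2.1⟩

theorem exists_prime_normal {V : Type*} [AddCommGroup V] [Module (ZMod 2) V] [Finite V]
    {A : Type*} [Group A] [Finite A] {ρ : A →* (V ≃ₗ[ZMod 2] V)} (hρ : Function.Injective ρ)
    (hsol : Group.IsSolvable A) (htr : Trans ρ) (hn : 2 ≤ Module.finrank (ZMod 2) V) :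
    ∃ p, p.Prime ∧ Nat.card A < p * (Nat.card V - 1) ∧
      ∃ P : Subgroup A, Nat.card P = p ∧ P.Normal ∧ ∀ x : A, x ^ p = 1 → x ∈ P := by
  classical
  have : Nontrivial V := Module.nontrivial_of_finrank_pos (R := ZMod 2) (by omega)
  set n := Module.finrank (ZMod 2) V with hn'
  have hV : Nat.card V = 2 ^ n := by
    rw [Module.natCard_eq_pow_finrank (K := ZMod 2) (V := V), Nat.card_zmod]
  obtain ⟨F, _, _, e, he⟩ := (huppert hsol hρ htr).resolve_right fun h => by
    have h2 : 2 ∣ Nat.card V := hV ▸ dvd_pow_self 2 (by omega)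
    simp only [Set.mem_insert_iff, Set.mem_singleton_iff] at h
    omega
  have hF : Fintype.card F = 2 ^ n := by
    rw [← Nat.card_eq_fintype_card, ← Nat.card_congr e.toEquiv, hV]
  choose a σ hσ using he
  set v₁ : V := e.symm 1 with hv₁
  have ha : ∀ g, e (ρ g v₁) = a g := fun g => by
    rw [hσ, hv₁, AddEquiv.apply_symm_apply, map_one, mul_one]
  have ha0 : ∀ g, a g ≠ 0 := fun g h => by
    have h1 := ha g
    rw [h, AddEquiv.map_eq_zero_iff, LinearEquiv.map_eq_zero_iff, hv₁,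
      AddEquiv.map_eq_zero_iff] at h1
    exact one_ne_zero h1
  have huniq : ∀ g (b : F) (τ : F ≃+* F), (∀ v, e (ρ g v) = b * τ (e v)) → b = a g ∧ τ = σ g := by
    intro g b τ h
    have hb : b = a g := by
      have := h v₁
      rw [ha, hv₁, AddEquiv.apply_symm_apply, map_one, mul_one] at this
      exact this.symm
    refine ⟨hb, RingEquiv.ext fun x => ?_⟩
    have := h (e.symm x)
    rw [hσ, AddEquiv.apply_symm_apply, hb] at this
    exact (mul_left_cancel₀ (ha0 g) this).symm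
  have hmul : ∀ g h, a (g * h) = a g * σ g (a h) ∧ σ (g * h) = σ g * σ h := fun g h => by
    have := huniq (g * h) (a g * σ g (a h)) (σ g * σ h) fun v => by
      rw [map_mul, LinearEquiv.mul_apply, hσ, hσ, map_mul, mul_assoc]
      rfl
    exact ⟨this.1.symm, this.2.symm⟩
  let φ : A →* (F ≃+* F) := MonoidHom.mk' σ fun g h => (hmul g h).2
  have hinj : ∀ g h, a g = a h → σ g = σ h → g = h := fun g h h1 h2 =>
    hρ (LinearEquiv.ext fun v => e.injective (by rw [hσ, hσ, h1, h2]))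
  have hgal : Nat.card (F ≃+* F) = n := CfsgLib.FieldGalois.card_ringAut hF
  obtain ⟨p, hp, hnp, hpd⟩ := exists_large_prime hn
  have : Fact p.Prime := ⟨hp⟩
  have hcard : Nat.card A ≤ (Nat.card V - 1) * n := by
    have hle := Nat.card_le_card_of_injective
      (fun g => ((Units.mk0 (a g) (ha0 g), σ g) : Fˣ × (F ≃+* F)))
      (fun g h hgh => by
        simp only [Prod.mk.injEq, Units.ext_iff, Units.val_mk0] at hgh
        exact hinj g h hgh.1 hgh.2)
    rwa [Nat.card_prod, hgal, Nat.card_units, Nat.card_eq_fintype_card (α := F), hF, ← hV] at hle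
  have hV1 : 0 < Nat.card V - 1 := by
    have := Finite.one_lt_card (α := V)
    omega
  refine ⟨p, hp, lt_of_le_of_lt hcard ?_, ?_⟩
  · rw [mul_comm p]; exact Nat.mul_lt_mul_of_pos_left hnp hV1
  obtain ⟨z, hz⟩ := exists_prime_orderOf_dvd_card' (G := A) p
    (hpd.trans (pow_sub_one_dvd htr))
  have hker : ∀ x : A, x ^ p = 1 → σ x = 1 := fun x hx => by
    have h1 : orderOf (φ x) ∣ p := orderOf_dvd_of_pow_eq_one (by rw [← map_pow, hx, map_one])
    rcases (Nat.dvd_prime hp).1 h1 with h | h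
    · exact orderOf_eq_one_iff.1 h
    · have := Nat.le_of_dvd Nat.card_pos (orderOf_dvd_natCard (φ x))
      rw [h, hgal] at this
      omega
  have hzσ := hker z (hz ▸ pow_orderOf_eq_one z)
  have hone : a 1 = 1 ∧ σ 1 = 1 := by
    have := huniq 1 1 1 fun v => by simp
    exact ⟨this.1.symm, this.2.symm⟩
  have hpowa : ∀ (g : A) (k : ℕ), σ g = 1 → a (g ^ k) = a g ^ k ∧ σ (g ^ k) = 1 := by
    intro g k hg
    induction k with
    | zero => simpa using hone
    | succ k ih =>
      rw [pow_succ, pow_succ]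
      refine ⟨?_, by rw [(hmul _ _).2, ih.2, hg, one_mul]⟩
      rw [(hmul _ _).1, ih.1, ih.2]
      rfl
  have hprim : IsPrimitiveRoot (a z) p := by
    refine IsPrimitiveRoot.iff_def (a z) p |>.2 ⟨?_, fun l hl => ?_⟩
    · rw [← (hpowa z p hzσ).1, ← hz, pow_orderOf_eq_one, hone.1]
    · rw [← hz]
      refine orderOf_dvd_of_pow_eq_one (hinj _ _ ?_ ?_)
      · rw [(hpowa z l hzσ).1, hl, hone.1]
      · rw [(hpowa z l hzσ).2, hone.2]
  have hmem : ∀ x : A, x ^ p = 1 → x ∈ zpowers z := fun x hx => by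
    have : NeZero p := ⟨hp.ne_zero⟩
    have hx1 : a x ^ p = 1 := by rw [← (hpowa x p (hker x hx)).1, hx, hone.1]
    obtain ⟨i, -, hi⟩ := hprim.eq_pow_of_pow_eq_one hx1
    refine ⟨(i : ℤ), ?_⟩
    show z ^ (i : ℤ) = x
    rw [zpow_natCast]
    exact hinj _ _ (by rw [(hpowa z i hzσ).1, hi]) (by rw [(hpowa z i hzσ).2, hker x hx])
  refine ⟨zpowers z, by rw [Nat.card_zpowers, hz], ⟨fun x hx g => hmem _ ?_⟩, hmem⟩
  rw [conj_pow]
  have : x ^ p = 1 := orderOf_dvd_iff_pow_eq_one.1 (hz ▸ orderOf_dvd_of_mem_zpowers hx)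
  rw [this, mul_one, mul_inv_cancel]

end CfsgLib.FTCons.AbelianFactor
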