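import Cfsg.Agent.Lib.FTCons.Basic
import Cfsg.Agent.Lib.FTCons.AbelianFactorLinear
import Cfsg.Agent.Lib.Solvable.Fitting
import Cfsg.Agent.Lib.Structure.FpfModule

/-!
Modulo the odd order theorem: a group with abelian Sylow 2-subgroups and a subgroup of odd order and
2-power index is solvable.
-/

set_option autoImplicit false
set_option linter.style.haveILetI false

namespace CfsgLib.FTCons.AbelianFactor

open Subgroup
open scoped Pointwise

universe u

variable {G : Type u} [Group G] [Finite G]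

theorem eq_one_of_two_odd {x : G} {k : ℕ} {H : Subgroup G} (h : x ^ 2 ^ k = 1) (hx : x ∈ H)
    (hH : Odd (Nat.card H)) : x = 1 := by
  rw [← orderOf_eq_one_iff]
  exact Nat.eq_one_of_dvd_coprimes ((Nat.coprime_two_left.2 hH).pow_left k)
    (orderOf_dvd_of_pow_eq_one h) (Subgroup.orderOf_dvd_natCard H hx)

theorem eq_one_of_sylow_odd (T : Sylow 2 G) {x : G} {H : Subgroup G} (hxT : x ∈ (T : Subgroup G))
    (hx : x ∈ H) (hH : Odd (Nat.card H)) : x = 1 := by
  obtain ⟨k, hk⟩ := T.isPGroup' ⟨x, hxT⟩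
  exact eq_one_of_two_odd (k := k) (congrArg Subtype.val hk) hx hH

/-- Distinct involutions commute with a common involution or are conjugate. -/
theorem isConj_or_exists_commute {s t : G} (hs : orderOf s = 2) (ht : orderOf t = 2) :
    IsConj s t ∨ ∃ w, orderOf w = 2 ∧ Commute w s ∧ Commute w t := by
  have hs' : s * s = 1 := by rw [← sq, ← hs]; exact pow_orderOf_eq_one s
  have ht' : t * t = 1 := by rw [← sq, ← ht]; exact pow_orderOf_eq_one t
  have hsi : s⁻¹ = s := inv_eq_of_mul_eq_one_right hs'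
  have hti : t⁻¹ = t := inv_eq_of_mul_eq_one_right ht'
  set d := s * t with hd
  have hdi : d⁻¹ = t * s := by rw [hd, mul_inv_rev, hsi, hti]
  have hcs : s * d * s⁻¹ = d⁻¹ := by
    rw [hdi, hd, hsi, ← mul_assoc s s t, hs', one_mul]
  have hct : t * d * t⁻¹ = d⁻¹ := by
    rw [hdi, hd, hti, mul_assoc t (s * t) t, mul_assoc s t t, ht', mul_one]
  rcases Nat.even_or_odd (orderOf d) with ⟨j, hj⟩ | ⟨j, hj⟩
  · right
    have hj0 : j ≠ 0 := fun h => (orderOf_pos d).ne' (by omega)
    have hw : orderOf (d ^ j) = 2 := by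
      rw [orderOf_pow' d hj0, hj, ← two_mul, Nat.gcd_mul_left_left,
        Nat.mul_div_cancel _ (Nat.pos_of_ne_zero hj0)]
    have hwi : (d ^ j)⁻¹ = d ^ j := inv_eq_of_mul_eq_one_right (by
      rw [← pow_add, ← hj, pow_orderOf_eq_one])
    refine ⟨d ^ j, hw, ?_, ?_⟩
    · have : s * d ^ j * s⁻¹ = d ^ j := by rw [← conj_pow, hcs, inv_pow, hwi]
      exact (mul_inv_eq_iff_eq_mul.1 this).symm
    · have : t * d ^ j * t⁻¹ = d ^ j := by rw [← conj_pow, hct, inv_pow, hwi]
      exact (mul_inv_eq_iff_eq_mul.1 this).symm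
  · left
    refine (isConj_iff.2 ⟨d ^ (j + 1), ?_⟩).symm
    have h1 : t * (d ^ (j + 1))⁻¹ = d ^ (j + 1) * t := by
      have : t * d ^ (j + 1) * t⁻¹ = (d ^ (j + 1))⁻¹ := by rw [← conj_pow, hct, inv_pow]
      rw [← this, hti, ← mul_assoc, ← mul_assoc, ht', one_mul]
    rw [mul_assoc, h1, ← mul_assoc, ← pow_add]
    have : d ^ (j + 1 + (j + 1)) = d := by
      rw [show j + 1 + (j + 1) = orderOf d + 1 by omega, pow_succ, pow_orderOf_eq_one, one_mul]
    rw [this, hd, mul_assoc, ht', mul_one]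

/-- A fixed point free involution of a finite set: even cardinality. -/
theorem even_card_of_involution {α : Type*} [Finite α] (f : α → α) (h2 : ∀ a, f (f a) = a)
    (hf : ∀ a, f a ≠ a) : Even (Nat.card α) := by
  classical
  have := Fintype.ofFinite α
  have h : ((Fintype.card α : ℕ) : ZMod 2) = 0 := by
    have := Finset.sum_involution (s := (Finset.univ : Finset α)) (f := fun _ => (1 : ZMod 2))
      (fun a _ => f a) (fun a _ => by decide) (fun a _ _ => hf a) (fun a _ => Finset.mem_univ _)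
      (fun a _ => h2 a)
    simpa using this
  rw [Nat.card_eq_fintype_card, even_iff_two_dvd]
  exact (ZMod.natCast_eq_zero_iff _ 2).1 h

section Factor

variable {H : Subgroup G} {T : Sylow 2 G}

/-- The hypothesis of the factorisation. -/
structure Factor (H : Subgroup G) (T : Sylow 2 G) : Prop where
  odd : Odd (Nat.card H)
  index : ∃ k, H.index = 2 ^ k
  comm : IsMulCommutative (T : Subgroup G)

theorem Factor.card_sylow (h : Factor H T) : Nat.card (T : Subgroup G) = H.index := by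
  obtain ⟨k, hk⟩ := h.index
  have : Fact (Nat.Prime 2) := ⟨Nat.prime_two⟩
  rw [T.card_eq_multiplicity, hk, ← H.card_mul_index, hk,
    Nat.factorization_mul Nat.card_pos.ne' (pow_ne_zero _ two_ne_zero), Finsupp.add_apply,
    Nat.factorization_eq_zero_of_not_dvd h.odd.not_two_dvd_nat, Nat.Prime.factorization_pow
      Nat.prime_two, Finsupp.single_eq_same, zero_add]

theorem Factor.inf_eq_bot (h : Factor H T) : H ⊓ (T : Subgroup G) = ⊥ :=
  eq_bot_iff.2 fun _ hx => mem_bot.2 (eq_one_of_sylow_odd T hx.2 hx.1 h.odd)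

theorem Factor.exists_mul (h : Factor H T) (g : G) : ∃ x ∈ H, ∃ t ∈ (T : Subgroup G), g = x * t := by
  have hc : IsComplement' H (T : Subgroup G) := isComplement'_of_coprime
    (by rw [h.card_sylow, H.card_mul_index]) (by
      rw [h.card_sylow]
      obtain ⟨k, hk⟩ := h.index
      rw [hk]
      exact ((Nat.coprime_two_left.2 h.odd).pow_left k).symm)
  obtain ⟨⟨x, t⟩, he, -⟩ := hc.existsUnique g
  exact ⟨x, x.2, t, t.2, he.symm⟩

theorem Factor.card_of_le (h : Factor H T) {L : Subgroup G} (hL : (T : Subgroup G) ≤ L) :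
    Nat.card L = Nat.card ↥(L ⊓ H) * Nat.card (T : Subgroup G) := by
  refine le_antisymm ?_ ?_
  · rw [← Nat.card_prod]
    refine Nat.card_le_card_of_surjective
      (fun xt : ↥(L ⊓ H) × (T : Subgroup G) => (⟨xt.1.1 * xt.2.1, L.mul_mem xt.1.2.1 (hL xt.2.2)⟩ : L))
      fun g => ?_
    obtain ⟨x, hx, t, ht, he⟩ := h.exists_mul g
    have hxL : x ∈ L := by
      have : x = g * t⁻¹ := by rw [he, mul_inv_cancel_right]
      rw [this]; exact L.mul_mem g.2 (L.inv_mem (hL ht))
    exact ⟨(⟨x, hxL, hx⟩, ⟨t, ht⟩), Subtype.ext he.symm⟩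
  · rw [← Nat.card_prod]
    refine Nat.card_le_card_of_injective
      (fun xt : ↥(L ⊓ H) × (T : Subgroup G) => (⟨xt.1.1 * xt.2.1, L.mul_mem xt.1.2.1 (hL xt.2.2)⟩ : L))
      fun ⟨x, t⟩ ⟨x', t'⟩ he => ?_
    have he' : x.1 * t.1 = x'.1 * t'.1 := congrArg Subtype.val he
    have hm : x'.1⁻¹ * x.1 ∈ H ⊓ (T : Subgroup G) := ⟨H.mul_mem (H.inv_mem x'.2.2) x.2.2, by
      rw [show x'.1⁻¹ * x.1 = t'.1 * t.1⁻¹ by
        rw [eq_mul_inv_iff_mul_eq, mul_assoc, he', inv_mul_cancel_left]]
      exact (T : Subgroup G).mul_mem t'.2 ((T : Subgroup G).inv_mem t.2)⟩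
    rw [h.inf_eq_bot, mem_bot, inv_mul_eq_one] at hm
    have hx : x = x' := Subtype.ext hm.symm
    subst hx
    exact Prod.ext rfl (Subtype.ext (mul_left_cancel he'))

theorem Factor.index_of_le (h : Factor H T) {L : Subgroup G} (hL : (T : Subgroup G) ≤ L) :
    (H.subgroupOf L).index = H.index ∧ Odd (Nat.card (H.subgroupOf L)) := by
  have hc : Nat.card (H.subgroupOf L) = Nat.card ↥(L ⊓ H) := by
    rw [← card_map_of_injective L.subtype_injective, subgroupOf_map_subtype, inf_comm]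
  refine ⟨?_, hc ▸ h.odd.of_dvd_nat (card_dvd_of_le inf_le_right)⟩
  have h1 := (H.subgroupOf L).card_mul_index
  rw [h.card_of_le hL, hc, h.card_sylow] at h1
  exact Nat.eq_of_mul_eq_mul_left Nat.card_pos h1

variable (hFT : CfsgLib.FTCons.OddSolvable.{u})

omit [Finite G] in
theorem mem_of_commutes_sylow {t : G} (hcomm : IsMulCommutative (T : Subgroup G))
    (ht : t ∈ (T : Subgroup G)) : (T : Subgroup G) ≤ centralizer ({t} : Set G) := fun x hx =>
  mem_centralizer_singleton_iff.2 (congrArg Subtype.val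
    (hcomm.is_comm.comm (⟨x, hx⟩ : (T : Subgroup G)) ⟨t, ht⟩))

include hFT in
/-- In a simple group the Sylow subgroup is normal and self-centralising in every centraliser. -/
theorem Factor.local_structure (h : Factor H T) [IsSimpleGroup G] (hnc : ¬ IsMulCommutative G)
    (hsub : ∀ L : Subgroup G, (T : Subgroup G) ≤ L → L ≠ ⊤ → Group.IsSolvable L)
    {t : G} (htT : t ∈ (T : Subgroup G)) (ht : t ≠ 1) :
    centralizer ({t} : Set G) ≤ normalizer ((T : Subgroup G) : Set G) ∧
      ∀ x ∈ centralizer ({t} : Set G), x ∈ centralizer ((T : Subgroup G) : Set G) →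
        x ∈ (T : Subgroup G) := by
  classical
  have hHtop : H ≠ ⊤ := by
    rintro rfl
    have hs := hFT G (by have := h.odd; rwa [Subgroup.card_top] at this)
    exact hnc ⟨⟨fun a b => IsSimpleGroup.comm_iff_isSolvable.2 hs a b⟩⟩
  set C := centralizer ({t} : Set G) with hC
  have hTC : (T : Subgroup G) ≤ C := mem_of_commutes_sylow h.comm htT
  have hCtop : C ≠ ⊤ := fun hc => ht (by
    have hz : t ∈ center G := mem_center_iff.2 fun g =>
      mem_centralizer_singleton_iff.1 (hC ▸ hc ▸ mem_top g : g ∈ centralizer ({t} : Set G))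
    rcases Subgroup.Normal.eq_bot_or_eq_top (inferInstance : (center G).Normal) with hb | hb
    · rwa [hb, mem_bot] at hz
    · exact absurd ⟨⟨fun a b => mem_center_iff.1 (hb ▸ mem_top b : b ∈ center G) a⟩⟩ hnc)
  have hsolC : Group.IsSolvable C := hsub C hTC hCtop
  -- odd normal subgroups of `C` are trivial
  have hodd : ∀ M : Subgroup C, M.Normal → Odd (Nat.card M) → M = ⊥ := by
    intro M hMn hM
    obtain ⟨-, hK⟩ := h.index_of_le hTC
    obtain ⟨hidx, -⟩ := h.index_of_le hTC
    set K := H.subgroupOf C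
    have hsup : Odd (Nat.card (K ⊔ M : Subgroup C)) := by
      have h1 := relIndex_mul_relIndex (⊥ : Subgroup C) M (K ⊔ M) bot_le le_sup_right
      rw [relIndex_bot_left, relIndex_bot_left] at h1
      rw [← h1, relIndex_sup_right]
      exact hM.mul (hK.of_dvd_nat (M.relIndex_dvd_card K))
    have hd : Nat.card (K ⊔ M : Subgroup C) ∣ Nat.card K := by
      have h1 := card_subgroup_dvd_card (K ⊔ M : Subgroup C)
      rw [← K.card_mul_index, hidx] at h1
      obtain ⟨k, hk⟩ := h.index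
      rw [hk] at h1
      exact ((Nat.coprime_two_left.2 hsup).pow_left k).symm.dvd_of_dvd_mul_right h1
    have hMK : M ≤ K := by
      rw [eq_of_le_of_card_ge le_sup_left (Nat.le_of_dvd Nat.card_pos hd)]
      exact le_sup_right
    -- its normal closure lies in `H`
    have hle : normalClosure ((M.map C.subtype : Subgroup G) : Set G) ≤ H := by
      refine (closure_le _).2 fun y hy => ?_
      rw [Group.mem_conjugatesOfSet_iff] at hy
      obtain ⟨_, ⟨m, hm, rfl⟩, hconj⟩ := hy
      obtain ⟨g, rfl⟩ := isConj_iff.1 hconj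
      obtain ⟨x, hx, s, hs, rfl⟩ := h.exists_mul g
      have h2 := hMn.conj_mem m hm ⟨s, hTC hs⟩
      have h3 : (s * (m : G) * s⁻¹) ∈ H := mem_subgroupOf.1 (hMK h2)
      show x * s * C.subtype m * (x * s)⁻¹ ∈ H
      rw [show x * s * C.subtype m * (x * s)⁻¹ = x * (s * (m : G) * s⁻¹) * x⁻¹ by
        rw [C.coe_subtype]; group]
      exact H.mul_mem (H.mul_mem hx h3) (H.inv_mem hx)
    rcases Subgroup.Normal.eq_bot_or_eq_top
      (normalClosure_normal (s := ((M.map C.subtype : Subgroup G) : Set G))) with hb | hb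
    · refine (map_eq_bot_iff_of_injective M C.subtype_injective).1 (eq_bot_iff.2 fun y hy => ?_)
      exact hb ▸ subset_normalClosure hy
    · exact absurd (top_le_iff.1 (hb ▸ hle)) hHtop
  -- the Fitting subgroup of `C`
  have : Fact (Nat.Prime 2) := ⟨Nat.prime_two⟩
  set T' : Sylow 2 C := T.subtype hTC
  have hF : Cfsg.fittingSubgroup C ≤ (T' : Subgroup C) := by
    rw [CfsgLib.Fitting.fitting_eq_iSup_pCore]
    refine iSup_le fun q => ?_
    have hq : (q : ℕ).Prime := Nat.prime_of_mem_primeFactors q.2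
    rcases eq_or_ne (q : ℕ) 2 with h2 | h2
    · rw [h2]; exact CfsgLib.Fitting.pCore_le_sylow T'
    · have : Fact (q : ℕ).Prime := ⟨hq⟩
      obtain ⟨k, hk⟩ := (CfsgLib.Fitting.pCore_isPGroup (G := C) (q : ℕ)).exists_card_eq
      rw [hodd _ (CfsgLib.Fitting.pCore_normal _) (hk ▸ (hq.odd_of_ne_two h2).pow)]
      exact bot_le
  have := hsolC
  have hcent := CfsgLib.Fitting.centralizer_fitting_le (G := C)
  have hT' : (T' : Subgroup C) = Cfsg.fittingSubgroup C := by
    refine le_antisymm (fun x hx => hcent (mem_centralizer_iff.2 fun y hy => Subtype.ext ?_)) hF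
    have hxy := congrArg Subtype.val (h.comm.is_comm.comm
      (⟨y.1, mem_subgroupOf.1 (hF hy)⟩ : (T : Subgroup G)) ⟨x.1, mem_subgroupOf.1 hx⟩)
    simpa only [Subgroup.coe_mul, MulMemClass.mk_mul_mk] using hxy
  constructor
  · intro x hx
    have hn : (T' : Subgroup C).Normal := hT' ▸ CfsgLib.Fitting.fitting_normal
    refine CfsgLib.Coprime.mem_normalizer_of_forall_conj fun y hy => ?_
    exact mem_subgroupOf.1 (hn.conj_mem ⟨y, hTC hy⟩ (mem_subgroupOf.2 hy) ⟨x, hx⟩)
  · intro x hx hxT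
    refine mem_subgroupOf.1 (show (⟨x, hx⟩ : C) ∈ (T' : Subgroup C) from ?_)
    rw [hT']
    refine hcent (mem_centralizer_iff.2 fun y hy => Subtype.ext ?_)
    exact mem_centralizer_iff.1 hxT y.1 (mem_subgroupOf.1 (hF hy))

omit [Finite G] in
/-- An element fixing all involutions of an abelian `2`-group centralises it. -/
theorem commute_of_fix_involutions (hcomm : IsMulCommutative (T : Subgroup G)) {a : G}
    (ha : a ∈ normalizer ((T : Subgroup G) : Set G)) (hodd : Odd (orderOf a))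
    (hfix : ∀ x ∈ (T : Subgroup G), x ^ 2 = 1 → a * x = x * a) :
    a ∈ centralizer ((T : Subgroup G) : Set G) := by
  have hc : ∀ x ∈ (T : Subgroup G), ∀ y ∈ (T : Subgroup G), x * y = y * x := fun x hx y hy =>
    congrArg Subtype.val (hcomm.is_comm.comm (⟨x, hx⟩ : (T : Subgroup G)) ⟨y, hy⟩)
  have hn : ∀ x ∈ (T : Subgroup G), a * x * a⁻¹ ∈ (T : Subgroup G) := fun x hx =>
    (mem_normalizer_iff.1 ha x).1 hx
  let τ : (T : Subgroup G) →* G := MonoidHom.mk' (fun x => a * x * a⁻¹ * (x : G)⁻¹) fun x y => by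
    have h1 := hc _ (hn x x.2) _ (mul_mem (hn y y.2) (inv_mem y.2))
    have h2 := hc _ ((T : Subgroup G).inv_mem x.2) _ (mul_mem (hn y y.2) (inv_mem y.2))
    simp only [Subgroup.coe_mul]
    calc a * (↑x * ↑y) * a⁻¹ * (↑x * ↑y : G)⁻¹
        = (a * ↑x * a⁻¹) * ((a * ↑y * a⁻¹ * (↑y : G)⁻¹) * (↑x : G)⁻¹) := by group
      _ = (a * ↑x * a⁻¹) * ((↑x : G)⁻¹ * (a * ↑y * a⁻¹ * (↑y : G)⁻¹)) := by rw [← h2]
      _ = _ := by group
  have hker : ∀ x, a * τ x = τ x * a → τ x = 1 := by
    intro x hx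
    have hit : ∀ k : ℕ, a ^ k * (x : G) * (a ^ k)⁻¹ = τ x ^ k * x := by
      intro k
      induction k with
      | zero => simp
      | succ k ih =>
        have e1 : a * (x : G) * a⁻¹ = τ x * x := by
          show a * (x : G) * a⁻¹ = a * x * a⁻¹ * (x : G)⁻¹ * x
          group
        have e2 : a * τ x ^ k * a⁻¹ = τ x ^ k := by
          rw [(Commute.pow_right hx k).eq, mul_inv_cancel_right]
        calc a ^ (k + 1) * (x : G) * (a ^ (k + 1))⁻¹
            = a * (a ^ k * (x : G) * (a ^ k)⁻¹) * a⁻¹ := by rw [pow_succ' a, mul_inv_rev]; group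
          _ = a * (τ x ^ k * (x : G)) * a⁻¹ := by rw [ih]
          _ = (a * τ x ^ k * a⁻¹) * (a * (x : G) * a⁻¹) := by group
          _ = τ x ^ (k + 1) * x := by rw [e1, e2, ← mul_assoc, pow_succ]
    have h1 := hit (orderOf a)
    rw [pow_orderOf_eq_one, one_mul, inv_one, mul_one, eq_comm, mul_eq_right] at h1
    have hmem : τ x ∈ (T : Subgroup G) := mul_mem (hn x x.2) (inv_mem x.2)
    obtain ⟨k, hk⟩ := T.isPGroup' ⟨τ x, hmem⟩
    rw [← orderOf_eq_one_iff]
    exact Nat.eq_one_of_dvd_coprimes ((Nat.coprime_two_left.2 hodd).pow_left k)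
      (orderOf_dvd_of_pow_eq_one (congrArg Subtype.val hk)) (orderOf_dvd_of_pow_eq_one h1)
  rw [mem_centralizer_iff]
  intro y hy
  -- some power `τ y ^ (2 ^ j)` is an involution fixed by `a`
  have key : ∀ (k : ℕ) (x : (T : Subgroup G)), τ x ^ 2 ^ k = 1 → τ x = 1 := by
    intro k
    induction k with
    | zero => intro x hx; simpa using hx
    | succ k ih =>
      intro x hx
      have h1 : τ (x ^ 2) ^ 2 ^ k = 1 := by rw [map_pow, ← pow_mul, ← pow_succ', hx]
      have h2 := ih _ h1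
      rw [map_pow] at h2
      exact hker x (hfix _ (mul_mem (hn x x.2) (inv_mem x.2)) h2)
  obtain ⟨k, hk⟩ := T.isPGroup' ⟨y, hy⟩
  have h3 : τ ⟨y, hy⟩ = 1 := key k _ (by rw [← map_pow, hk, map_one])
  exact (mul_inv_eq_iff_eq_mul.1 (mul_inv_eq_one.1 h3)).symm

end Factor

end CfsgLib.FTCons.AbelianFactor
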