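import Cfsg.Agent.Lib.FTCons.AbelianFactorMain

/-!
The counting argument: two Sylow 2-subgroups swapped by involutions, and fixed points of a subgroup
of prime order.
-/

set_option autoImplicit false
set_option linter.style.haveILetI false

namespace CfsgLib.FTCons.AbelianFactor

open Subgroup
open scoped Pointwise

universe u

variable {G : Type u} [Group G] [Finite G] {H : Subgroup G} {T : Sylow 2 G}

omit [Finite G] in
theorem eq_one_of_inverted_mul {D : Subgroup G} (hD : Odd (Nat.card D)) {u c d₁ d₂ : G}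
    (hc : c ∈ D) (h1 : d₁ ∈ D) (h2 : d₂ ∈ D) (hcu : Commute u c) (he : d₁ = c * d₂)
    (i1 : u * d₁ * u⁻¹ = d₁⁻¹) (i2 : u * d₂ * u⁻¹ = d₂⁻¹) : c = 1 := by
  have hu : u * c * u⁻¹ = c := mul_inv_eq_iff_eq_mul.2 hcu.eq
  have h : c * d₂⁻¹ = d₂⁻¹ * c⁻¹ := by
    calc c * d₂⁻¹ = (u * c * u⁻¹) * (u * d₂ * u⁻¹) := by rw [hu, i2]
      _ = u * d₁ * u⁻¹ := by rw [he]; group
      _ = _ := by rw [i1, he, mul_inv_rev]
  have hinv : d₂ * c * d₂⁻¹ = c⁻¹ := by
    rw [mul_assoc, h, ← mul_assoc, mul_inv_cancel, one_mul]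
  -- an element of odd order conjugating `c` to its inverse
  have hd : ∀ k : ℕ, d₂ ^ (2 * k) * c * (d₂ ^ (2 * k))⁻¹ = c := by
    intro k
    induction k with
    | zero => simp
    | succ k ih =>
      calc d₂ ^ (2 * (k + 1)) * c * (d₂ ^ (2 * (k + 1)))⁻¹
          = d₂ ^ (2 * k) * (d₂ * (d₂ * c * d₂⁻¹) * d₂⁻¹) * (d₂ ^ (2 * k))⁻¹ := by
            rw [show 2 * (k + 1) = 2 * k + 2 by ring, pow_add, pow_two]; group
        _ = c := by rw [hinv, ← conj_inv, hinv, inv_inv, ih]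
  obtain ⟨k, hk⟩ := hD.of_dvd_nat (D.orderOf_dvd_natCard h2)
  have h3 := hd (k + 1)
  rw [show 2 * (k + 1) = orderOf d₂ + 1 by omega, pow_succ, pow_orderOf_eq_one, one_mul, hinv] at h3
  rw [← orderOf_eq_one_iff]
  have hsq : c ^ 2 = 1 := by rw [sq]; nth_rw 1 [← h3]; exact inv_mul_cancel c
  exact Nat.eq_one_of_dvd_coprimes (Nat.coprime_two_left.2 hD) (orderOf_dvd_of_pow_eq_one hsq)
    (D.orderOf_dvd_natCard hc)

omit [Finite G] in
theorem mul_self_of_orderOf_two {u : G} (h : orderOf u = 2) : u * u = 1 := by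
  have h1 := pow_orderOf_eq_one u
  rwa [h, sq] at h1

theorem Situation.ncard_fiber (h : Situation H T) (P : Sylow 2 G) :
    Nat.card {u : G // orderOf u = 2 ∧ u ∈ (P : Subgroup G)} =
      Nat.card ↥(omega h.fac.comm) - 1 := by
  classical
  have : Fact (Nat.Prime 2) := ⟨Nat.prime_two⟩
  obtain ⟨g, rfl⟩ := MulAction.exists_smul_eq G T P
  have e1 : {u : G // orderOf u = 2 ∧ u ∈ ((g • T : Sylow 2 G) : Subgroup G)} ≃
      {x : ↥(omega h.fac.comm) // x ≠ 1} :=
    { toFun := fun u => ⟨⟨g⁻¹ * u.1 * g, (mem_smul_iff g u.1 T).1 u.2.2, by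
          have hu := pow_orderOf_eq_one u.1
          rw [u.2.1, sq] at hu
          rw [sq, show g⁻¹ * u.1 * g * (g⁻¹ * u.1 * g) = g⁻¹ * (u.1 * u.1) * g by group, hu]
          group⟩,
        fun he => ne_one_of_involution u.2.1 (by
          have := congrArg Subtype.val he
          simp only [Subgroup.coe_one] at this
          calc u.1 = g * (g⁻¹ * u.1 * g) * g⁻¹ := by group
            _ = 1 := by rw [this]; group)⟩
      invFun := fun x => ⟨g * x.1.1 * g⁻¹,
        orderOf_two_of_sq (by rw [conj_pow, x.1.2.2, mul_one, mul_inv_cancel])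
          (fun he => x.2 (Subtype.ext (conj_eq_one_iff.1 he))),
        (mem_smul_iff g _ T).2 (by simpa [mul_assoc] using x.1.2.1)⟩
      left_inv := fun u => Subtype.ext (by simp [mul_assoc])
      right_inv := fun x => Subtype.ext (Subtype.ext (by simp [mul_assoc])) }
  rw [Nat.card_congr e1]
  have := Fintype.ofFinite ↥(omega h.fac.comm)
  rw [Nat.card_eq_fintype_card, Fintype.card_subtype_compl, Fintype.card_subtype_eq,
    Nat.card_eq_fintype_card]

theorem Situation.eq_of_mem' (h : Situation H T) {P Q : Sylow 2 G} {u : G} (hu : orderOf u = 2)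
    (hP : u ∈ (P : Subgroup G)) (hQ : u ∈ (Q : Subgroup G)) : P = Q := by
  have : Fact (Nat.Prime 2) := ⟨Nat.prime_two⟩
  obtain ⟨g, rfl⟩ := MulAction.exists_smul_eq G T P
  have h1 : g⁻¹ • Q = T := h.eq_of_mem ((mem_smul_iff g u T).1 hP) (ne_one_of_involution
    (by rw [show g⁻¹ * u * g = MulAut.conj g⁻¹ u by simp, MulEquiv.orderOf_eq, hu]))
    ((mem_smul_iff g⁻¹ _ Q).2 (by simpa [mul_assoc] using hQ))
  rw [← h1, smul_inv_smul]

/-- Some other Sylow subgroup is swapped with `T` by many involutions. -/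
theorem Situation.exists_swapped (h : Situation H T) : ∃ P : Sylow 2 G, P ≠ T ∧
    Nat.card ↥(omega h.fac.comm) - 1 ≤
      Nat.card {u : G // orderOf u = 2 ∧ u • T = P} := by
  classical
  have := Fintype.ofFinite G
  have := Fintype.ofFinite (Sylow 2 G)
  set q := Nat.card ↥(omega h.fac.comm) - 1
  set S := (Finset.univ.filter fun u : G => orderOf u = 2 ∧ u ∉ (T : Subgroup G))
  set Y := (Finset.univ : Finset (Sylow 2 G)).erase T
  have hYne : Y.Nonempty := by
    obtain ⟨g, hg⟩ : ∃ g : G, g ∉ normalizer ((T : Subgroup G) : Set G) := by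
      by_contra hc
      push Not at hc
      exact h.nnormal (normalizer_eq_top_iff.1 ((eq_top_iff' _).2 hc))
    exact ⟨g • T, Finset.mem_erase.2 ⟨smul_ne_of_not_normalize hg, Finset.mem_univ _⟩⟩
  have hmaps : ∀ u ∈ S, u • T ∈ Y := fun u hu => by
    rw [Finset.mem_filter] at hu
    refine Finset.mem_erase.2 ⟨fun he => hu.2.2 ?_, Finset.mem_univ _⟩
    exact mem_of_orderOf_two T hu.2.1 (Sylow.smul_eq_iff_mem_normalizer.1 he)
  have hcard : Y.card * q ≤ S.card := by
    have hfib : ∀ P ∈ Y, q = (Finset.univ.filter fun u : G =>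
        orderOf u = 2 ∧ u ∈ (P : Subgroup G)).card := fun P _ => by
      rw [← Fintype.card_subtype, ← Nat.card_eq_fintype_card]
      exact (h.ncard_fiber P).symm
    rw [← smul_eq_mul, ← Finset.sum_const, Finset.sum_congr rfl hfib,
      ← Finset.card_biUnion]
    · refine Finset.card_le_card fun u hu => ?_
      simp only [Finset.mem_biUnion, Finset.mem_filter, Finset.mem_univ, true_and] at hu
      obtain ⟨P, hP, hu2, huP⟩ := hu
      exact Finset.mem_filter.2 ⟨Finset.mem_univ _, hu2,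
        fun huT => (Finset.mem_erase.1 hP).1 (h.eq_of_mem' hu2 huP huT)⟩
    · intro P _ Q _ hPQ
      refine Finset.disjoint_left.2 fun u h1 h2 => hPQ ?_
      simp only [Finset.mem_filter] at h1 h2
      exact h.eq_of_mem' h1.2.1 h1.2.2 h2.2.2
  obtain ⟨P, hP, hle⟩ := Finset.exists_le_card_fiber_of_mul_le_card_of_maps_to hmaps hYne hcard
  refine ⟨P, (Finset.mem_erase.1 hP).1, hle.trans ?_⟩
  rw [Nat.card_eq_fintype_card, Fintype.card_subtype]
  refine Finset.card_le_card fun u hu => ?_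
  obtain ⟨hu1, hu2⟩ := Finset.mem_filter.1 hu
  exact Finset.mem_filter.2 ⟨Finset.mem_univ _, (Finset.mem_filter.1 hu1).2.1, hu2⟩

variable (hFT : CfsgLib.FTCons.OddSolvable.{u})

include hFT in
/-- An involution normalising but not centralising a subgroup of prime order in `N(T)`. -/
theorem Situation.exists_involution (h : Situation H T) [IsSimpleGroup G]
    (hTne : (T : Subgroup G) ≠ ⊥) :
    ∃ (p : ℕ) (P : Subgroup G) (u : G), p.Prime ∧ Odd p ∧ Nat.card P = p ∧
      P ≤ H ⊓ normalizer ((T : Subgroup G) : Set G) ∧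
      (∀ x ∈ H ⊓ normalizer ((T : Subgroup G) : Set G), x ^ p = 1 → x ∈ P) ∧ orderOf u = 2 ∧
      (∀ x ∈ P, u * x * u⁻¹ ∈ P) ∧ ∃ x ∈ P, u * x ≠ x * u := by
  classical
  obtain ⟨p, hp, hlt, P, hPA, hPc, hPmem⟩ := h.exists_prime hFT hTne
  have : Fact p.Prime := ⟨hp⟩
  set A := H ⊓ normalizer ((T : Subgroup G) : Set G) with hA
  have hAodd : Odd (Nat.card A) := h.fac.odd.of_dvd_nat (card_dvd_of_le inf_le_left)
  have hpodd : Odd p := hPc ▸ hAodd.of_dvd_nat (card_dvd_of_le hPA)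
  have hpA : p ∣ Nat.card A := hPc ▸ card_dvd_of_le hPA
  obtain ⟨Q, hQT, hQ⟩ := h.exists_swapped
  set k := Nat.card {u : G // orderOf u = 2 ∧ u • T = Q}
  set D := normalizer ((T : Subgroup G) : Set G) ⊓ normalizer ((Q : Subgroup G) : Set G) with hD
  have hDodd : Odd (Nat.card D) := by
    rw [← Nat.not_even_iff_odd]
    intro hev
    have : Fact (Nat.Prime 2) := ⟨Nat.prime_two⟩
    obtain ⟨d, hd⟩ := exists_prime_orderOf_dvd_card' (G := D) 2 hev.two_dvd
    rw [← Subgroup.orderOf_coe] at hd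
    exact hQT (h.eq_of_mem' hd (mem_of_orderOf_two Q hd d.2.2) (mem_of_orderOf_two T hd d.2.1))
  have hNcard : Nat.card ↥(normalizer ((T : Subgroup G) : Set G)) =
      Nat.card A * Nat.card (T : Subgroup G) := by
    rw [h.fac.card_of_le le_normalizer, inf_comm]
  obtain ⟨m2, hm2⟩ : ∃ m, Nat.card (T : Subgroup G) = 2 ^ m := by
    have : Fact (Nat.Prime 2) := ⟨Nat.prime_two⟩
    exact T.isPGroup'.exists_card_eq
  have hDA : Nat.card D ∣ Nat.card A := by
    have h1 : Nat.card D ∣ Nat.card ↥(normalizer ((T : Subgroup G) : Set G)) :=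
      card_dvd_of_le inf_le_left
    rw [hNcard, hm2] at h1
    exact ((Nat.coprime_two_left.2 hDodd).pow_left m2).symm.dvd_of_dvd_mul_right h1
  have hkpos : 0 < k := by
    refine lt_of_lt_of_le ?_ hQ
    by_contra hc
    rw [not_lt, Nat.le_zero] at hc
    rw [hc, mul_zero] at hlt
    omega
  obtain ⟨⟨u0, hu02, hu0⟩⟩ := (Nat.card_pos_iff.1 hkpos).1
  have hu0i : u0⁻¹ = u0 := inv_eq_of_mul_eq_one_right (mul_self_of_orderOf_two hu02)
  have hu0Q : u0 • Q = T := by rw [← hu0, smul_smul, mul_self_of_orderOf_two hu02, one_smul]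
  -- the elements `u₀ u` lie in `D` and are inverted by `u₀`
  have hmemD : ∀ u : {u : G // orderOf u = 2 ∧ u • T = Q},
      u0 * u.1 ∈ D ∧ u0 * (u0 * u.1) * u0⁻¹ = (u0 * u.1)⁻¹ := by
    rintro ⟨u, hu2, hu⟩
    have huQ : u • Q = T := by rw [← hu, smul_smul, mul_self_of_orderOf_two hu2, one_smul]
    have hui : u⁻¹ = u := inv_eq_of_mul_eq_one_right (mul_self_of_orderOf_two hu2)
    refine ⟨⟨Sylow.smul_eq_iff_mem_normalizer.1 ?_, Sylow.smul_eq_iff_mem_normalizer.1 ?_⟩, ?_⟩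
    · rw [← smul_smul, hu, hu0Q]
    · rw [← smul_smul, huQ, hu0]
    · show u0 * (u0 * u) * u0⁻¹ = (u0 * u)⁻¹
      rw [← mul_assoc u0 u0 u, mul_self_of_orderOf_two hu02, one_mul, mul_inv_rev, hui, hu0i]
  set C := D ⊓ centralizer ({u0} : Set G) with hC
  have hkC : k * Nat.card C ≤ Nat.card D := by
    rw [← Nat.card_prod]
    refine Nat.card_le_card_of_injective
      (fun uc : {u : G // orderOf u = 2 ∧ u • T = Q} × C =>
        (⟨uc.2.1 * (u0 * uc.1.1), D.mul_mem uc.2.2.1 (hmemD uc.1).1⟩ : D)) ?_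
    rintro ⟨u, c⟩ ⟨u', c'⟩ he
    have he' : c.1 * (u0 * u.1) = c'.1 * (u0 * u'.1) := congrArg Subtype.val he
    have hmul : u0 * u.1 = (c.1⁻¹ * c'.1) * (u0 * u'.1) := by
      rw [mul_assoc, ← he', inv_mul_cancel_left]
    have hcu : Commute u0 (c.1⁻¹ * c'.1) :=
      (mem_centralizer_singleton_iff.1 ((C.mul_mem (C.inv_mem c.2) c'.2)).2).symm
    have h1 := eq_one_of_inverted_mul hDodd (D.mul_mem (D.inv_mem c.2.1) c'.2.1) (hmemD u).1
      (hmemD u').1 hcu hmul (hmemD u).2 (hmemD u').2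
    rw [h1, one_mul] at hmul
    rw [inv_mul_eq_one] at h1
    exact Prod.ext (Subtype.ext (mul_left_cancel hmul)) (Subtype.ext h1)
  -- `p` divides `|D|` and `C` has order less than `p`
  have hkD : k ≤ Nat.card D := le_trans (Nat.le_mul_of_pos_right k Nat.card_pos) hkC
  have hq : Nat.card A < p * k := lt_of_lt_of_le hlt (Nat.mul_le_mul_left p hQ)
  have hpD : p ∣ Nat.card D := by
    by_contra hnd
    have h1 : p * Nat.card D ∣ Nat.card A :=
      Nat.Coprime.mul_dvd_of_dvd_of_dvd ((hp.coprime_iff_not_dvd).2 hnd) hpA hDA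
    have h2 := Nat.le_of_dvd Nat.card_pos h1
    have := Nat.mul_le_mul_left p hkD
    omega
  have hCp : ¬ p ∣ Nat.card C := fun hpc => by
    have h1 := Nat.mul_le_mul_left k (Nat.le_of_dvd Nat.card_pos hpc)
    have h2 := Nat.le_of_dvd Nat.card_pos hDA
    rw [mul_comm p k] at hq
    omega
  obtain ⟨z, hz⟩ := exists_prime_orderOf_dvd_card' (G := D) p hpD
  rw [← Subgroup.orderOf_coe] at hz
  -- all elements of order `p` of `D` lie in `⟨z⟩`
  have hPn : P ⊔ (T : Subgroup G) ≤ normalizer ((T : Subgroup G) : Set G) :=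
    sup_le (hPA.trans inf_le_right) le_normalizer
  set M := P ⊔ (T : Subgroup G) with hM
  have hMcard : Nat.card M = p * Nat.card (T : Subgroup G) := by
    have h1 := relIndex_mul_relIndex (⊥ : Subgroup G) (T : Subgroup G) M bot_le le_sup_right
    rw [relIndex_bot_left, relIndex_bot_left, hM] at h1
    have hle : P ≤ normalizer ((T : Subgroup G) : Set G) := hPA.trans inf_le_right
    set N := normalizer ((T : Subgroup G) : Set G)
    have hTn : ((T : Subgroup G).subgroupOf N).Normal :=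
      normal_subgroupOf_of_le_normalizer le_rfl
    have h2 : (T : Subgroup G).relIndex (P ⊔ (T : Subgroup G)) = (T : Subgroup G).relIndex P := by
      rw [← relIndex_subgroupOf (hPn : P ⊔ (T : Subgroup G) ≤ N), subgroupOf_sup hle le_normalizer,
        relIndex_sup_right, relIndex_subgroupOf hle]
    have hPT : (T : Subgroup G) ⊓ P = ⊥ := eq_bot_iff.2 fun x hx =>
      mem_bot.2 (eq_one_of_sylow_odd T hx.1 (hPA hx.2).1 h.fac.odd)
    have h3 : (T : Subgroup G).relIndex P = p := by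
      rw [← inf_relIndex_right, hPT, relIndex_bot_left, hPc]
    rw [hM, ← h1, h2, h3, mul_comm]
  have hxM : ∀ x ∈ normalizer ((T : Subgroup G) : Set G), x ^ p = 1 → x ∈ M := by
    intro x hx hxp
    obtain ⟨a, ha, t, ht, rfl⟩ := h.fac.exists_mul x
    have haN : a ∈ normalizer ((T : Subgroup G) : Set G) := by
      simpa [mul_assoc] using mul_mem hx (inv_mem (le_normalizer ht))
    have hpow : ∀ n : ℕ, ∃ t' ∈ (T : Subgroup G), (a * t) ^ n = a ^ n * t' := by
      intro n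
      induction n with
      | zero => exact ⟨1, one_mem _, by simp⟩
      | succ n ih =>
        obtain ⟨t', ht', he⟩ := ih
        refine ⟨a⁻¹ * t' * a * t, mul_mem
          ((mem_normalizer_iff''.1 haN t').1 ht') ht, ?_⟩
        rw [pow_succ, he, pow_succ]; group
    obtain ⟨t', ht', he⟩ := hpow p
    rw [hxp] at he
    have hap : a ^ p = 1 := eq_one_of_sylow_odd T
      (by rw [eq_inv_of_mul_eq_one_left he.symm]; exact inv_mem ht') (pow_mem ha p) h.fac.odd
    exact mul_mem (mem_sup_left (hPmem a ⟨ha, haN⟩ hap)) (mem_sup_right ht)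
  have hzM : (z : G) ∈ M := hxM z z.2.1 (hz ▸ pow_orderOf_eq_one _)
  have hDM : ∀ x ∈ D, x ∈ M → x ∈ zpowers (z : G) := by
    have hle : zpowers (z : G) ≤ D ⊓ M := zpowers_le.2 ⟨z.2, hzM⟩
    have hcard : Nat.card ↥(D ⊓ M) ∣ p := by
      have h1 : Nat.card ↥(D ⊓ M) ∣ Nat.card M := card_dvd_of_le inf_le_right
      rw [hMcard, hm2] at h1
      exact ((Nat.coprime_two_left.2 (hDodd.of_dvd_nat (card_dvd_of_le inf_le_left))).pow_left
        m2).symm.dvd_of_dvd_mul_right h1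
    intro x hxD hxM'
    rw [eq_of_le_of_card_ge hle (by rw [Nat.card_zpowers, hz]; exact Nat.le_of_dvd hp.pos hcard)]
    exact ⟨hxD, hxM'⟩
  have huz : u0 * z * u0⁻¹ ∈ zpowers (z : G) := by
    have hD' : u0 * z * u0⁻¹ ∈ D := by
      refine ⟨Sylow.smul_eq_iff_mem_normalizer.1 ?_, Sylow.smul_eq_iff_mem_normalizer.1 ?_⟩
      · rw [← smul_smul, ← smul_smul, hu0i, hu0, Sylow.smul_eq_iff_mem_normalizer.2 z.2.2, hu0Q]
      · rw [← smul_smul, ← smul_smul, hu0i, hu0Q, Sylow.smul_eq_iff_mem_normalizer.2 z.2.1, hu0]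
    exact hDM _ hD' (hxM _ hD'.1 (by rw [conj_pow, ← hz, pow_orderOf_eq_one, mul_one,
      mul_inv_cancel]))
  have hunz : u0 * z ≠ z * u0 := fun hc => hCp (by
    have hzC : (z : G) ∈ C := ⟨z.2, mem_centralizer_singleton_iff.2 hc.symm⟩
    exact hz ▸ C.orderOf_dvd_natCard hzC)
  -- move `⟨z⟩` onto `P`
  have hpM : ∀ R : Subgroup M, Nat.card R = p → ∃ S : Sylow p M, (S : Subgroup M) = R := by
    intro R hR
    refine ⟨Sylow.ofCard R ?_, rfl⟩
    rw [hR, hMcard, hm2, Nat.factorization_mul hp.ne_zero (pow_ne_zero _ two_ne_zero),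
      Finsupp.add_apply, hp.factorization_self, Nat.factorization_eq_zero_of_not_dvd, add_zero,
      pow_one]
    exact fun h2 => by
      have := (Nat.prime_dvd_prime_iff_eq hp Nat.prime_two).1 (hp.dvd_of_dvd_pow h2)
      exact (Nat.not_even_iff_odd.2 hpodd) (this ▸ even_two)
  have hzle : zpowers (z : G) ≤ M := zpowers_le.2 hzM
  obtain ⟨S₁, hS₁⟩ := hpM ((zpowers (z : G)).subgroupOf M) (by
    rw [← card_map_of_injective M.subtype_injective, subgroupOf_map_subtype, inf_eq_left.2 hzle,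
      Nat.card_zpowers, hz])
  obtain ⟨S₂, hS₂⟩ := hpM (P.subgroupOf M) (by
    rw [← card_map_of_injective M.subtype_injective, subgroupOf_map_subtype,
      inf_eq_left.2 (le_sup_left : P ≤ M), hPc])
  obtain ⟨m, hm⟩ := MulAction.exists_smul_eq M S₂ S₁
  have hconj : ∀ x : G, x ∈ P ↔ (m : G) * x * (m : G)⁻¹ ∈ zpowers (z : G) := by
    intro x
    have key : ∀ y : M, y ∈ (S₁ : Subgroup M) ↔ m⁻¹ * y * m ∈ (S₂ : Subgroup M) := fun y => by
      rw [← hm, Sylow.coe_subgroup_smul, Subgroup.mem_pointwise_smul_iff_inv_smul_mem,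
        MulAut.smul_def, ← map_inv, MulAut.conj_apply, inv_inv]
    constructor
    · intro hx
      have h1 := (key (m * ⟨x, mem_sup_left hx⟩ * m⁻¹)).2 (by
        rw [show m⁻¹ * (m * ⟨x, mem_sup_left hx⟩ * m⁻¹) * m = (⟨x, mem_sup_left hx⟩ : M) by group,
          hS₂]
        exact mem_subgroupOf.2 hx)
      rw [hS₁] at h1
      exact mem_subgroupOf.1 h1
    · intro hx
      have h1 := (key ⟨_, hzle hx⟩).1 (by rw [hS₁]; exact mem_subgroupOf.2 hx)
      rw [hS₂, mem_subgroupOf] at h1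
      simpa [mul_assoc] using h1
  refine ⟨p, P, (m : G)⁻¹ * u0 * m, hp, hpodd, hPc, hPA, hPmem, ?_, fun x hx => ?_, ?_⟩
  · rw [show (m : G)⁻¹ * u0 * m = MulAut.conj (m : G)⁻¹ u0 by simp, MulEquiv.orderOf_eq, hu02]
  · rw [hconj]
    obtain ⟨i, hi⟩ := mem_zpowers_iff.1 ((hconj x).1 hx)
    rw [show (m : G) * ((m : G)⁻¹ * u0 * m * x * ((m : G)⁻¹ * u0 * m)⁻¹) * (m : G)⁻¹ =
      u0 * ((m : G) * x * (m : G)⁻¹) * u0⁻¹ by group, ← hi, ← conj_zpow]
    exact zpow_mem huz i
  · refine ⟨(m : G)⁻¹ * z * m, (hconj _).2 (by simpa [mul_assoc] using mem_zpowers (z : G)),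
      fun hc => hunz ?_⟩
    have h1 : (m : G)⁻¹ * (u0 * z) * m = (m : G)⁻¹ * (z * u0) * m := by
      calc (m : G)⁻¹ * (u0 * z) * m = (m : G)⁻¹ * u0 * m * ((m : G)⁻¹ * z * m) := by group
        _ = (m : G)⁻¹ * z * m * ((m : G)⁻¹ * u0 * m) := hc
        _ = _ := by group
    simpa using h1

include hFT in
theorem Situation.false (h : Situation H T) [IsSimpleGroup G] (hTne : (T : Subgroup G) ≠ ⊥) :
    False := by
  classical
  obtain ⟨p, P, u, hp, hpodd, hPc, hPA, hPmem, hu2, hun, x₀, hx₀, hx₀u⟩ :=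
    h.exists_involution hFT hTne
  have : Fact (Nat.Prime 2) := ⟨Nat.prime_two⟩
  -- the Sylow subgroups normalised by `P`
  let Φ := {Q : Sylow 2 G // P ≤ normalizer ((Q : Subgroup G) : Set G)}
  have hnorm : ∀ (g : G) (Q : Sylow 2 G), (∀ x ∈ P, g⁻¹ * x * g ∈ P) →
      P ≤ normalizer ((Q : Subgroup G) : Set G) →
      P ≤ normalizer (((g • Q : Sylow 2 G) : Subgroup G) : Set G) := by
    intro g Q hg hQ x hx
    refine Sylow.smul_eq_iff_mem_normalizer.1 ?_
    rw [smul_smul, show x * g = g * (g⁻¹ * x * g) by group, ← smul_smul,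
      Sylow.smul_eq_iff_mem_normalizer.2 (hQ (hg x hx))]
  have hui : u⁻¹ = u := inv_eq_of_mul_eq_one_right (mul_self_of_orderOf_two hu2)
  -- `u` has no fixed point
  have heven : Even (Nat.card Φ) := by
    refine even_card_of_involution (fun Q => (⟨u • Q.1, hnorm u Q.1 (fun x hx => by
      have := hun x hx; rwa [hui] at this ⊢) Q.2⟩ : Φ)) (fun Q => Subtype.ext ?_) fun Q he => ?_
    · show u • u • Q.1 = Q.1
      rw [smul_smul, mul_self_of_orderOf_two hu2, one_smul]
    · have hfix : u • Q.1 = Q.1 := congrArg Subtype.val he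
      have huQ := mem_of_orderOf_two Q.1 hu2 (Sylow.smul_eq_iff_mem_normalizer.1 hfix)
      refine hx₀u ?_
      have h1 : u * x₀ * u⁻¹ * x₀⁻¹ ∈ (Q.1 : Subgroup G) := by
        rw [show u * x₀ * u⁻¹ * x₀⁻¹ = u * (x₀ * u⁻¹ * x₀⁻¹) by group]
        exact mul_mem huQ ((mem_normalizer_iff.1 (Q.2 hx₀) _).1 (inv_mem huQ))
      have h2 := eq_one_of_sylow_odd Q.1 h1 (mul_mem (hun x₀ hx₀) (P.inv_mem hx₀))
        (hPc ▸ hpodd)
      exact mul_inv_eq_iff_eq_mul.1 (mul_inv_eq_one.1 h2)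
  -- `N_H(P)` is transitive
  let K := H ⊓ normalizer (P : Set G)
  have hmemK : ∀ k ∈ K, ∀ x ∈ P, k⁻¹ * x * k ∈ P := fun k hk x hx =>
    (mem_normalizer_iff''.1 hk.2 x).1 hx
  let base : Φ := ⟨T, hPA.trans inf_le_right⟩
  have hodd : Odd (Nat.card Φ) := by
    let _ : MulAction K Φ :=
      { smul := fun k Q => ⟨(k : G) • Q.1, hnorm k Q.1 (hmemK k k.2) Q.2⟩
        one_smul := fun Q => Subtype.ext (one_smul G Q.1)
        mul_smul := fun k l Q => Subtype.ext (mul_smul (k : G) (l : G) Q.1) }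
    have horb : MulAction.orbit K base = Set.univ := Set.eq_univ_of_forall fun Q => by
      obtain ⟨g, hg⟩ := MulAction.exists_smul_eq G T Q.1
      obtain ⟨y, hy, t, ht, rfl⟩ := h.fac.exists_mul g
      rw [← smul_smul, Sylow.smul_eq_iff_mem_normalizer.2 (le_normalizer ht)] at hg
      have hyP : ∀ x ∈ P, y⁻¹ * x * y ∈ P := by
        intro x hx
        refine hPmem _ ⟨H.mul_mem (H.mul_mem (H.inv_mem hy) (hPA hx).1) hy,
          Sylow.smul_eq_iff_mem_normalizer.1 ?_⟩ ?_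
        · rw [← smul_smul, ← smul_smul, hg, Sylow.smul_eq_iff_mem_normalizer.2 (Q.2 hx), ← hg,
            inv_smul_smul]
        · have hxp : x ^ p = 1 := by
            rw [← hPc]
            exact orderOf_dvd_iff_pow_eq_one.1 (P.orderOf_dvd_natCard hx)
          rw [show y⁻¹ * x * y = y⁻¹ * x * y⁻¹⁻¹ by rw [inv_inv], conj_pow, hxp, mul_one,
            mul_inv_cancel]
      have hyN : y⁻¹ ∈ normalizer (P : Set G) :=
        CfsgLib.Coprime.mem_normalizer_of_forall_conj fun x hx => by rw [inv_inv]; exact hyP x hx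
      exact ⟨⟨y, hy, by simpa using inv_mem hyN⟩, Subtype.ext hg⟩
    have h1 := MulAction.index_stabilizer K base
    rw [horb, Set.ncard_univ] at h1
    exact (h.fac.odd.of_dvd_nat (card_dvd_of_le (inf_le_left : K ≤ H))).of_dvd_nat
      (h1 ▸ (MulAction.stabilizer K base).index_dvd_card)
  exact (Nat.not_even_iff_odd.2 hodd) heven

include hFT in
/-- Abelian Sylow 2-subgroups and a subgroup of odd order and 2-power index: solvable. -/
theorem isSolvable_of_factor (n : ℕ) : ∀ (G : Type u) [Group G] [Finite G], Nat.card G = n →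
    (∀ T : Sylow 2 G, IsMulCommutative (T : Subgroup G)) →
    ∀ H : Subgroup G, Odd (Nat.card H) → (∃ k, H.index = 2 ^ k) → Group.IsSolvable G := by
  induction n using Nat.strong_induction_on with
  | _ n ih =>
  intro G _ _ hn hT H hodd ⟨k, hk⟩
  classical
  have : Fact (Nat.Prime 2) := ⟨Nat.prime_two⟩
  obtain ⟨T⟩ := (inferInstance : Nonempty (Sylow 2 G))
  have hfac : Factor H T := ⟨hodd, ⟨k, hk⟩, hT T⟩
  have hsub : ∀ L : Subgroup G, (T : Subgroup G) ≤ L → L ≠ ⊤ → Group.IsSolvable L := by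
    intro L hTL hL
    refine ih (Nat.card L) ?_ L rfl (fun S => ?_) (H.subgroupOf L) (hfac.index_of_le hTL).2
      ⟨k, (hfac.index_of_le hTL).1.trans hk⟩
    · rw [← hn]
      exact lt_of_le_of_ne (Subgroup.card_le_card_group L) fun he => hL (L.eq_top_of_card_eq he)
    · obtain ⟨S', hS'⟩ := (S.isPGroup'.map L.subtype).exists_le_sylow
      refine ⟨⟨fun a b => Subtype.ext (Subtype.ext ?_)⟩⟩
      simpa using congrArg Subtype.val ((hT S').is_comm.comm
        (⟨_, hS' ⟨_, a.2, rfl⟩⟩ : (S' : Subgroup G)) ⟨_, hS' ⟨_, b.2, rfl⟩⟩)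
  by_cases hTbot : (T : Subgroup G) = ⊥
  · refine hFT G ?_
    have h1 := hfac.card_sylow
    rw [hTbot, Subgroup.card_bot] at h1
    rw [← H.card_mul_index, ← h1, mul_one]
    exact hodd
  by_cases hsimp : IsSimpleGroup G
  · by_contra hns
    have hnc : ¬ IsMulCommutative G := fun hc => hns (by
      have := hc
      exact Group.isSolvable_of_comm fun a b => hc.is_comm.comm a b)
    by_cases hTn : (T : Subgroup G).Normal
    · rcases hTn.eq_bot_or_eq_top with hb | hb
      · exact hTbot hb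
      · exact hnc ⟨⟨fun a b => congrArg Subtype.val ((hT T).is_comm.comm
          (⟨a, hb ▸ mem_top a⟩ : (T : Subgroup G)) ⟨b, hb ▸ mem_top b⟩)⟩⟩
    exact Situation.false hFT
      ⟨hfac, fun t ht ht1 => hfac.local_structure hFT hnc hsub ht ht1, hTn⟩ hTbot
  have : Nontrivial G := by
    obtain ⟨t, ht⟩ := (Subgroup.ne_bot_iff_exists_ne_one.1 hTbot)
    exact ⟨⟨t, 1, fun he => ht (Subtype.ext he)⟩⟩
  obtain ⟨N, hN, hNb, hNt⟩ : ∃ N : Subgroup G, N.Normal ∧ N ≠ ⊥ ∧ N ≠ ⊤ := by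
    by_contra hc
    push Not at hc
    exact hsimp ⟨fun N hN => or_iff_not_imp_left.2 (hc N hN)⟩
  have hidxN : H.relIndex N ∣ H.index := by
    have h1 := relIndex_mul_index (le_sup_left : H ≤ H ⊔ N)
    have h2 : H.relIndex (H ⊔ N) = H.relIndex N := by
      have a1 := relIndex_mul_relIndex (H ⊓ N) H (H ⊔ N) inf_le_left le_sup_left
      have a2 := relIndex_mul_relIndex (H ⊓ N) N (H ⊔ N) inf_le_right le_sup_right
      rw [inf_relIndex_left] at a1
      rw [inf_relIndex_right, relIndex_sup_right] at a2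
      exact mul_left_cancel₀ (fun h0 : N.relIndex H = 0 =>
        (Nat.card_pos (α := H ⧸ N.subgroupOf H)).ne' h0) (a1.trans (a2.symm.trans (mul_comm _ _)))
    exact Dvd.intro _ (h2 ▸ h1)
  have h1 : Group.IsSolvable N := by
    obtain ⟨j, -, hj⟩ := (Nat.dvd_prime_pow Nat.prime_two).1 (hk ▸ hidxN)
    refine ih (Nat.card N) ?_ N rfl (fun S => ?_) (H.subgroupOf N) ?_ ⟨j, hj⟩
    · rw [← hn]
      exact lt_of_le_of_ne (Subgroup.card_le_card_group N) fun he => hNt (N.eq_top_of_card_eq he)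
    · obtain ⟨S', hS'⟩ := (S.isPGroup'.map N.subtype).exists_le_sylow
      refine ⟨⟨fun a b => Subtype.ext (Subtype.ext ?_)⟩⟩
      simpa using congrArg Subtype.val ((hT S').is_comm.comm
        (⟨_, hS' ⟨_, a.2, rfl⟩⟩ : (S' : Subgroup G)) ⟨_, hS' ⟨_, b.2, rfl⟩⟩)
    · rw [← card_map_of_injective N.subtype_injective, subgroupOf_map_subtype]
      exact hodd.of_dvd_nat (card_dvd_of_le inf_le_left)
  have h2 : Group.IsSolvable (G ⧸ N) := by
    have hsurj := QuotientGroup.mk'_surjective N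
    obtain ⟨j, -, hj⟩ := (Nat.dvd_prime_pow Nat.prime_two).1 (hk ▸ H.index_map_dvd hsurj)
    refine ih (Nat.card (G ⧸ N)) ?_ (G ⧸ N) rfl (fun S => ?_) (H.map (QuotientGroup.mk' N)) ?_
      ⟨j, hj⟩
    · rw [← hn, ← N.index_mul_card]
      exact lt_mul_of_one_lt_right Nat.card_pos ((one_lt_card_iff_ne_bot N).2 hNb)
    · obtain ⟨S', rfl⟩ := Sylow.mapSurjective_surjective hsurj 2 S
      refine ⟨⟨fun a b => Subtype.ext ?_⟩⟩
      obtain ⟨a', ha', ha⟩ := mem_map.1 (show (a : G ⧸ N) ∈ (S' : Subgroup G).map (QuotientGroup.mk' N)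
        from a.2)
      obtain ⟨b', hb', hb⟩ := mem_map.1 (show (b : G ⧸ N) ∈ (S' : Subgroup G).map (QuotientGroup.mk' N)
        from b.2)
      show (a : G ⧸ N) * b = b * a
      rw [← ha, ← hb, ← map_mul, ← map_mul]
      exact congrArg _ (congrArg Subtype.val ((hT S').is_comm.comm
        (⟨a', ha'⟩ : (S' : Subgroup G)) ⟨b', hb'⟩))
    · exact hodd.of_dvd_nat (card_map_dvd _ _)
  exact Group.isSolvable_of_ker_le_range N.subtype (QuotientGroup.mk' N)
    (by rw [QuotientGroup.ker_mk', range_subtype])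

end CfsgLib.FTCons.AbelianFactor
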