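import Cfsg.Agent.Lib.FTCons.AbelianFactor

/-!
The simple case and the induction for groups with abelian Sylow 2-subgroups and a subgroup of odd
order and 2-power index.
-/

set_option autoImplicit false
set_option linter.style.haveILetI false

namespace CfsgLib.FTCons.AbelianFactor

open Subgroup
open scoped Pointwise
open scoped IsMulCommutative

attribute [local instance 10000] IsMulCommutative.instCommMonoid IsMulCommutative.instCommGroup

universe u

variable {G : Type u} [Group G] [Finite G]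

/-- What the simple case gives. -/
structure Situation (H : Subgroup G) (T : Sylow 2 G) : Prop where
  fac : Factor H T
  loc : ∀ t ∈ (T : Subgroup G), t ≠ 1 →
    centralizer ({t} : Set G) ≤ normalizer ((T : Subgroup G) : Set G) ∧
      ∀ x ∈ centralizer ({t} : Set G), x ∈ centralizer ((T : Subgroup G) : Set G) →
        x ∈ (T : Subgroup G)
  nnormal : ¬ (T : Subgroup G).Normal

variable {H : Subgroup G} {T : Sylow 2 G}

theorem ne_one_of_involution {t : G} (h : orderOf t = 2) : t ≠ 1 := by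
  rintro rfl
  simp at h

theorem mem_of_orderOf_two {t : G} (P : Sylow 2 G) (ht : orderOf t = 2)
    (hn : t ∈ normalizer ((P : Subgroup G) : Set G)) : t ∈ (P : Subgroup G) := by
  have : Fact (Nat.Prime 2) := ⟨Nat.prime_two⟩
  have hp : IsPGroup 2 (zpowers t) := IsPGroup.of_card (n := 1) (by rw [Nat.card_zpowers, ht, pow_one])
  have h := hp.inf_normalizer_sylow P
  exact (h ▸ (⟨mem_zpowers t, hn⟩ : t ∈ zpowers t ⊓ normalizer ((P : Subgroup G) : Set G)) :
    t ∈ zpowers t ⊓ (P : Subgroup G)).2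

theorem Situation.eq_of_mem (h : Situation H T) {P : Sylow 2 G} {t : G}
    (htT : t ∈ (T : Subgroup G)) (ht : t ≠ 1) (htP : t ∈ (P : Subgroup G)) : P = T := by
  have : Fact (Nat.Prime 2) := ⟨Nat.prime_two⟩
  obtain ⟨g, rfl⟩ := MulAction.exists_smul_eq G T P
  have hPab : ∀ x ∈ ((g • T : Sylow 2 G) : Subgroup G), x ∈ centralizer ({t} : Set G) := by
    intro x hx
    rw [Sylow.coe_subgroup_smul, Subgroup.mem_pointwise_smul_iff_inv_smul_mem, MulAut.smul_def,
      ← map_inv, MulAut.conj_apply, inv_inv] at hx htP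
    rw [mem_centralizer_singleton_iff]
    have hc := congrArg Subtype.val (h.fac.comm.is_comm.comm
      (⟨_, hx⟩ : (T : Subgroup G)) ⟨_, htP⟩)
    simp only [Subgroup.coe_mul] at hc
    calc x * t = g * ((g⁻¹ * x * g) * (g⁻¹ * t * g)) * g⁻¹ := by group
      _ = g * ((g⁻¹ * t * g) * (g⁻¹ * x * g)) * g⁻¹ := by rw [hc]
      _ = t * x := by group
  have hle : ((g • T : Sylow 2 G) : Subgroup G) ≤ normalizer ((T : Subgroup G) : Set G) :=
    fun x hx => (h.loc t htT ht).1 (hPab x hx)
  have h2 := (g • T : Sylow 2 G).isPGroup'.inf_normalizer_sylow T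
  have hle' : ((g • T : Sylow 2 G) : Subgroup G) ≤ normalizer (T : Set G) := hle
  rw [inf_eq_left.2 hle', eq_comm, inf_eq_left] at h2
  exact Sylow.ext (((g • T : Sylow 2 G)).is_maximal' T.isPGroup' h2).symm

theorem Situation.centralizer_le (h : Situation H T) {t : G} (htT : t ∈ (T : Subgroup G))
    (ht : orderOf t = 2) {w : G} (hw : orderOf w = 2) (hc : Commute w t) : w ∈ (T : Subgroup G) :=
  mem_of_orderOf_two T hw ((h.loc t htT (ne_one_of_involution ht)).1
    (mem_centralizer_singleton_iff.2 hc.eq))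

omit [Finite G] in
theorem mem_smul_iff (g x : G) (P : Sylow 2 G) :
    x ∈ ((g • P : Sylow 2 G) : Subgroup G) ↔ g⁻¹ * x * g ∈ (P : Subgroup G) := by
  rw [Sylow.coe_subgroup_smul, Subgroup.mem_pointwise_smul_iff_inv_smul_mem, MulAut.smul_def,
    ← map_inv, MulAut.conj_apply, inv_inv]

omit [Finite G] in
theorem smul_ne_of_not_normalize {g : G} (hg : g ∉ normalizer ((T : Subgroup G) : Set G)) :
    g • T ≠ T := fun h => hg (Sylow.smul_eq_iff_mem_normalizer.1 h)

theorem Situation.isConj_involutions (h : Situation H T) {t t' : G} (htT : t ∈ (T : Subgroup G))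
    (ht : orderOf t = 2) (htT' : t' ∈ (T : Subgroup G)) (ht' : orderOf t' = 2) :
    ∃ n ∈ H ⊓ normalizer ((T : Subgroup G) : Set G), n * t * n⁻¹ = t' := by
  have : Fact (Nat.Prime 2) := ⟨Nat.prime_two⟩
  obtain ⟨g, hg⟩ : ∃ g : G, g ∉ normalizer ((T : Subgroup G) : Set G) := by
    by_contra hc
    push Not at hc
    exact h.nnormal (normalizer_eq_top_iff.1 ((eq_top_iff' _).2 hc))
  set s := g * t * g⁻¹ with hsd
  have hs : orderOf s = 2 := by rw [hsd, ← MulAut.conj_apply, MulEquiv.orderOf_eq, ht]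
  have hsT : s ∉ (T : Subgroup G) := fun hsT => smul_ne_of_not_normalize hg
    (h.eq_of_mem hsT (ne_one_of_involution hs) ((mem_smul_iff g s T).2 (by
      simpa [hsd, mul_assoc] using htT)))
  have key : ∀ t₁ ∈ (T : Subgroup G), orderOf t₁ = 2 → IsConj s t₁ := by
    intro t₁ h1 h2
    refine (isConj_or_exists_commute hs h2).resolve_right ?_
    rintro ⟨w, hw, hws, hwt⟩
    exact hsT (h.centralizer_le (h.centralizer_le h1 h2 hw hwt) hw hs hws.symm)
  obtain ⟨c, hc⟩ := isConj_iff.1 ((key t htT ht).symm.trans (key t' htT' ht'))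
  have := h.fac.comm
  obtain ⟨n, hn, hne⟩ := T.conj_eq_normalizer_conj_of_mem t c⁻¹ htT
    (by rw [inv_inv, hc]; exact htT')
  rw [inv_inv, hc] at hne
  obtain ⟨x, hx, u, hu, hxu⟩ := h.fac.exists_mul n⁻¹
  have hxN : x ∈ normalizer ((T : Subgroup G) : Set G) := by
    have : x = n⁻¹ * u⁻¹ := by rw [hxu, mul_inv_cancel_right]
    rw [this]
    exact mul_mem (inv_mem hn) (inv_mem (le_normalizer hu))
  refine ⟨x, ⟨hx, hxN⟩, ?_⟩
  rw [hne, show n = (x * u)⁻¹ by rw [← hxu, inv_inv]]
  have hut : u * t * u⁻¹ = t := mul_inv_eq_iff_eq_mul.2 (congrArg Subtype.val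
    (h.fac.comm.is_comm.comm (⟨u, hu⟩ : (T : Subgroup G)) ⟨t, htT⟩))
  calc x * t * x⁻¹ = x * (u * t * u⁻¹) * x⁻¹ := by rw [hut]
    _ = _ := by group

/-- Involutions of `T`, with the identity. -/
def omega (hcomm : IsMulCommutative (T : Subgroup G)) : Subgroup G where
  carrier := {x | x ∈ (T : Subgroup G) ∧ x ^ 2 = 1}
  one_mem' := ⟨one_mem _, one_pow _⟩
  mul_mem' {x y} hx hy := ⟨mul_mem hx.1 hy.1, by
    have hc : Commute x y := congrArg Subtype.val
      (hcomm.is_comm.comm (⟨x, hx.1⟩ : (T : Subgroup G)) ⟨y, hy.1⟩)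
    rw [hc.mul_pow, hx.2, hy.2, mul_one]⟩
  inv_mem' {x} hx := ⟨inv_mem hx.1, by rw [inv_pow, hx.2, inv_one]⟩

theorem orderOf_two_of_sq {x : G} (h : x ^ 2 = 1) (h1 : x ≠ 1) : orderOf x = 2 :=
  have : Fact (Nat.Prime 2) := ⟨Nat.prime_two⟩
  orderOf_eq_prime h h1

variable (hFT : CfsgLib.FTCons.OddSolvable.{u})

theorem not_simple_of_self_normalizing [IsSimpleGroup G] (hne : (T : Subgroup G) ≠ ⊥)
    (hnn : ¬ (T : Subgroup G).Normal)
    (hle : normalizer ((T : Subgroup G) : Set G) ≤ centralizer ((T : Subgroup G) : Set G)) :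
    False := by
  have : Fact (Nat.Prime 2) := ⟨Nat.prime_two⟩
  have hc := MonoidHom.ker_transferSylow_isComplement' T hle
  rcases Subgroup.Normal.eq_bot_or_eq_top (MonoidHom.transferSylow T hle).normal_ker with hb | hb
  · rw [hb] at hc
    have h1 : (T : Subgroup G) = ⊤ := isComplement'_bot_left.1 hc
    exact hnn (h1 ▸ inferInstance)
  · rw [hb] at hc
    exact hne (isComplement'_top_left.1 hc)

include hFT in
/-- The arithmetic data of `N_H(T)`. -/
theorem Situation.exists_prime (h : Situation H T) [IsSimpleGroup G] (hTne : (T : Subgroup G) ≠ ⊥) :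
    ∃ p, p.Prime ∧
      Nat.card ↥(H ⊓ normalizer ((T : Subgroup G) : Set G)) <
        p * (Nat.card ↥(omega h.fac.comm) - 1) ∧
      ∃ P : Subgroup G, P ≤ H ⊓ normalizer ((T : Subgroup G) : Set G) ∧ Nat.card P = p ∧
        ∀ x ∈ H ⊓ normalizer ((T : Subgroup G) : Set G), x ^ p = 1 → x ∈ P := by
  classical
  set A := H ⊓ normalizer ((T : Subgroup G) : Set G)
  set W := omega h.fac.comm with hW
  have hAW : A ≤ normalizer (W : Set G) := fun a ha =>
    CfsgLib.Coprime.mem_normalizer_of_forall_conj fun x hx =>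
      ⟨(mem_normalizer_iff.1 ha.2 x).1 hx.1, by rw [conj_pow, hx.2, mul_one, mul_inv_cancel]⟩
  have : IsMulCommutative W := ⟨⟨fun a b => by
    have hab := congrArg Subtype.val
      (h.fac.comm.is_comm.comm (⟨a.1, a.2.1⟩ : (T : Subgroup G)) ⟨b.1, b.2.1⟩)
    exact Subtype.ext (by simpa only [Subgroup.coe_mul, MulMemClass.mk_mul_mk] using hab)⟩⟩
  let _ := CfsgLib.Structure.vModule 2 W (fun v hv => hv.2)
  let ρ₀ := CfsgLib.Structure.vAction 2 W A hAW
  let ρ : A →* (Additive W ≃ₗ[ZMod 2] Additive W) :=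
    (LinearMap.GeneralLinearGroup.generalLinearEquiv (ZMod 2) (Additive W)).toMonoidHom.comp
      ρ₀.toHomUnits
  have hρapply : ∀ (g : A) (v : Additive W), ρ g v = ρ₀ g v := fun g v => rfl
  have hinj : Function.Injective ρ := by
    refine (injective_iff_map_eq_one ρ).2 fun g hg => Subtype.ext ?_
    have h1 : ρ₀ g = 1 := LinearMap.ext fun v => by rw [← hρapply, hg]; rfl
    have h2 := (CfsgLib.Structure.vAction_eq_one_iff 2 W A hAW g).1 h1
    have hodd : Odd (orderOf (g : G)) := h.fac.odd.of_dvd_nat (H.orderOf_dvd_natCard g.2.1)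
    have h3 := commute_of_fix_involutions h.fac.comm g.2.2 hodd fun x hx hx2 =>
      (mem_centralizer_iff.1 h2 x ⟨hx, hx2⟩).symm
    have : Fact (Nat.Prime 2) := ⟨Nat.prime_two⟩
    obtain ⟨t, ht, ht1⟩ := (Subgroup.ne_bot_iff_exists_ne_one.1 hTne).elim
      fun t ht => (⟨t, t.2, fun h0 => ht (Subtype.ext h0)⟩ : ∃ t ∈ (T : Subgroup G), t ≠ 1)
    exact eq_one_of_sylow_odd T
      ((h.loc t ht ht1).2 g (mem_centralizer_singleton_iff.2
        (mem_centralizer_iff.1 h3 t ht).symm) h3) g.2.1 h.fac.odd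
  have htr : CfsgLib.TransLinear.Trans ρ := by
    intro v w hv hw
    have hne : ∀ u : Additive W, u ≠ 0 → orderOf ((Additive.toMul u : W) : G) = 2 := fun u hu =>
      orderOf_two_of_sq (Additive.toMul u).2.2 fun h1 => hu (Additive.toMul.injective (Subtype.ext h1))
    obtain ⟨n, hn, hne'⟩ := h.isConj_involutions (Additive.toMul v).2.1 (hne v hv)
      (Additive.toMul w).2.1 (hne w hw)
    exact ⟨⟨n, hn⟩, Additive.toMul.injective (Subtype.ext (by
      rw [hρapply, CfsgLib.Structure.vAction_coe]; exact hne'))⟩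
  have hAsol : Group.IsSolvable A := hFT A (h.fac.odd.of_dvd_nat (card_dvd_of_le inf_le_left))
  by_cases hrk : 2 ≤ Module.finrank (ZMod 2) (Additive W)
  · obtain ⟨p, hp, hlt, P, hP, -, hPmem⟩ := exists_prime_normal hinj hAsol htr hrk
    refine ⟨p, hp, ?_, P.map A.subtype, map_subtype_le P, by
      rw [card_map_of_injective A.subtype_injective, hP], fun x hx hxp =>
      ⟨⟨x, hx⟩, hPmem _ (Subtype.ext hxp), rfl⟩⟩
    rwa [Nat.card_congr (Additive.toMul (α := W))] at hlt
  -- otherwise the normaliser centralises `T`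
  exfalso
  refine not_simple_of_self_normalizing hTne h.nnormal fun x hx => ?_
  obtain ⟨y, hy, u, hu, rfl⟩ := h.fac.exists_mul x
  have hyN : y ∈ normalizer ((T : Subgroup G) : Set G) := by
    simpa [mul_assoc] using mul_mem hx (inv_mem (le_normalizer hu))
  have hW1 : Nat.card (Additive W) ≤ 2 := by
    rw [Module.natCard_eq_pow_finrank (K := ZMod 2) (V := Additive W), Nat.card_zmod]
    exact (Nat.pow_le_pow_right two_pos (by omega : Module.finrank (ZMod 2) (Additive W) ≤ 1)).trans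
      (by norm_num)
  have hy1 : (⟨y, hy, hyN⟩ : A) = 1 := hinj (LinearEquiv.ext fun v => by
    rw [map_one]
    change ρ ⟨y, hy, hyN⟩ v = v
    by_cases hv : v = 0
    · simp [hv]
    by_contra hne
    have hne0 : ρ ⟨y, hy, hyN⟩ v ≠ 0 := fun h0 => hv ((LinearEquiv.map_eq_zero_iff _).1 h0)
    have := Fintype.ofFinite (Additive W)
    have h3 : ({0, v, ρ ⟨y, hy, hyN⟩ v} : Finset (Additive W)).card = 3 := by
      rw [Finset.card_insert_of_notMem (by simp [Ne.symm hv, Ne.symm hne0]),
        Finset.card_insert_of_notMem (by simp [Ne.symm hne]), Finset.card_singleton]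
    have h4 := Finset.card_le_univ ({0, v, ρ ⟨y, hy, hyN⟩ v} : Finset (Additive W))
    rw [Nat.card_eq_fintype_card] at hW1
    omega)
  have hy' : y = 1 := congrArg Subtype.val hy1
  rw [hy', one_mul]
  exact mem_centralizer_iff.2 fun z hz => congrArg Subtype.val
    (h.fac.comm.is_comm.comm (⟨z, hz⟩ : (T : Subgroup G)) ⟨u, hu⟩)

end CfsgLib.FTCons.AbelianFactor
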