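import Mathlib
import Cfsg.Agent.Lib.FTCons.Basic
import Cfsg.Agent.Lib.Coprime.SchurZassenhaus
import Cfsg.Prelude.Def_OddOrderLocal

/-!
Hall subgroups of π-separable groups, given that groups of odd order are solvable.
-/

set_option autoImplicit false
open Pointwise

namespace CfsgLib.FTCons

universe u

/-- Every prime divisor of `n` lies in `π`. -/
def PiNum (π : Set ℕ) (n : ℕ) : Prop := ∀ q : ℕ, q.Prime → q ∣ n → q ∈ π

theorem PiNum.coprime {π : Set ℕ} {m n : ℕ} (hm : PiNum π m) (hn : PiNum πᶜ n) : m.Coprime n :=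
  Nat.coprime_of_dvd fun q hq h1 h2 => hn q hq h2 (hm q hq h1)

theorem PiNum.dvd {π : Set ℕ} {m n : ℕ} (hn : PiNum π n) (h : m ∣ n) : PiNum π m :=
  fun q hq hd => hn q hq (hd.trans h)

theorem PiNum.mul {π : Set ℕ} {m n : ℕ} (hm : PiNum π m) (hn : PiNum π n) : PiNum π (m * n) :=
  fun q hq hd => (hq.dvd_mul.1 hd).elim (hm q hq) (hn q hq)

/-- Hall subgroups exist and every π-subgroup has a conjugate inside any of them. -/
def Dom (π : Set ℕ) (G : Type u) [Group G] : Prop :=
  (∃ K : Subgroup G, PiNum π (Nat.card K) ∧ PiNum πᶜ K.index) ∧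
    ∀ K : Subgroup G, PiNum π (Nat.card K) → PiNum πᶜ K.index →
      ∀ U : Subgroup G, PiNum π (Nat.card U) → ∃ g : G, ∀ u ∈ U, g * u * g⁻¹ ∈ K

variable {G : Type u} [Group G] [Finite G] {π : Set ℕ}

theorem dom_step (hFT : OddSolvable.{u}) (N : Subgroup G) [N.Normal]
    (hN : PiNum π (Nat.card N) ∨ PiNum πᶜ (Nat.card N)) (hq : Dom π (G ⧸ N)) : Dom π G := by
  classical
  set f := QuotientGroup.mk' N
  have hf : Function.Surjective f := QuotientGroup.mk'_surjective N
  have hker : f.ker = N := QuotientGroup.ker_mk' N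
  have hG : Nat.card G = Nat.card (G ⧸ N) * Nat.card N :=
    Subgroup.card_eq_card_quotient_mul_card_subgroup N
  obtain ⟨⟨Kb, hKb, hKb'⟩, hdom⟩ := hq
  have hidxL : (Kb.comap f).index = Kb.index := Subgroup.index_comap_of_surjective _ hf
  have hcardL : Nat.card (Kb.comap f) = Nat.card Kb * Nat.card N := by
    have h1 := (Kb.comap f).card_mul_index
    rw [hidxL, hG, ← Kb.card_mul_index] at h1
    have hpos : 0 < Kb.index := Nat.pos_of_ne_zero Subgroup.index_ne_zero_of_finite
    nlinarith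
  have himage : ∀ K U : Subgroup G, PiNum π (Nat.card K) → PiNum πᶜ K.index →
      PiNum π (Nat.card U) → ∃ g : G, ∀ u ∈ U, g * u * g⁻¹ ∈ K ⊔ N := by
    intro K U hK hK' hU
    obtain ⟨gb, hgb⟩ := hdom (K.map f) (hK.dvd (K.card_map_dvd f))
      (hK'.dvd (Subgroup.index_map_dvd K hf)) (U.map f) (hU.dvd (U.card_map_dvd f))
    obtain ⟨g, rfl⟩ := hf gb
    refine ⟨g, fun u hu => ?_⟩
    have h := hgb (f u) ⟨u, hu, rfl⟩
    rw [← map_inv, ← map_mul, ← map_mul] at h
    have h2 : g * u * g⁻¹ ∈ (K.map f).comap f := h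
    rwa [Subgroup.comap_map_eq, hker] at h2
  rcases hN with hN | hN
  · refine ⟨⟨Kb.comap f, hcardL ▸ hKb.mul hN, hidxL ▸ hKb'⟩, fun K hK hK' U hU => ?_⟩
    obtain ⟨g, hg⟩ := himage K U hK hK' hU
    refine ⟨g, fun u hu => ?_⟩
    have hle : K ⊔ N ≤ K := by
      rw [← Subgroup.relIndex_eq_one]
      refine Nat.eq_one_of_dvd_coprimes (PiNum.coprime (π := π) ?_ hK') dvd_rfl
        (Subgroup.relIndex_dvd_index_of_le le_sup_left)
      refine PiNum.dvd ?_ (Subgroup.relIndex_dvd_card _ _)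
      refine PiNum.dvd (hK.mul hN) ?_
      exact CfsgLib.Coprime.card_sup_dvd Subgroup.le_normalizer_of_normal
    exact hle (hg u hu)
  · refine ⟨?_, fun K hK hK' U hU => ?_⟩
    · set L := Kb.comap f
      have hNL : N ≤ L := fun n hn => by
        show f n ∈ Kb
        rw [show f n = 1 from (QuotientGroup.eq_one_iff n).2 hn]
        exact one_mem _
      have hcN : Nat.card (N.subgroupOf L) = Nat.card N :=
        Nat.card_congr (Subgroup.subgroupOfEquivOfLe hNL).toEquiv
      have hiN : (N.subgroupOf L).index = Nat.card Kb := by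
        have h1 := (N.subgroupOf L).card_mul_index
        rw [hcN, hcardL] at h1
        exact Nat.eq_of_mul_eq_mul_left Nat.card_pos (h1.trans (mul_comm _ _))
      obtain ⟨C, hC⟩ := Subgroup.exists_right_complement'_of_coprime (N := N.subgroupOf L)
        (by rw [hcN, hiN]; exact (hKb.coprime hN).symm)
      have hCc : Nat.card (C.map L.subtype) = Nat.card Kb := by
        rw [Nat.card_congr (C.equivMapOfInjective L.subtype L.subtype_injective).symm.toEquiv]
        exact (CfsgLib.Coprime.card_eq_index_of_isComplement' hC).trans hiN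
      refine ⟨C.map L.subtype, hCc ▸ hKb, ?_⟩
      have h1 := (C.map L.subtype).card_mul_index
      rw [hCc, hG, ← Kb.card_mul_index, mul_assoc] at h1
      rw [Nat.eq_of_mul_eq_mul_left Nat.card_pos h1]
      exact hKb'.mul hN
    · obtain ⟨g, hg⟩ := himage K U hK hK' hU
      set L := K ⊔ N
      set V := U.map (MulAut.conj g).toMonoidHom
      have hVL : V ≤ L := by rintro _ ⟨u, hu, rfl⟩; exact hg u hu
      have hVc : Nat.card V = Nat.card U :=
        Nat.card_congr (U.equivMapOfInjective _ (MulAut.conj g).injective).symm.toEquiv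
      have hKN : K ⊓ N = ⊥ := Subgroup.inf_eq_bot_of_coprime (hK.coprime hN)
      have hL : Nat.card L = Nat.card K * Nat.card N :=
        CfsgLib.Coprime.card_sup_of_disjoint Subgroup.le_normalizer_of_normal
          (by rw [inf_comm]; exact hKN)
      have hcN : Nat.card (N.subgroupOf L) = Nat.card N :=
        Nat.card_congr (Subgroup.subgroupOfEquivOfLe (le_sup_right : N ≤ L)).toEquiv
      have hcK : Nat.card (K.subgroupOf L) = Nat.card K :=
        Nat.card_congr (Subgroup.subgroupOfEquivOfLe (le_sup_left : K ≤ L)).toEquiv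
      have hcV : Nat.card (V.subgroupOf L) = Nat.card U :=
        (Nat.card_congr (Subgroup.subgroupOfEquivOfLe hVL).toEquiv).trans hVc
      have hiN : (N.subgroupOf L).index = Nat.card K := by
        have h1 := (N.subgroupOf L).card_mul_index
        rw [hcN, hL] at h1
        exact Nat.eq_of_mul_eq_mul_left Nat.card_pos (h1.trans (mul_comm _ _))
      have hcop : (Nat.card (N.subgroupOf L)).Coprime (Nat.card (V.subgroupOf L)) := by
        rw [hcN, hcV]; exact (hU.coprime hN).symm
      obtain ⟨x, -, hx⟩ := CfsgLib.Coprime.exists_conj_le_complement (N.subgroupOf L)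
        (by rw [hcN, hiN]; exact (hK.coprime hN).symm) (K.subgroupOf L) (by rw [hcK, hiN])
        (V.subgroupOf L) hcop (hFT.solvable_or_of_coprime hcop)
      refine ⟨(x : G) * g, fun u hu => ?_⟩
      have hv : (⟨g * u * g⁻¹, hg u hu⟩ : L) ∈ V.subgroupOf L := ⟨u, hu, rfl⟩
      have := hx (Subgroup.smul_mem_pointwise_smul _ (MulAut.conj x) _ hv)
      simpa [Subgroup.mem_subgroupOf, mul_assoc, MulAut.smul_def] using this

theorem dom_of_series (hFT : OddSolvable.{u}) : ∀ (n : ℕ) {G : Type u} [Group G] [Finite G]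
    (H : Fin (n + 1) → Subgroup G), H 0 = ⊥ → H (Fin.last n) = ⊤ → Monotone H →
    (∀ i, (H i).Normal) →
    (∀ i : Fin n, PiNum π ((H i.castSucc).relIndex (H i.succ)) ∨
      PiNum πᶜ ((H i.castSucc).relIndex (H i.succ))) → Dom π G := by
  intro n
  induction n with
  | zero =>
    intro G _ _ H h0 hl _ _ _
    have hbt : (⊥ : Subgroup G) = ⊤ := h0.symm.trans hl
    have hm : ∀ g : G, g = 1 := fun g => by
      have : g ∈ (⊥ : Subgroup G) := hbt ▸ Subgroup.mem_top g
      simpa using this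
    refine ⟨⟨⊤, ?_, ?_⟩, fun K _ _ U _ => ⟨1, fun u _ => by simp [hm u]⟩⟩
    · intro q hq hd
      have : Nat.card (⊤ : Subgroup G) = 1 := by rw [← hbt]; exact Subgroup.card_bot
      exact absurd (Nat.dvd_one.1 (this ▸ hd)) hq.ne_one
    · intro q hq hd
      exact absurd (Nat.dvd_one.1 (Subgroup.index_top (G := G) ▸ hd)) hq.ne_one
  | succ n ih =>
    intro G _ _ H h0 hl hm hn hstep
    haveI := hn
    set N := H 1
    have hN : PiNum π (Nat.card N) ∨ PiNum πᶜ (Nat.card N) := by
      have h := hstep 0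
      simp only [Fin.castSucc_zero, Fin.succ_zero_eq_one, h0, Subgroup.relIndex_bot_left] at h
      exact h
    refine dom_step hFT N hN ?_
    set f := QuotientGroup.mk' N
    refine ih (fun j => (H j.succ).map f) ?_ ?_
      (fun i j hij => Subgroup.map_mono (hm (by simpa using hij)))
      (fun j => (hn _).map f (QuotientGroup.mk'_surjective N)) (fun i => ?_)
    · exact (Subgroup.map_eq_bot_iff _).2 (by rw [QuotientGroup.ker_mk']; rfl)
    · rw [Fin.succ_last, hl]
      exact Subgroup.map_top_of_surjective f (QuotientGroup.mk'_surjective N)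
    · have hle : ∀ j : Fin (n + 1), N ≤ H j.succ := fun j => hm (by
        rw [← Fin.succ_zero_eq_one]; exact Fin.succ_le_succ_iff.2 (Fin.zero_le j))
      have e : ((H i.castSucc.succ).map f).relIndex ((H i.succ.succ).map f) =
          (H i.succ.castSucc).relIndex (H i.succ.succ) := by
        rw [Subgroup.relIndex_map_map, QuotientGroup.ker_mk', sup_eq_left.2 (hle _),
          sup_eq_left.2 (hle _), Fin.succ_castSucc]
      simp only [e]
      exact hstep i.succ

theorem hall_of_dom (h : Dom π G) :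
    (∃ K : Subgroup G, Cfsg.IsPiHall π K) ∧
      (∀ K L : Subgroup G, Cfsg.IsPiHall π K → Cfsg.IsPiHall π L →
        ∃ g : G, L = K.map (MulAut.conj g).toMonoidHom) ∧
      ∀ U : Subgroup G, (∀ q : ℕ, q.Prime → q ∣ Nat.card U → q ∈ π) →
        ∃ K : Subgroup G, Cfsg.IsPiHall π K ∧ U ≤ K := by
  have hiff : ∀ K : Subgroup G, Cfsg.IsPiHall π K ↔
      PiNum π (Nat.card K) ∧ PiNum πᶜ K.index := fun K =>
    ⟨fun h => ⟨h.1, fun q hq hd hm => h.2 q hq hm hd⟩,
      fun h => ⟨h.1, fun q hq hm hd => h.2 q hq hd hm⟩⟩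
  obtain ⟨⟨K₀, hK₀⟩, hdom⟩ := h
  refine ⟨⟨K₀, (hiff _).2 hK₀⟩, fun K L hK hL => ?_, fun U hU => ?_⟩
  · obtain ⟨g, hg⟩ := hdom L ((hiff L).1 hL).1 ((hiff L).1 hL).2 K hK.1
    have hle : K.map (MulAut.conj g).toMonoidHom ≤ L := by
      rintro _ ⟨k, hk, rfl⟩; exact hg k hk
    refine ⟨g, (Subgroup.eq_of_le_of_card_ge hle ?_).symm⟩
    rw [Nat.card_congr (K.equivMapOfInjective _ (MulAut.conj g).injective).symm.toEquiv]
    have h1 : (Nat.card L).Coprime K.index :=
      PiNum.coprime hL.1 ((hiff K).1 hK).2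
    have h2 : Nat.card L ∣ Nat.card K * K.index := K.card_mul_index ▸ L.card_subgroup_dvd_card
    exact Nat.le_of_dvd Nat.card_pos (h1.dvd_of_dvd_mul_right h2)
  · obtain ⟨g, hg⟩ := hdom K₀ hK₀.1 hK₀.2 U hU
    refine ⟨K₀.map (MulAut.conj g⁻¹).toMonoidHom, (hiff _).2 ⟨?_, ?_⟩, fun u hu => ?_⟩
    · rw [Nat.card_congr (K₀.equivMapOfInjective _ (MulAut.conj g⁻¹).injective).symm.toEquiv]
      exact hK₀.1
    · rw [Subgroup.index_map_of_bijective (MulAut.conj g⁻¹).bijective]
      exact hK₀.2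
    · exact ⟨g * u * g⁻¹, hg u hu, by simp [MulAut.conj_apply]; group⟩

end CfsgLib.FTCons
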