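import Mathlib
import Cfsg.Agent.Lib.FTCons.PiSeparable
import Cfsg.Prelude.Def_HallClasses

/-!
Extensions of groups in which the Hall π-subgroups exist and are conjugate (Hall, Chunikhin),
given that groups of odd order are solvable.
-/

set_option autoImplicit false
set_option linter.style.haveILetI false
open Pointwise

namespace CfsgLib.FTCons

open Subgroup

universe u

variable {π : Set ℕ} {G : Type u} [Group G] [Finite G]

theorem piNum_hall {X : Subgroup G} (h : Cfsg.IsPiHall π X) :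
    PiNum π (Nat.card X) ∧ PiNum πᶜ X.index :=
  ⟨h.1, fun q hq hd hm => h.2 q hq hm hd⟩

theorem isPiHall_of_piNum {X : Subgroup G} (h1 : PiNum π (Nat.card X)) (h2 : PiNum πᶜ X.index) :
    Cfsg.IsPiHall π X :=
  ⟨h1, fun q hq hm hd => h2 q hq hd hm⟩

theorem card_map_equiv_eq (X : Subgroup G) (g : G) :
    Nat.card (X.map (MulAut.conj g).toMonoidHom) = Nat.card X :=
  Nat.card_congr (X.equivMapOfInjective _ (MulAut.conj g).injective).symm.toEquiv

theorem isPiHall_conj {X : Subgroup G} (h : Cfsg.IsPiHall π X) (g : G) :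
    Cfsg.IsPiHall π (X.map (MulAut.conj g).toMonoidHom) :=
  isPiHall_of_piNum (by rw [card_map_equiv_eq]; exact (piNum_hall h).1)
    (by rw [index_map_of_bijective (MulAut.conj g).bijective]; exact (piNum_hall h).2)

/-- A Hall subgroup meets a normal subgroup in a Hall subgroup of it. -/
theorem isPiHall_subgroupOf {X : Subgroup G} (h : Cfsg.IsPiHall π X) (A : Subgroup G) [A.Normal] :
    Cfsg.IsPiHall π (X.subgroupOf A) := by
  refine isPiHall_of_piNum ?_ ?_
  · refine (piNum_hall h).1.dvd ?_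
    rw [← inf_subgroupOf_right, Nat.card_congr (subgroupOfEquivOfLe inf_le_right).toEquiv]
    exact card_dvd_of_le inf_le_left
  · refine (piNum_hall h).2.dvd ?_
    show X.relIndex A ∣ X.index
    have e : X.relIndex A = X.relIndex (X ⊔ A) := by
      have h1 : Nat.card (X ⊓ A : Subgroup G) * X.relIndex A = Nat.card A := by
        rw [← inf_relIndex_right X A, ← relIndex_bot_left (X ⊓ A),
          relIndex_mul_relIndex _ _ _ bot_le inf_le_right, relIndex_bot_left]
      have h2 : Nat.card X * X.relIndex (X ⊔ A) = Nat.card (X ⊔ A : Subgroup G) := by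
        rw [← relIndex_bot_left X, relIndex_mul_relIndex _ _ _ bot_le le_sup_left, relIndex_bot_left]
      have h3 : Nat.card A * A.relIndex X = Nat.card (X ⊔ A : Subgroup G) := by
        rw [← relIndex_sup_right X A, ← relIndex_bot_left A,
          relIndex_mul_relIndex _ _ _ bot_le le_sup_right, relIndex_bot_left]
      have h4 : Nat.card (X ⊓ A : Subgroup G) * A.relIndex X = Nat.card X := by
        rw [← inf_relIndex_left X A, ← relIndex_bot_left (X ⊓ A),
          relIndex_mul_relIndex _ _ _ bot_le inf_le_left, relIndex_bot_left]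
      refine Nat.eq_of_mul_eq_mul_left (Nat.card_pos (α := X)) ?_
      rw [h2, ← h3, ← h1, ← h4]; ring
    rw [e]
    exact relIndex_dvd_index_of_le le_sup_left

/-- The conjugates, by elements of the whole group, of a Hall subgroup of a normal subgroup with
conjugate Hall subgroups are conjugates by elements of the normal subgroup. -/
theorem frattini_hall (A : Subgroup G) [A.Normal] (hA : Cfsg.IsCPiGroup π A) {H0 : Subgroup A}
    (hH0 : Cfsg.IsPiHall π H0) (g : G) :
    ∃ a : A, (a : G) * g ∈ normalizer ((H0.map A.subtype : Subgroup G) : Set G) := by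
  set φ : A ≃* A := MulAut.conjNormal g with hφ
  have hK : Cfsg.IsPiHall π (H0.map φ.toMonoidHom) := by
    refine isPiHall_of_piNum ?_ ?_
    · rw [Nat.card_congr (H0.equivMapOfInjective φ.toMonoidHom φ.injective).symm.toEquiv]
      exact (piNum_hall hH0).1
    · rw [show (H0.map φ.toMonoidHom).index = H0.index from index_map_of_bijective φ.bijective H0]
      exact (piNum_hall hH0).2
  obtain ⟨a, ha⟩ := hA.2 _ _ hK hH0
  refine ⟨a, mem_normalizer_fintype fun x hx => ?_⟩
  obtain ⟨y, hy, rfl⟩ := hx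
  refine ⟨a * φ y * a⁻¹, ?_, ?_⟩
  · rw [SetLike.mem_coe, ha]
    exact ⟨φ y, ⟨y, hy, rfl⟩, rfl⟩
  · show (a : G) * (g * (y : G) * g⁻¹) * (a : G)⁻¹ = (a : G) * g * (y : G) * ((a : G) * g)⁻¹
    group

/-- An extension of a group with conjugate Hall subgroups by another one has conjugate Hall
subgroups. -/
theorem cPi_extension (hFT : OddSolvable.{u}) (A : Subgroup G) [A.Normal]
    (hA : Cfsg.IsCPiGroup π A) (hQ : Cfsg.IsCPiGroup π (G ⧸ A)) : Cfsg.IsCPiGroup π G := by
  classical
  obtain ⟨H0', hH0'⟩ := hA.1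
  set H0 : Subgroup G := H0'.map A.subtype with hH0
  have hH0A : H0 ≤ A := map_subtype_le _
  have hH0card : Nat.card H0 = Nat.card H0' :=
    Nat.card_congr (H0'.equivMapOfInjective _ A.subtype_injective).symm.toEquiv
  have hH0sub : H0.subgroupOf A = H0' := comap_map_eq_self_of_injective A.subtype_injective _
  have hH0idx : PiNum πᶜ (H0.relIndex A) := by
    show PiNum πᶜ (H0.subgroupOf A).index
    rw [hH0sub]; exact (piNum_hall hH0').2
  set N := normalizer (H0 : Set G) with hN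
  set f := QuotientGroup.mk' A with hf'
  have hf : Function.Surjective f := QuotientGroup.mk'_surjective A
  have hker : f.ker = A := QuotientGroup.ker_mk' A
  have hlift : ∀ q : G ⧸ A, ∃ n ∈ N, f n = q := fun q => by
    obtain ⟨g, rfl⟩ := hf q
    obtain ⟨a, ha⟩ := frattini_hall A hA hH0' g
    exact ⟨(a : G) * g, ha, by
      rw [map_mul, MonoidHom.mem_ker.1 (hker.symm ▸ a.2 : (a : G) ∈ f.ker), one_mul]⟩
  -- facts about `L = N ∩ f⁻¹ Kb`
  have hL : ∀ Kb : Subgroup (G ⧸ A), PiNum π (Nat.card Kb) →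
      ∃ L : Subgroup G, L = N ⊓ Kb.comap f ∧ H0 ≤ L ∧ ∃ (_ : (H0.subgroupOf L).Normal)
        (M : Subgroup (L ⧸ H0.subgroupOf L)),
        M.Normal ∧ PiNum πᶜ (Nat.card M) ∧ M.index = Nat.card Kb := by
    intro Kb hKb
    set L := N ⊓ Kb.comap f with hLdef
    have hH0L : H0 ≤ L := le_inf le_normalizer fun x hx => by
      show f x ∈ Kb
      rw [MonoidHom.mem_ker.1 (hker.symm ▸ hH0A hx : x ∈ f.ker)]
      exact one_mem _
    have hnorm : (H0.subgroupOf L).Normal :=
      (normal_subgroupOf_iff_le_normalizer hH0L).2 inf_le_left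
    refine ⟨L, rfl, hH0L, hnorm, ?_⟩
    haveI := hnorm
    let g : L →* G ⧸ A := f.comp L.subtype
    have hgker : g.ker = A.subgroupOf L := by
      rw [← MonoidHom.comap_ker, hker]; rfl
    have hgrange : g.range = Kb := by
      refine le_antisymm ?_ fun q hq => ?_
      · rintro _ ⟨x, rfl⟩; exact x.2.2
      · obtain ⟨n, hn, rfl⟩ := hlift q
        exact ⟨⟨n, hn, hq⟩, rfl⟩
    let p := QuotientGroup.mk' (H0.subgroupOf L)
    refine ⟨(A.subgroupOf L).map p, Normal.map (normal_subgroupOf) p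
      (QuotientGroup.mk'_surjective _), ?_, ?_⟩
    · rw [← relIndex_ker (f := p), QuotientGroup.ker_mk']
      show PiNum πᶜ ((H0.comap L.subtype).relIndex (A.subgroupOf L))
      rw [relIndex_comap, subgroupOf_map_subtype]
      exact hH0idx.dvd (Dvd.intro _ (relIndex_mul_relIndex H0 (A ⊓ L) A (le_inf hH0A hH0L) inf_le_left))
    · rw [index_map_eq _ (QuotientGroup.mk'_surjective _) (by
        rw [QuotientGroup.ker_mk']; exact fun x hx => hH0A hx),
        ← hgker, index_ker, hgrange]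
  refine ⟨?_, fun X Y hX hY => ?_⟩
  · obtain ⟨Kb, hKb⟩ := hQ.1
    obtain ⟨L, hLeq, hH0L, _, M, hMn, hMc, hMi⟩ := hL Kb (piNum_hall hKb).1
    haveI := hMn
    obtain ⟨C, hC⟩ := exists_right_complement'_of_coprime (N := M)
      (by rw [hMi]; exact ((piNum_hall hKb).1.coprime hMc).symm)
    set X := (C.comap (QuotientGroup.mk' (H0.subgroupOf L))).map L.subtype with hXdef
    have hXcard : Nat.card X = Nat.card Kb * Nat.card H0 := by
      rw [Nat.card_congr (equivMapOfInjective _ _ L.subtype_injective).symm.toEquiv,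
        ← Nat.card_congr (subgroupOfEquivOfLe hH0L).toEquiv]
      set D := C.comap (QuotientGroup.mk' (H0.subgroupOf L)) with hD
      have hle : H0.subgroupOf L ≤ D := QuotientGroup.le_comap_mk' _ _
      have hCc : (H0.subgroupOf L).relIndex D = Nat.card C := by
        have h := relIndex_ker (f := QuotientGroup.mk' (H0.subgroupOf L)) (K := D)
        rwa [QuotientGroup.ker_mk', hD, map_comap_eq_self_of_surjective
          (QuotientGroup.mk'_surjective _)] at h
      rw [← relIndex_bot_left D, ← relIndex_mul_relIndex _ _ _ bot_le hle, hCc,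
        relIndex_bot_left, mul_comm, CfsgLib.Coprime.card_eq_index_of_isComplement' hC, hMi]
    refine ⟨X, isPiHall_of_piNum (hXcard ▸ (piNum_hall hKb).1.mul
      (hH0card ▸ (piNum_hall hH0').1)) ?_⟩
    have h1 : Nat.card X * X.index = Nat.card X * (Kb.index * H0.relIndex A) := by
      rw [X.card_mul_index, hXcard, card_eq_card_quotient_mul_card_subgroup A, ← Kb.card_mul_index]
      have h2 : Nat.card H0 * H0.relIndex A = Nat.card A := by
        rw [← relIndex_bot_left H0, relIndex_mul_relIndex _ _ _ bot_le hH0A, relIndex_bot_left]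
      rw [← h2]; ring
    rw [Nat.eq_of_mul_eq_mul_left Nat.card_pos h1]
    exact (piNum_hall hKb).2.mul hH0idx
  -- conjugacy
  have norm : ∀ X : Subgroup G, Cfsg.IsPiHall π X →
      ∃ g : G, X.map (MulAut.conj g).toMonoidHom ⊓ A = H0 := fun X hX => by
    obtain ⟨a, ha⟩ := hA.2 _ _ (isPiHall_subgroupOf hX A) hH0'
    refine ⟨a, ?_⟩
    have h1 : (X.map (MulAut.conj (a : G)).toMonoidHom).subgroupOf A = H0' := by
      rw [ha]
      ext y
      constructor
      · rintro ⟨x, hx, e⟩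
        have hxA : x ∈ A := by
          have e' : x = (a : G)⁻¹ * y * a := by
            rw [show ((y : A) : G) = (a : G) * x * (a : G)⁻¹ from e.symm]; group
          rw [e']; exact mul_mem (mul_mem (inv_mem a.2) y.2) a.2
        exact ⟨⟨x, hxA⟩, hx, Subtype.ext e⟩
      · rintro ⟨x, hx, rfl⟩
        exact ⟨x, hx, rfl⟩
    rw [hH0, ← h1, subgroupOf_map_subtype]
  obtain ⟨gx, hgx⟩ := norm X hX
  obtain ⟨gy, hgy⟩ := norm Y hY
  suffices key : ∀ X Y : Subgroup G, Cfsg.IsPiHall π X → Cfsg.IsPiHall π Y → X ⊓ A = H0 →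
      Y ⊓ A = H0 → ∃ g : G, Y = X.map (MulAut.conj g).toMonoidHom by
    obtain ⟨g, hg⟩ := key _ _ (isPiHall_conj hX gx) (isPiHall_conj hY gy) hgx hgy
    refine ⟨gy⁻¹ * g * gx, map_injective (f := (MulAut.conj gy).toMonoidHom) (MulAut.conj gy).injective ?_⟩
    rw [hg, map_map, map_map]
    congr 1
    ext y
    simp [mul_assoc]
  intro X Y hX hY hXA hYA
  have hXN : ∀ Z : Subgroup G, Z ⊓ A = H0 → Z ≤ N := fun Z hZ z hz =>
    mem_normalizer_fintype fun x hx => by
      have hx' : x ∈ Z ⊓ A := hZ.symm ▸ hx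
      have h3 : z * x * z⁻¹ ∈ Z ⊓ A :=
        ⟨Z.mul_mem (Z.mul_mem hz hx'.1) (Z.inv_mem hz), ‹A.Normal›.conj_mem x hx'.2 z⟩
      exact hZ ▸ h3
  have hmapHall : ∀ Z : Subgroup G, Cfsg.IsPiHall π Z → Cfsg.IsPiHall π (Z.map f) := fun Z hZ =>
    isPiHall_of_piNum ((piNum_hall hZ).1.dvd (Z.card_map_dvd f))
      ((piNum_hall hZ).2.dvd (index_map_dvd Z hf))
  obtain ⟨q, hq⟩ := hQ.2 _ _ (hmapHall X hX) (hmapHall Y hY)
  obtain ⟨n, hn, rfl⟩ := hlift q
  set X' := X.map (MulAut.conj n).toMonoidHom with hX'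
  have hXA' : X' ⊓ A = H0 := by
    refine le_antisymm ?_ fun y hy => ⟨⟨n⁻¹ * y * n, ?_, by simp [mul_assoc]⟩, hH0A hy⟩
    · rintro y ⟨⟨x, hx, rfl⟩, hy⟩
      have hxA : x ∈ A := by
        have h3 := ‹A.Normal›.conj_mem _ hy n⁻¹
        simpa [mul_assoc] using h3
      exact (mem_normalizer_iff.1 hn x).1 (hXA ▸ ⟨hx, hxA⟩)
    · have h3 := (mem_normalizer_iff.1 (inv_mem hn) y).1 hy
      rw [inv_inv] at h3
      exact (hXA.symm ▸ h3 : n⁻¹ * y * n ∈ X ⊓ A).1
  have hfX : X'.map f = Y.map f := by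
    rw [hq, hX', map_map, map_map]
    congr 1
  obtain ⟨L, hLeq, hH0L, _, M, hMn, hMc, hMi⟩ := hL (Y.map f) (piNum_hall (hmapHall Y hY)).1
  haveI := hMn
  have hle : ∀ Z : Subgroup G, Z ⊓ A = H0 → Z.map f = Y.map f → Z ≤ L := fun Z hZ hZf => by
    rw [hLeq]
    exact le_inf (hXN Z hZ) (map_le_iff_le_comap.1 hZf.le)
  have hcard : ∀ Z : Subgroup G, Z ⊓ A = H0 → Z.map f = Y.map f →
      Nat.card ((Z.subgroupOf L).map (QuotientGroup.mk' (H0.subgroupOf L))) = M.index := by
    intro Z hZ hZf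
    rw [hMi, ← relIndex_ker, QuotientGroup.ker_mk', relIndex_subgroupOf (hle Z hZ hZf), ← hZf,
      ← relIndex_ker, hker, ← hZ, inf_comm, inf_relIndex_right]
  set P := (X'.subgroupOf L).map (QuotientGroup.mk' (H0.subgroupOf L))
  set R := (Y.subgroupOf L).map (QuotientGroup.mk' (H0.subgroupOf L))
  have hcop : (Nat.card M).Coprime M.index := by
    rw [hMi]; exact ((piNum_hall (hmapHall Y hY)).1.coprime hMc).symm
  have hP : Nat.card P = M.index := hcard X' hXA' hfX
  obtain ⟨x, -, hx⟩ := CfsgLib.Coprime.conj_complement _ le_rfl M hcop P R hP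
    (hcard Y hYA rfl) (hFT.solvable_or_of_coprime (hP ▸ hcop))
  obtain ⟨l, rfl⟩ := QuotientGroup.mk_surjective x
  have hle2 : X'.map (MulAut.conj (l : G)).toMonoidHom ≤ Y := by
    rintro _ ⟨y, hy, rfl⟩
    let yl : L := ⟨y, hle X' hXA' hfX hy⟩
    have h1 : QuotientGroup.mk' (H0.subgroupOf L) (l * yl * l⁻¹) ∈ R :=
      hx ▸ Subgroup.smul_mem_pointwise_smul _ (MulAut.conj _) P ⟨yl, hy, rfl⟩
    obtain ⟨w, hw, e⟩ := h1
    have e2 : (w : G)⁻¹ * ((l : G) * y * (l : G)⁻¹) ∈ H0 :=
      mem_subgroupOf.1 (QuotientGroup.eq.1 e)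
    have hH0Y : H0 ≤ Y := hYA ▸ inf_le_left
    have h4 := mul_mem (show (w : G) ∈ Y from hw) (hH0Y e2)
    rw [mul_inv_cancel_left] at h4
    exact h4
  refine ⟨(l : G) * n, (Eq.symm ?_)⟩
  have hcXY : Nat.card Y ≤ Nat.card (X'.map (MulAut.conj (l : G)).toMonoidHom) := by
    rw [card_map_equiv_eq]
    have h5 : ∀ Z : Subgroup G, Z ⊓ A = H0 → Z.map f = Y.map f →
        Nat.card Z = Nat.card H0 * Nat.card (Y.map f) := by
      intro Z hZ hZf
      rw [← hZf, ← relIndex_ker (f := f) (K := Z), hker, ← inf_relIndex_right, inf_comm A Z, hZ,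
        ← relIndex_bot_left H0, relIndex_mul_relIndex _ _ _ bot_le (hZ ▸ inf_le_left),
        relIndex_bot_left]
    rw [h5 X' hXA' hfX, h5 Y hYA rfl]
  rw [← eq_of_le_of_card_ge hle2 hcXY, hX', map_map]
  congr 1
  ext y
  simp [mul_assoc]

end CfsgLib.FTCons
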