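import Mathlib
import Cfsg.Agent.Lib.FTCons.Basic
import Cfsg.Agent.Lib.Tech46.AlperinGoldschmidt
import Cfsg.Agent.Lib.Involutions.WeaklyClosedCentral
import Cfsg.Agent.Lib.Isolated.LocalCentral
import Cfsg.Agent.Lib.PCore.Basic
import Cfsg.Agent.Lib.Coprime.Basic

/-!
Glauberman's theorem on automorphisms fixing a Sylow 2-subgroup pointwise: their commutator group has
odd order.
-/

set_option autoImplicit false
open scoped commutatorElement

namespace CfsgLib.FTCons.FixSylow

open Subgroup

universe u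

variable {G : Type u} [Group G] (S : Subgroup G) (w : MulAut G)

theorem zpow_fix (hw : ∀ s ∈ S, w s = s) (i : zpowers w) : ∀ s ∈ S, (i : MulAut G) s = s := by
  obtain ⟨v, k, rfl⟩ := i
  intro s hs
  show (w ^ k) s = s
  induction k using Int.induction_on with
  | zero => simp
  | succ n ih => rw [zpow_add_one, MulAut.mul_apply, hw s hs, ih]
  | pred n ih =>
    rw [zpow_sub_one, MulAut.mul_apply]
    have h1 : w⁻¹ s = s := w.injective (by rw [MulAut.apply_inv_self, hw s hs])
    rw [h1, ih]

/-- The semidirect product of `G` with the powers of `w`. -/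
abbrev Ext : Type u := G ⋊[(zpowers w).subtype] (zpowers w)

/-- The subgroup of the extension with left component in `S`. -/
def top (hw : ∀ s ∈ S, w s = s) : Subgroup (Ext w) where
  carrier := {x | x.left ∈ S}
  one_mem' := S.one_mem
  mul_mem' := fun {a b} ha hb => by
    show (a * b).left ∈ S
    rw [SemidirectProduct.mul_left]
    show a.left * ((a.right : MulAut G) b.left) ∈ S
    rw [zpow_fix S w hw a.right _ hb]
    exact S.mul_mem ha hb
  inv_mem' := fun {a} ha => by
    show (a⁻¹).left ∈ S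
    rw [SemidirectProduct.inv_left]
    show ((a.right⁻¹ : zpowers w) : MulAut G) a.left⁻¹ ∈ S
    rw [zpow_fix S w hw a.right⁻¹ _ (S.inv_mem ha)]
    exact S.inv_mem ha

/-- An element of the commutator group of `C` fixes every element `g` normalizing `D0` that it moves
inside `D0`, when `C` fixes `D0` pointwise and the 2-elements centralizing `D0` lie in it. -/
theorem fix_of_commutator [Finite G] (C : Subgroup (MulAut G)) (D0 : Subgroup G)
    (hfix : ∀ τ ∈ C, ∀ d ∈ D0, τ d = d) (hD0p : IsPGroup 2 D0)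
    (htwo : ∀ z ∈ centralizer (D0 : Set G), ∀ j : ℕ, z ^ 2 ^ j = 1 → z ∈ D0) (g : G)
    (hconj : ∀ d ∈ D0, g⁻¹ * d * g ∈ D0) (w : C) (hw : w ∈ commutator C)
    (hmove : g * ((w : MulAut G) g)⁻¹ ∈ D0) : (w : MulAut G) g = g := by
  classical
  haveI : Fact (Nat.Prime 2) := ⟨Nat.prime_two⟩
  set L := centralizer (D0 : Set G) with hL
  set m := (center L).index with hm
  have hmodd : Odd m := by
    obtain ⟨Q⟩ : Nonempty (Sylow 2 L) := inferInstance
    have hQ : (Q : Subgroup L) ≤ center L := fun q hq => mem_center_iff.2 fun y => by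
      obtain ⟨i, hi⟩ := Q.2 ⟨q, hq⟩
      have hq0 : (q : G) ∈ D0 := htwo _ q.2 i (congrArg Subtype.val (congrArg Subtype.val hi))
      exact Subtype.ext (mem_centralizer_iff.1 y.2 _ hq0).symm
    have hQodd : Odd (Q : Subgroup L).index :=
      Nat.not_even_iff_odd.1 fun h => Q.not_dvd_index h.two_dvd
    exact hQodd.of_dvd_nat (index_dvd_of_le hQ)
  set r := ordCompl[2] (Nat.card L) with hr
  have hrodd : Odd r := Nat.not_even_iff_odd.1 fun h =>
    Nat.not_dvd_ordCompl Nat.prime_two Nat.card_pos.ne' h.two_dvd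
  let ψ : L →* center L := (MonoidHom.mk' (fun z : center L => z ^ r) fun a b =>
    Commute.mul_pow (Subtype.ext (mem_center_iff.1 b.2 a)) r).comp (MonoidHom.transferCenterPow L)
  have hψ : ∀ y : L, ((ψ y : L) : G) = ((y : G) ^ m) ^ r := fun y => rfl
  have hψD : ∀ y : L, ((ψ y : L) : G) ∈ D0 := fun y => by
    refine htwo _ (ψ y : L).2 ((Nat.card L).factorization 2) ?_
    have h1 : (y : G) ^ Nat.card L = 1 :=
      congrArg Subtype.val (pow_card_eq_one' : (y : L) ^ Nat.card L = 1)
    rw [hψ, ← pow_mul, ← pow_mul]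
    rw [show m * (r * 2 ^ (Nat.card L).factorization 2) = Nat.card L * m by
      rw [mul_comm r, Nat.ordProj_mul_ordCompl_eq_self, mul_comm], pow_mul, h1, one_pow]
  have hmem : ∀ τ : C, g * ((τ : MulAut G) g)⁻¹ ∈ L := by
    intro τ
    rw [hL, mem_centralizer_iff]
    intro d hd
    have e := hfix τ τ.2 _ (hconj d hd)
    rw [map_mul, map_mul, map_inv, hfix τ τ.2 d hd] at e
    calc d * (g * ((τ : MulAut G) g)⁻¹) = g * (g⁻¹ * d * g) * ((τ : MulAut G) g)⁻¹ := by group
      _ = g * (((τ : MulAut G) g)⁻¹ * d * (τ : MulAut G) g) * ((τ : MulAut G) g)⁻¹ := by rw [e]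
      _ = _ := by group
  let f : C →* center L := MonoidHom.mk' (fun τ => ψ ⟨_, hmem τ⟩) fun σ τ => by
    have hmem' : (σ : MulAut G) (g * ((τ : MulAut G) g)⁻¹) ∈ L := by
      rw [hL, mem_centralizer_iff]
      intro d hd
      have := congrArg (σ : MulAut G) (mem_centralizer_iff.1 (hmem τ) d hd)
      rwa [map_mul, map_mul (σ : MulAut G) _ d, hfix σ σ.2 d hd] at this
    have e1 : (⟨_, hmem (σ * τ)⟩ : L) = ⟨_, hmem σ⟩ * ⟨_, hmem'⟩ := by
      refine Subtype.ext ?_
      show g * ((σ : MulAut G) ((τ : MulAut G) g))⁻¹ =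
        g * ((σ : MulAut G) g)⁻¹ * (σ : MulAut G) (g * ((τ : MulAut G) g)⁻¹)
      rw [map_mul, map_inv]; group
    rw [e1, map_mul]
    congr 1
    refine Subtype.ext (Subtype.ext ?_)
    rw [hψ]
    show ((σ : MulAut G) (g * ((τ : MulAut G) g)⁻¹) ^ m) ^ r = _
    rw [← map_pow, ← map_pow, ← hψ ⟨_, hmem τ⟩, hfix σ σ.2 _ (hψD _)]
  have hker : commutator C ≤ f.ker := by
    rw [_root_.commutator_def, Subgroup.commutator_le]
    intro a _ b _
    rw [MonoidHom.mem_ker, map_commutatorElement, commutatorElement_eq_one_iff_commute]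
    exact Subtype.ext (mem_center_iff.1 (f b).2 (f a))
  have hfw : ψ ⟨_, hmem w⟩ = 1 := hker hw
  set c := g * ((w : MulAut G) g)⁻¹ with hc
  have h1 : (c ^ m) ^ r = 1 := by
    rw [← hψ ⟨c, hmem w⟩, hfw]; rfl
  obtain ⟨i, hi⟩ := hD0p ⟨c, hmove⟩
  have hc1 : c = 1 := orderOf_eq_one_iff.1 (Nat.eq_one_of_dvd_coprimes
    (Nat.Coprime.pow_right i (Nat.coprime_two_right.2 (hmodd.mul hrodd)))
    (orderOf_dvd_of_pow_eq_one (by rw [pow_mul, h1]))
    (orderOf_dvd_of_pow_eq_one (congrArg Subtype.val hi)))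
  rw [hc, mul_inv_eq_one] at hc1
  exact hc1.symm

variable [Finite G]

/-- A two-element of the commutator group of a group of automorphisms fixing a Sylow 2-subgroup
pointwise is the identity. -/
theorem eq_one_of_mem_commutator (hO : ∀ N : Subgroup G, N.Normal → Odd (Nat.card N) → N = ⊥)
    (P : Sylow 2 G) (C : Subgroup (MulAut G)) (hC : ∀ φ ∈ C, ∀ s ∈ (P : Subgroup G), φ s = s)
    (w : C) (hwc : w ∈ commutator C) {k : ℕ} (hk : w ^ 2 ^ k = 1) : w = 1 := by
  classical
  haveI : Fact (Nat.Prime 2) := ⟨Nat.prime_two⟩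
  set v : MulAut G := (w : MulAut G) with hv
  have hvS : ∀ s ∈ (P : Subgroup G), v s = s := hC v w.2
  have hvk : v ^ 2 ^ k = 1 := by
    rw [hv, ← SubmonoidClass.coe_pow, hk, OneMemClass.coe_one]
  have hWp : IsPGroup 2 (zpowers v) := by
    obtain ⟨j, -, hj⟩ := (Nat.dvd_prime_pow Nat.prime_two).1 (orderOf_dvd_of_pow_eq_one hvk)
    exact IsPGroup.of_card (n := j) (by rw [Nat.card_zpowers, hj])
  haveI : Finite (Ext v) := Finite.of_equiv _ SemidirectProduct.equivProd.symm
  let T := top (P : Subgroup G) v hvS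
  have hTcard : Nat.card T = Nat.card (P : Subgroup G) * Nat.card (zpowers v) := by
    rw [← Nat.card_prod]
    exact Nat.card_congr ⟨fun x => (⟨x.1.left, x.2⟩, x.1.right), fun y => ⟨⟨y.1.1, y.2⟩, y.1.2⟩,
      fun _ => rfl, fun _ => rfl⟩
  have hTp : IsPGroup 2 T := by
    obtain ⟨a, ha⟩ := IsPGroup.iff_card.1 P.2
    obtain ⟨b, hb⟩ := IsPGroup.iff_card.1 hWp
    exact IsPGroup.of_card (n := a + b) (by rw [hTcard, ha, hb, pow_add])
  have hTidx : T.index = (P : Subgroup G).index := by
    have h1 := T.card_mul_index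
    rw [SemidirectProduct.card, hTcard, ← (P : Subgroup G).card_mul_index] at h1
    have h2 : Nat.card (P : Subgroup G) * Nat.card (zpowers v) * T.index =
        Nat.card (P : Subgroup G) * Nat.card (zpowers v) * (P : Subgroup G).index := by
      rw [h1]; ring
    exact Nat.eq_of_mul_eq_mul_left (Nat.mul_pos Nat.card_pos Nat.card_pos) h2
  let PX : Sylow 2 (Ext v) := hTp.toSylow (by rw [hTidx]; exact P.not_dvd_index)
  have hPX : (PX : Subgroup (Ext v)) = T := rfl
  set u : Ext v := SemidirectProduct.inr ⟨v, mem_zpowers v⟩ with hu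
  have huT : u ∈ T := by
    show u.left ∈ (P : Subgroup G)
    rw [hu, SemidirectProduct.left_inr]; exact one_mem _
  have hinr : ∀ x : zpowers v, (SemidirectProduct.inr x : Ext v) ∈ zpowers u := by
    rintro ⟨x, i, rfl⟩
    refine ⟨i, ?_⟩
    show u ^ i = _
    rw [hu, ← map_zpow]
    exact congrArg _ (Subtype.ext (by simp))
  have hfixinr : ∀ (x : zpowers v), ∀ s ∈ (P : Subgroup G),
      Commute (SemidirectProduct.inr x : Ext v) (SemidirectProduct.inl s) := by
    intro x s hs
    have h := SemidirectProduct.inl_aut (φ := (zpowers v).subtype) x s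
    rw [Subgroup.coe_subtype, zpow_fix _ v hvS x s hs, map_inv] at h
    show _ * _ = _ * _
    conv_rhs => rw [h, inv_mul_cancel_right]
  have hucent : ∀ t ∈ T, t * u = u * t := by
    intro t ht
    have e := (SemidirectProduct.inl_left_mul_inr_right t).symm
    have h1 := hfixinr ⟨v, mem_zpowers v⟩ t.left ht
    have h2 : Commute (SemidirectProduct.inr t.right : Ext v) u := by
      rw [hu]
      exact (show Commute t.right ⟨v, mem_zpowers v⟩ from mul_comm' _ _).map _
    rw [e]
    exact (h1.symm.mul_left h2).eq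
  have hfix : ∀ D : Subgroup (Ext v), Cfsg.Tech46.AlpGold.Family PX D →
      ∀ n ∈ normalizer (D : Set (Ext v)), n * u = u * n := by
    intro D hD
    obtain ⟨hDT, hcen, ⟨hOle, -, hOc, hOD, hsup⟩, hfn⟩ := hD
    rw [hPX] at hDT hfn
    set N := normalizer (D : Set (Ext v))
    have hsc : ∀ x ∈ T, (∀ d ∈ D, d * x = x * d) → x ∈ D := by
      intro x hx hxc
      have hx' := hcen (mem_centralizer_iff.2 hxc)
      rw [← hsup] at hx'
      set O := (Cfsg.pPrimeCore 2 ↥N).map N.subtype
      obtain ⟨o, ho, d, hd, rfl⟩ := CfsgLib.Coprime.exists_mul_of_mem_sup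
        (H := O) (N := D) (fun o ho => by
          rw [mem_normalizer_iff]
          intro d
          refine ⟨fun hd => ?_, fun hd => ?_⟩
          · rw [hOc o ho d hd, mul_inv_cancel_right]; exact hd
          · have h2 := hOc o ho _ hd
            have h3 : o * (o * d * o⁻¹) * o⁻¹ = o * d * o⁻¹ := by rw [h2, mul_inv_cancel_right]
            have h4 : o * d * o⁻¹ = d := mul_left_cancel (mul_right_cancel h3)
            rwa [h4] at hd) hx'
      have hoT : o ∈ T := by simpa [mul_assoc] using mul_mem hx (inv_mem (hDT hd))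
      have hinf : T ⊓ O = ⊥ := inf_eq_bot_of_coprime (by
        obtain ⟨a, ha⟩ := IsPGroup.iff_card.1 hTp
        rw [ha, card_map_of_injective N.subtype_injective]
        exact Nat.Coprime.pow_left a CfsgLib.PCore.pPrimeCore_coprime.symm)
      have : o ∈ T ⊓ O := ⟨hoT, ho⟩
      rw [hinf, mem_bot] at this
      rw [this, one_mul]; exact hd
    have huD : u ∈ D := hsc u huT fun d hd => hucent d (hDT hd)
    set D0 : Subgroup G := D.comap SemidirectProduct.inl with hD0
    have hD0S : D0 ≤ (P : Subgroup G) := fun g hg => by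
      have := hDT hg
      simpa [T, top] using this
    have hinrD : ∀ x : zpowers v, (SemidirectProduct.inr x : Ext v) ∈ D :=
      fun x => (zpowers_le.2 huD) (hinr x)
    have hleft : ∀ d ∈ D, d.left ∈ D0 := by
      intro d hd
      show SemidirectProduct.inl d.left ∈ D
      have h := mul_mem hd (inv_mem (hinrD d.right))
      rwa [show d * (SemidirectProduct.inr d.right)⁻¹ = SemidirectProduct.inl d.left by
        rw [mul_inv_eq_iff_eq_mul]; exact (SemidirectProduct.inl_left_mul_inr_right d).symm] at h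
    set L := centralizer (D0 : Set G) with hL
    set Y := centralizer ((D0.map SemidirectProduct.inl : Subgroup (Ext v)) : Set (Ext v)) with hY
    set E := D ⊓ Y with hE
    have hYn : ∀ x ∈ T, x ∈ Y → x ∈ D := by
      intro x hx hxY
      refine hsc x hx fun d hd => ?_
      have h1 : Commute x (SemidirectProduct.inl d.left) :=
        (mem_centralizer_iff.1 hxY _ ⟨d.left, hleft d hd, rfl⟩).symm
      have h2 : Commute x (SemidirectProduct.inr d.right) := by
        obtain ⟨i, hi⟩ := hinr d.right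
        rw [← show u ^ i = _ from hi]
        exact (show Commute x u from hucent x hx).zpow_right i
      have h3 := h1.mul_right h2
      rw [SemidirectProduct.inl_left_mul_inr_right] at h3
      exact h3.eq.symm
    have hNYT : ∀ z ∈ Y ⊓ N, ∀ j : ℕ, z ^ 2 ^ j = 1 → z ∈ D := by
      rintro z ⟨hzY, hzN⟩ j hj
      have hTN : IsPGroup 2 ((T ⊓ N).subgroupOf N) := (hTp.to_le inf_le_left).comap_subtype
      let TN : Sylow 2 N := hTN.toSylow hfn
      have hzp : IsPGroup 2 (zpowers (⟨z, hzN⟩ : N)) := by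
        obtain ⟨i, -, hi⟩ := (Nat.dvd_prime_pow Nat.prime_two).1
          (orderOf_dvd_of_pow_eq_one (x := (⟨z, hzN⟩ : N)) (Subtype.ext (by simpa using hj)))
        exact IsPGroup.of_card (n := i) (by rw [Nat.card_zpowers, hi])
      obtain ⟨c, hc⟩ := CfsgLib.Involutions.exists_conj_le_sylow hzp TN
      have hcz : (c : Ext v) * z * (c : Ext v)⁻¹ ∈ T :=
        (hc (⟨z, hzN⟩ : N) (mem_zpowers _)).1
      have hcN : (c : Ext v) ∈ N := c.2
      have hY' : (c : Ext v) * z * (c : Ext v)⁻¹ ∈ Y := by
        rw [hY, mem_centralizer_iff]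
        rintro _ ⟨d, hd, rfl⟩
        have e1 : (c : Ext v)⁻¹ * SemidirectProduct.inl d * (c : Ext v) ∈
            D0.map SemidirectProduct.inl := by
          refine ⟨((c : Ext v)⁻¹ * SemidirectProduct.inl d * (c : Ext v)).left, hleft _ ?_, ?_⟩
          · exact (mem_normalizer_iff''.1 hcN _).1 hd
          · have : ((c : Ext v)⁻¹ * SemidirectProduct.inl d * (c : Ext v)).right = 1 := by
              simp [SemidirectProduct.mul_right, SemidirectProduct.inv_right]
            ext <;> simp [this]
        have e2 := mem_centralizer_iff.1 hzY _ e1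
        calc SemidirectProduct.inl d * ((c : Ext v) * z * (c : Ext v)⁻¹)
            = (c : Ext v) * (((c : Ext v)⁻¹ * SemidirectProduct.inl d * (c : Ext v)) * z) * (c : Ext v)⁻¹ := by
              group
          _ = (c : Ext v) * (z * ((c : Ext v)⁻¹ * SemidirectProduct.inl d * (c : Ext v))) * (c : Ext v)⁻¹ := by
              rw [e2]
          _ = _ := by group
      have hD' := hYn _ hcz hY'
      exact (mem_normalizer_iff.1 hcN z).2 hD'
    have hsylY : ∀ z ∈ Y, ∀ j : ℕ, z ^ 2 ^ j = 1 → ∃ y ∈ Y, y * z * y⁻¹ ∈ E := by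
      intro z hzY j hj
      have hEp : IsPGroup 2 (E.subgroupOf Y) :=
        (hTp.to_le (inf_le_left.trans hDT)).comap_subtype
      obtain ⟨R, hR⟩ := hEp.exists_le_sylow
      have hRE : (R : Subgroup Y) = E.subgroupOf Y := by
        by_contra hne
        obtain ⟨r, hrR, hrE⟩ := SetLike.exists_of_lt
          (CfsgLib.Isolated.lt_inf_normalizer R.2 (lt_of_le_of_ne hR (Ne.symm hne)))
        refine hrE (mem_subgroupOf.2 ⟨?_, r.2⟩)
        obtain ⟨i, hi⟩ := R.2 ⟨r, hrR.1⟩
        refine hNYT (r : Ext v) ⟨r.2, ?_⟩ i ?_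
        · have key : ∀ a : Y, a ∈ normalizer ((E.subgroupOf Y : Subgroup Y) : Set Y) →
              ∀ d ∈ D, (a : Ext v) * d * (a : Ext v)⁻¹ ∈ D := by
            intro a ha d hd
            have hd1 : (a : Ext v) * SemidirectProduct.inl d.left * (a : Ext v)⁻¹ ∈ D := by
              have e := mem_centralizer_iff.1 a.2 _ ⟨d.left, hleft d hd, rfl⟩
              rw [← e, mul_inv_cancel_right]
              exact hleft d hd
            have hrY : (SemidirectProduct.inr d.right : Ext v) ∈ Y := by
              rw [hY, mem_centralizer_iff]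
              rintro _ ⟨s, hs, rfl⟩
              exact ((hfixinr d.right s (hD0S hs)).eq).symm
            have hd2 : (a : Ext v) * SemidirectProduct.inr d.right * (a : Ext v)⁻¹ ∈ D :=
              (mem_subgroupOf.1 ((mem_normalizer_iff.1 ha ⟨_, hrY⟩).1
                (mem_subgroupOf.2 ⟨hinrD _, hrY⟩))).1
            have := mul_mem hd1 hd2
            rwa [show (a : Ext v) * SemidirectProduct.inl d.left * (a : Ext v)⁻¹ *
              ((a : Ext v) * SemidirectProduct.inr d.right * (a : Ext v)⁻¹) =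
              (a : Ext v) * (SemidirectProduct.inl d.left * SemidirectProduct.inr d.right) *
                (a : Ext v)⁻¹ by group, SemidirectProduct.inl_left_mul_inr_right] at this
          show (r : Ext v) ∈ normalizer (D : Set (Ext v))
          rw [mem_normalizer_iff]
          refine fun d => ⟨key r hrR.2 d, fun hd => ?_⟩
          have := key r⁻¹ (inv_mem hrR.2) _ hd
          simpa [mul_assoc] using this
        · exact congrArg Subtype.val (congrArg Subtype.val hi)
      have hzp : IsPGroup 2 (zpowers (⟨z, hzY⟩ : Y)) := by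
        obtain ⟨i, -, hi⟩ := (Nat.dvd_prime_pow Nat.prime_two).1
          (orderOf_dvd_of_pow_eq_one (x := (⟨z, hzY⟩ : Y)) (Subtype.ext (by simpa using hj)))
        exact IsPGroup.of_card (n := i) (by rw [Nat.card_zpowers, hi])
      obtain ⟨c, hc⟩ := CfsgLib.Involutions.exists_conj_le_sylow hzp R
      have h := hc (⟨z, hzY⟩ : Y) (mem_zpowers _)
      replace h : c * (⟨z, hzY⟩ : Y) * c⁻¹ ∈ (R : Subgroup Y) := h
      rw [hRE] at h
      exact ⟨c, c.2, mem_subgroupOf.1 h⟩
    have htwo : ∀ z ∈ L, ∀ j : ℕ, z ^ 2 ^ j = 1 → z ∈ D0 := by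
      intro z hz j hj
      have hzY : (SemidirectProduct.inl z : Ext v) ∈ Y := by
        rw [hY, mem_centralizer_iff]
        rintro _ ⟨d, hd, rfl⟩
        rw [← map_mul, ← map_mul, mem_centralizer_iff.1 hz d hd]
      obtain ⟨y, hyY, hyE⟩ := hsylY _ hzY j (by rw [← map_pow, hj, map_one])
      set t := y * SemidirectProduct.inl z * y⁻¹
      have htr : t.right = 1 := by
        simp [t, SemidirectProduct.mul_right, SemidirectProduct.inv_right]
      have ht : t = SemidirectProduct.inl t.left := by ext <;> simp [htr]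
      have htD : t.left ∈ D0 := hleft _ hyE.1
      have hc := mem_centralizer_iff.1 hyY _ ⟨t.left, htD, rfl⟩
      rw [← ht] at hc
      have hzt : SemidirectProduct.inl z = t := by
        have e : SemidirectProduct.inl z = y⁻¹ * t * y := by simp only [t]; group
        rw [e, mul_assoc, hc, inv_mul_cancel_left]
      show SemidirectProduct.inl z ∈ D
      rw [hzt]; exact hyE.1
    have hD0L : ∀ x ∈ D0, ∀ y ∈ L, x * y = y * x := fun x hx y hy =>
      mem_centralizer_iff.1 hy x hx
    -- elements of `G` normalizing `D`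
    have hgN : ∀ g : G, (SemidirectProduct.inl g : Ext v) ∈ N → v g = g := by
      intro g hg
      refine fix_of_commutator C D0 (fun τ hτ d hd => hC τ hτ d (hD0S hd)) (P.2.to_le hD0S) htwo g
        (fun d hd => ?_) w hwc ?_
      · show SemidirectProduct.inl (g⁻¹ * d * g) ∈ D
        rw [map_mul, map_mul, map_inv]
        exact (mem_normalizer_iff''.1 hg _).1 hd
      · have h1 := (mem_normalizer_iff.1 hg u).1 huD
        have h2 := hleft _ h1
        simpa [hu, hv, SemidirectProduct.mul_left, map_inv] using h2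
    intro n hn
    have hnN : (SemidirectProduct.inl n.left : Ext v) ∈ N := by
      have h := mul_mem hn (inv_mem (le_normalizer (hinrD n.right) : _ ∈ N))
      rwa [show n * (SemidirectProduct.inr n.right)⁻¹ = SemidirectProduct.inl n.left by
        rw [mul_inv_eq_iff_eq_mul]; exact (SemidirectProduct.inl_left_mul_inr_right n).symm] at h
    have h1 : Commute (SemidirectProduct.inl n.left : Ext v) u := by
      have h := SemidirectProduct.inl_aut (φ := (zpowers v).subtype) ⟨v, mem_zpowers v⟩ n.left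
      rw [Subgroup.coe_subtype] at h
      rw [show ((⟨v, mem_zpowers v⟩ : zpowers v) : MulAut G) n.left = n.left from hgN _ hnN,
        map_inv] at h
      show _ * u = u * _
      conv_lhs => rw [h]
      rw [← hu, inv_mul_cancel_right]
    have h2 : Commute (SemidirectProduct.inr n.right : Ext v) u := by
      rw [hu]; exact (show Commute n.right ⟨v, mem_zpowers v⟩ from mul_comm' _ _).map _
    rw [← SemidirectProduct.inl_left_mul_inr_right n]
    exact (h1.mul_left h2).eq
  have hwc' : ∀ (i : ℕ) (g : Ext v), g * u ^ i * g⁻¹ ∈ (PX : Subgroup (Ext v)) →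
      g * u ^ i * g⁻¹ = u ^ i := by
    intro i g hg
    obtain ⟨L, c, hc, he, hL, -⟩ := Cfsg.Tech46.AlpGold.conjugation_family PX {u ^ i}
      (Set.singleton_subset_iff.2 (pow_mem huT i)) g⁻¹ (by
        rintro _ ⟨a, ha, rfl⟩
        rw [Set.mem_singleton_iff.1 ha, inv_inv]; exact hg)
    have key : ∀ (L : List (Subgroup (Ext v) × Ext v)) (A : Set (Ext v)),
        Cfsg.Tech46.AlpGold.Moves PX A L → Commute (Cfsg.Tech46.AlpGold.val L) u := by
      intro L
      induction L with
      | nil => intro A _; simp [Cfsg.Tech46.AlpGold.val]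
      | cons s L ih =>
        intro A hA
        obtain ⟨⟨hf, hs⟩, -, hrest⟩ := hA
        rw [Cfsg.Tech46.AlpGold.val_cons]
        exact Commute.mul_left (hfix _ hf _ hs) (ih _ hrest)
    have hval := ((key L _ hL).pow_right i).eq
    have hc' : u ^ i * c = c * u ^ i := mem_centralizer_iff.1 hc _ rfl
    rw [← inv_inv g, he, inv_inv]
    calc (c * Cfsg.Tech46.AlpGold.val L)⁻¹ * u ^ i * (c * Cfsg.Tech46.AlpGold.val L)
        = (Cfsg.Tech46.AlpGold.val L)⁻¹ * (c⁻¹ * (u ^ i * c)) * Cfsg.Tech46.AlpGold.val L := by group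
      _ = (Cfsg.Tech46.AlpGold.val L)⁻¹ * (u ^ i * Cfsg.Tech46.AlpGold.val L) := by rw [hc']; group
      _ = u ^ i := by rw [← hval]; group
  have huk : u ^ 2 ^ k = 1 := by
    rw [hu, ← map_pow, show (⟨v, mem_zpowers v⟩ : zpowers v) ^ 2 ^ k = 1 from
      Subtype.ext (by simpa using hvk), map_one]
  have hcore := CfsgLib.Involutions.WCC.commutator_mem_core k (Ext v) PX u huT huk hwc'
  set O := Cfsg.pPrimeCore 2 (Ext v)
  haveI : O.Normal := inferInstance
  have hbot : O.comap SemidirectProduct.inl = ⊥ := by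
    refine hO _ inferInstance (Nat.coprime_two_right.1 ?_)
    refine Nat.Coprime.coprime_dvd_left ?_ (CfsgLib.PCore.pPrimeCore_coprime (p := 2) (G := Ext v))
    have : Nat.card (O.comap (SemidirectProduct.inl : G →* Ext v)) =
        Nat.card ((O.comap SemidirectProduct.inl).map (SemidirectProduct.inl : G →* Ext v)) :=
      (card_map_of_injective SemidirectProduct.inl_injective).symm
    rw [this]
    exact card_dvd_of_le (map_comap_le _ _)
  refine Subtype.ext (MulEquiv.ext fun x => ?_)
  show v x = x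
  have h1 := hcore (SemidirectProduct.inl x)
  have h2 : SemidirectProduct.inl (x * (v x)⁻¹) ∈ O := by
    have e : (SemidirectProduct.inl x * u * (SemidirectProduct.inl x)⁻¹ * u⁻¹ : Ext v) =
        SemidirectProduct.inl (x * (v x)⁻¹) := by
      rw [mul_assoc, mul_assoc, map_mul, ← map_inv]
      congr 1
      rw [← mul_assoc, hu, ← map_inv (v : MulAut G) x]
      rw [← map_inv (SemidirectProduct.inr : zpowers v →* Ext v)]
      exact (SemidirectProduct.inl_aut (φ := (zpowers v).subtype) ⟨v, mem_zpowers v⟩ x⁻¹).symm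
    rwa [e] at h1
  have h3 : x * (v x)⁻¹ ∈ O.comap SemidirectProduct.inl := h2
  rw [hbot, mem_bot, mul_inv_eq_one] at h3
  exact h3.symm

/-- The commutator group of the automorphisms fixing a Sylow 2-subgroup pointwise has odd order. -/
theorem odd_card_commutator (hO : ∀ N : Subgroup G, N.Normal → Odd (Nat.card N) → N = ⊥)
    (P : Sylow 2 G) (C : Subgroup (MulAut G)) (hC : ∀ φ ∈ C, ∀ s ∈ (P : Subgroup G), φ s = s) :
    Odd (Nat.card (commutator C)) := by
  rw [← Nat.not_even_iff_odd]
  intro h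
  haveI : Fact (Nat.Prime 2) := ⟨Nat.prime_two⟩
  obtain ⟨x, hx⟩ := exists_prime_orderOf_dvd_card' 2 h.two_dvd
  have h2 : orderOf (x : C) = 2 := (Subgroup.orderOf_coe x).trans hx
  have h1 := eq_one_of_mem_commutator hO P C hC (x : C) x.2 (k := 1)
    (by rw [pow_one, ← h2]; exact pow_orderOf_eq_one _)
  rw [h1, orderOf_one] at h2
  exact absurd h2 (by norm_num)

/-- Glauberman's theorem on the automorphisms fixing a Sylow 2-subgroup pointwise. -/
theorem structure_of_fix (hFT : OddSolvable.{u})
    (hO : ∀ N : Subgroup G, N.Normal → Odd (Nat.card N) → N = ⊥)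
    (P : Sylow 2 G) (C : Subgroup (MulAut G)) (hC : ∀ φ ∈ C, ∀ s ∈ (P : Subgroup G), φ s = s) :
    (∀ T : Sylow 2 C, (∀ a b : T, a * b = b * a) ∧
      ∃ N : Subgroup C, N.Normal ∧ IsComplement' N (T : Subgroup C)) ∧ Group.IsSolvable C := by
  haveI : Fact (Nat.Prime 2) := ⟨Nat.prime_two⟩
  have hodd := odd_card_commutator hO P C hC
  have htriv : ∀ x ∈ commutator C, ∀ k : ℕ, x ^ 2 ^ k = 1 → x = 1 :=
    fun x hx k hk => eq_one_of_mem_commutator hO P C hC x hx hk
  refine ⟨fun T => ⟨fun a b => ?_, ?_⟩, ?_⟩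
  · refine Subtype.ext ?_
    have hmem : ⁅(a : C), (b : C)⁆ ∈ commutator C :=
      commutator_mem_commutator (mem_top _) (mem_top _)
    obtain ⟨i, hi⟩ := T.2 ⟨⁅(a : C), (b : C)⁆, by
      rw [commutatorElement_def]
      exact mul_mem (mul_mem (mul_mem a.2 b.2) (inv_mem a.2)) (inv_mem b.2)⟩
    exact commutatorElement_eq_one_iff_mul_comm.1 (htriv _ hmem i (congrArg Subtype.val hi))
  · set m := (T : Subgroup C).index with hm
    set q := QuotientGroup.mk' (commutator C)
    have hcomm : ∀ a b : C ⧸ commutator C, a * b = b * a := by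
      intro a b
      obtain ⟨a, rfl⟩ := QuotientGroup.mk'_surjective (commutator C) a
      obtain ⟨b, rfl⟩ := QuotientGroup.mk'_surjective (commutator C) b
      rw [← commutatorElement_eq_one_iff_mul_comm, ← map_commutatorElement]
      exact (QuotientGroup.eq_one_iff _).2 (commutator_mem_commutator (mem_top _) (mem_top _))
    let f : C →* C ⧸ commutator C := MonoidHom.mk' (fun x => q x ^ m) fun a b => by
      rw [map_mul, Commute.mul_pow (hcomm _ _)]
    have hfiff : ∀ x, x ∈ f.ker ↔ x ^ m ∈ commutator C := fun x => by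
      show q x ^ m = 1 ↔ _
      rw [← map_pow]
      exact QuotientGroup.eq_one_iff _
    have hmodd : Odd m := Nat.not_even_iff_odd.1 fun h => T.not_dvd_index h.two_dvd
    obtain ⟨n, hn⟩ := IsPGroup.iff_card.1 T.2
    refine ⟨f.ker, inferInstance, ?_⟩
    refine isComplement'_of_disjoint_and_mul_eq_univ ?_ ?_
    · rw [disjoint_iff, eq_bot_iff]
      rintro x ⟨hx, hxT⟩
      obtain ⟨i, hi⟩ := T.2 ⟨x, hxT⟩
      have hi' : x ^ 2 ^ i = 1 := congrArg Subtype.val hi
      have h1 : x ^ m = 1 := htriv _ ((hfiff x).1 hx) i (by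
        rw [← pow_mul, mul_comm, pow_mul, hi', one_pow])
      exact mem_bot.2 (orderOf_eq_one_iff.1 (Nat.eq_one_of_dvd_coprimes
        (Nat.Coprime.pow_right i (Nat.coprime_two_right.2 hmodd))
        (orderOf_dvd_of_pow_eq_one h1) (orderOf_dvd_of_pow_eq_one hi')))
    · rw [← Subgroup.normal_mul, SetLike.coe_set_eq.2 (?_ : f.ker ⊔ (T : Subgroup C) = ⊤)]
      · rfl
      rw [eq_top_iff]
      intro x _
      have hcardC : 2 ^ n * m = Nat.card C := hn ▸ (T : Subgroup C).card_mul_index
      have h2n : x ^ 2 ^ n ∈ f.ker ⊔ (T : Subgroup C) := mem_sup_left (by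
        rw [hfiff, ← pow_mul, hcardC, pow_card_eq_one']; exact one_mem _)
      have hxm : x ^ m ∈ f.ker ⊔ (T : Subgroup C) := by
        have hp : IsPGroup 2 (zpowers (x ^ m)) := by
          obtain ⟨i, -, hi⟩ := (Nat.dvd_prime_pow Nat.prime_two).1
            (orderOf_dvd_of_pow_eq_one (x := x ^ m) (n := 2 ^ n) (by
              rw [← pow_mul, mul_comm, hcardC, pow_card_eq_one']))
          exact IsPGroup.of_card (n := i) (by rw [Nat.card_zpowers, hi])
        obtain ⟨c, hc⟩ := CfsgLib.Involutions.exists_conj_le_sylow hp T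
        have h1 := hc _ (mem_zpowers _)
        have h2 : ⁅c, x ^ m⁆ ∈ f.ker := (hfiff _).2 (pow_mem
          (commutator_mem_commutator (mem_top _) (mem_top _)) m)
        have h3 := mul_mem (inv_mem (mem_sup_left h2 : _ ∈ f.ker ⊔ (T : Subgroup C)))
          (mem_sup_right h1)
        rwa [commutatorElement_def, show (c * x ^ m * c⁻¹ * (x ^ m)⁻¹)⁻¹ * (c * x ^ m * c⁻¹) = x ^ m by
          group] at h3
      have hco : (2 ^ n).Coprime m := (Nat.coprime_two_left.2 hmodd).pow_left n
      have hz : x = (x ^ 2 ^ n) ^ (Nat.gcdA (2 ^ n) m) * (x ^ m) ^ (Nat.gcdB (2 ^ n) m) := by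
        have h := Nat.gcd_eq_gcd_ab (2 ^ n) m
        rw [hco.gcd_eq_one] at h
        rw [← zpow_natCast, ← zpow_natCast, ← zpow_mul, ← zpow_mul, ← zpow_add, ← h, Nat.cast_one,
          zpow_one]
      rw [hz]
      exact mul_mem (zpow_mem h2n _) (zpow_mem hxm _)
  · haveI : Group.IsSolvable (commutator C) := hFT _ hodd
    haveI : Group.IsSolvable (C ⧸ commutator C) := by
      refine Group.isSolvable_of_comm fun a b => ?_
      obtain ⟨a, rfl⟩ := QuotientGroup.mk'_surjective (commutator C) a
      obtain ⟨b, rfl⟩ := QuotientGroup.mk'_surjective (commutator C) b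
      rw [← commutatorElement_eq_one_iff_mul_comm, ← map_commutatorElement]
      exact (QuotientGroup.eq_one_iff _).2 (commutator_mem_commutator (mem_top _) (mem_top _))
    exact Group.isSolvable_of_ker_le_range (commutator C).subtype (QuotientGroup.mk' (commutator C))
      (by rw [QuotientGroup.ker_mk', range_subtype])

end CfsgLib.FTCons.FixSylow
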