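import Mathlib
import Cfsg.Agent.Lib.FTCons.FixSylow
import Cfsg.Agent.Lib.Tech46.CoprimeGen
import Cfsg.Agent.Lib.OddOrder.PuigSeries

/-!
If a central element of the derived group of a 2-group acting on a normal subgroup has no more fixed
points than the whole 2-group, then the commutator with the 2-group has odd order.
-/

set_option autoImplicit false
open scoped commutatorElement

namespace CfsgLib.FTCons.CentralCommutator

open Subgroup

universe u

variable {G : Type u} [Group G] [Finite G]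

/-- A subgroup meeting the fixed points of a central `t ∈ Q'` in the fixed points of `Q`, invariant
under `Q`, is centralized by `Q` when it is a 2-group. -/
theorem le_centralizer {Q V : Subgroup G} (hQ : IsPGroup 2 Q) (hV : IsPGroup 2 V)
    (hQV : Q ≤ normalizer (V : Set G)) {t : G} (htZ : t ∈ centralizer (Q : Set G)) (htQ : t ∈ ⁅Q, Q⁆)
    (hC : V ⊓ centralizer ({t} : Set G) ≤ centralizer (Q : Set G)) : V ≤ centralizer (Q : Set G) := by
  classical
  haveI : Fact (Nat.Prime 2) := ⟨Nat.prime_two⟩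
  set W0 := V ⊓ centralizer (Q : Set G) with hW0
  by_contra hne
  have hlt : W0 < V := lt_of_le_of_ne inf_le_left fun e => hne (e ▸ inf_le_right)
  set W1 := V ⊓ normalizer (W0 : Set G) with hW1
  have hW01 : W0 < W1 := CfsgLib.Isolated.lt_inf_normalizer hV hlt
  have hQW0 : Q ≤ normalizer (W0 : Set G) := fun q hq => by
    rw [mem_normalizer_iff]
    intro x
    constructor
    · rintro ⟨hxV, hxC⟩
      have e : q * x * q⁻¹ = x := by
        rw [mem_centralizer_iff.1 hxC q hq, mul_inv_cancel_right]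
      rw [e]; exact ⟨hxV, hxC⟩
    · rintro ⟨hxV, hxC⟩
      have hx : q⁻¹ * (q * x * q⁻¹) = (q * x * q⁻¹) * q⁻¹ := mem_centralizer_iff.1 hxC q⁻¹ (Q.inv_mem hq)
      have e : q * x * q⁻¹ = x := by
        calc q * x * q⁻¹ = (q * x * q⁻¹) * q⁻¹ * q := by group
          _ = q⁻¹ * (q * x * q⁻¹) * q := by rw [← hx]
          _ = x := by group
      rw [e] at hxV hxC
      exact ⟨hxV, hxC⟩
  have hQW1 : Q ≤ normalizer (W1 : Set G) := fun q hq => by
    rw [mem_normalizer_iff]
    intro x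
    exact and_congr ((mem_normalizer_iff.1 (hQV hq)) x)
      ⟨fun h => (normalizer (W0 : Set G)).mul_mem ((normalizer (W0 : Set G)).mul_mem (hQW0 hq) h)
          ((normalizer (W0 : Set G)).inv_mem (hQW0 hq)), fun h => by
        have := (normalizer (W0 : Set G)).mul_mem ((normalizer (W0 : Set G)).mul_mem
          ((normalizer (W0 : Set G)).inv_mem (hQW0 hq)) h) (hQW0 hq)
        simpa [mul_assoc] using this⟩
  set R := Q ⊔ W1 with hR
  have hRp : IsPGroup 2 R := hQ.to_sup_of_normal_right' (hV.to_le inf_le_left) hQW1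
  haveI hn0 : (W0.subgroupOf R).Normal :=
    (normal_subgroupOf_iff_le_normalizer (le_sup_of_le_right hW01.le)).2 (sup_le hQW0 inf_le_right)
  haveI hn1 : (W1.subgroupOf R).Normal :=
    (normal_subgroupOf_iff_le_normalizer le_sup_right).2 (sup_le hQW1 le_normalizer)
  set π := QuotientGroup.mk' (W0.subgroupOf R)
  haveI : Group.IsNilpotent (R ⧸ W0.subgroupOf R) := (hRp.to_quotient _).isNilpotent
  haveI : ((W1.subgroupOf R).map π).Normal := hn1.map π (QuotientGroup.mk'_surjective _)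
  have hW1ne : (W1.subgroupOf R).map π ≠ ⊥ := fun h => by
    rw [Subgroup.map_eq_bot_iff, QuotientGroup.ker_mk'] at h
    refine not_le_of_gt hW01 fun x hx => ?_
    exact h (show (⟨x, le_sup_right (a := Q) hx⟩ : R) ∈ W1.subgroupOf R from hx)
  obtain ⟨z, hz, hz1⟩ := (nontrivial_iff_exists_ne_one _).1
    ((nontrivial_iff_ne_bot _).2 (CfsgLib.OddOrder.PuigSeries.inf_center_ne_bot _ hW1ne))
  obtain ⟨⟨w, hwR⟩, hw, rfl⟩ := hz.2
  have hwW1 : w ∈ W1 := hw
  have hwW0 : w ∉ W0 := fun h => hz1 ((QuotientGroup.eq_one_iff _).2 h)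
  have hd : ∀ q ∈ Q, w⁻¹ * q * w * q⁻¹ ∈ W0 := by
    intro q hq
    have hc := mem_center_iff.1 hz.1 (π ⟨q, le_sup_left (b := W1) hq⟩)
    rw [← map_mul, ← map_mul] at hc
    have h2 := QuotientGroup.eq.1 hc.symm
    have h3 : (w * q)⁻¹ * (q * w) ∈ W0 := h2
    have h4 := (mem_normalizer_iff.1 (hQW0 hq) _).1 h3
    simpa [mul_assoc] using h4
  have hcent : ∀ q ∈ Q, ∀ x ∈ W0, Commute (w⁻¹ * q * w * q⁻¹) x := by
    intro q hq x hx
    have hx' : w * x * w⁻¹ ∈ W0 := (mem_normalizer_iff.1 hwW1.2 x).1 hx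
    have e1 : q * (w * x * w⁻¹) = w * x * w⁻¹ * q := mem_centralizer_iff.1 hx'.2 q hq
    have e2 : q * x = x * q := mem_centralizer_iff.1 hx.2 q hq
    show _ * _ = _ * _
    calc w⁻¹ * q * w * q⁻¹ * x = w⁻¹ * q * w * (q⁻¹ * (x * q)) * q⁻¹ := by group
      _ = w⁻¹ * (q * (w * x * w⁻¹)) * w * q⁻¹ := by rw [← e2]; group
      _ = x * (w⁻¹ * q * w * q⁻¹) := by rw [e1]; group
  let A := W0 ⊓ centralizer (W0 : Set G)
  let f : Q →* A := MonoidHom.mk' (fun q => ⟨w⁻¹ * (q : G) * w * (q : G)⁻¹, hd q q.2,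
    mem_centralizer_iff.2 fun x hx => (hcent q q.2 x hx).eq.symm⟩) fun a b => by
    refine Subtype.ext ?_
    show w⁻¹ * ((a : G) * b) * w * ((a : G) * b)⁻¹ =
      w⁻¹ * (a : G) * w * (a : G)⁻¹ * (w⁻¹ * (b : G) * w * (b : G)⁻¹)
    have h := mem_centralizer_iff.1 (hd b b.2).2 a a.2
    calc w⁻¹ * ((a : G) * b) * w * ((a : G) * b)⁻¹
        = w⁻¹ * (a : G) * w * ((w⁻¹ * (b : G) * w * (b : G)⁻¹) * (a : G)⁻¹) := by group
      _ = w⁻¹ * (a : G) * w * (a : G)⁻¹ * ((a : G) * (w⁻¹ * (b : G) * w * (b : G)⁻¹)) * (a : G)⁻¹ := by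
          group
      _ = _ := by rw [h]; group
  have hker : commutator Q ≤ f.ker := by
    rw [_root_.commutator_def, Subgroup.commutator_le]
    intro a _ b _
    rw [MonoidHom.mem_ker, map_commutatorElement, commutatorElement_eq_one_iff_commute]
    exact Subtype.ext (mem_centralizer_iff.1 (f b).2.2 _ (f a).2.1)
  have ht : ∃ ht' : t ∈ Q, (⟨t, ht'⟩ : Q) ∈ commutator Q := by
    have e : (commutator Q).map Q.subtype = ⁅Q, Q⁆ := map_subtype_commutator Q
    rw [← e] at htQ
    obtain ⟨⟨s, hs⟩, hsc, rfl⟩ := htQ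
    exact ⟨hs, hsc⟩
  obtain ⟨ht', htc⟩ := ht
  have hft := congrArg Subtype.val (hker htc)
  have hwt : w ∈ centralizer ({t} : Set G) := by
    rw [mem_centralizer_singleton_iff]
    have h : w⁻¹ * t * w * t⁻¹ = 1 := hft
    calc w * t = w * (w⁻¹ * t * w * t⁻¹) * t := by rw [h, mul_one]
      _ = t * w := by group
  exact hwW0 ⟨hwW1.1, hC ⟨hwW1.1, hwt⟩⟩

/-- Conjugation by elements of `G` on the quotient of `N` by its odd core. -/
noncomputable def quotConj (N : Subgroup G) [N.Normal] :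
    G →* MulAut (N ⧸ Cfsg.pPrimeCore 2 N) :=
  MonoidHom.mk' (fun g => QuotientGroup.congr _ _ (MulAut.conjNormal g)
      (CfsgLib.PCore.map_pPrimeCore_equiv _)) fun a b => by
    refine MulEquiv.ext fun x => ?_
    induction x using QuotientGroup.induction_on with
    | _ x =>
      simp only [map_mul]
      rfl

theorem commutator_structure {N Q : Subgroup G} [N.Normal] (hQ : IsPGroup 2 Q) {t : G}
    (htZ : t ∈ Q ⊓ centralizer (Q : Set G)) (htQ : t ∈ ⁅Q, Q⁆)
    (hC : N ⊓ centralizer (Q : Set G) = N ⊓ centralizer ({t} : Set G)) :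
    Odd (Nat.card ↥⁅N, Q⁆) := by
  classical
  haveI : Fact (Nat.Prime 2) := ⟨Nat.prime_two⟩
  -- an invariant Sylow 2-subgroup of `N`
  obtain ⟨P, hP⟩ : ∃ P : Sylow 2 N, Q ≤ normalizer ((P : Subgroup N).map N.subtype : Set G) := by
    letI : MulDistribMulAction Q N :=
      MulDistribMulAction.compHom N ((MulAut.conjNormal (H := N)).comp Q.subtype)
    have hcard : ¬ 2 ∣ Nat.card (Sylow 2 N) := not_dvd_card_sylow 2 N
    obtain ⟨P, hP⟩ := hQ.nonempty_fixed_point_of_prime_not_dvd_card (Sylow 2 N) hcard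
    refine ⟨P, fun q hq => ?_⟩
    have key : ∀ b : Q, ∀ y ∈ (P : Subgroup N).map N.subtype,
        (b : G) * y * (b : G)⁻¹ ∈ (P : Subgroup N).map N.subtype := by
      rintro b _ ⟨z, hz, rfl⟩
      refine ⟨b • z, ?_, MulAut.conjNormal_apply _ _⟩
      conv => rw [← hP b]
      exact Subgroup.smul_mem_pointwise_smul z b (P : Subgroup N) hz
    rw [mem_normalizer_iff]
    refine fun y => ⟨key ⟨q, hq⟩ y, fun hy => ?_⟩
    have := key ⟨q, hq⟩⁻¹ _ hy
    simpa [mul_assoc] using this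
  have hPc := le_centralizer hQ (P.2.map N.subtype) hP htZ.2 htQ fun x hx =>
    (hC.ge ⟨map_subtype_le _ hx.1, hx.2⟩).2
  set O := Cfsg.pPrimeCore 2 N with hO
  set φ := (quotConj N).comp Q.subtype with hφ
  let P' : Sylow 2 (N ⧸ O) := P.mapSurjective (QuotientGroup.mk'_surjective O)
  have hfix : ∀ ψ ∈ φ.range, ∀ s ∈ (P' : Subgroup (N ⧸ O)), ψ s = s := by
    rintro _ ⟨q, rfl⟩ _ ⟨s, hs, rfl⟩
    show (QuotientGroup.mk' O) (MulAut.conjNormal (q : G) s) = _
    refine congrArg _ (Subtype.ext ?_)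
    have h : (q : G) * (s : G) = (s : G) * q := mem_centralizer_iff.1 (hPc ⟨s, hs, rfl⟩) q q.2
    rw [MulAut.conjNormal_apply, h, mul_inv_cancel_right]
  have hO' : ∀ M : Subgroup (N ⧸ O), M.Normal → Odd (Nat.card M) → M = ⊥ := by
    intro M hM hodd
    have := CfsgLib.PCore.le_pPrimeCore hM (Nat.coprime_two_right.2 hodd)
    rwa [CfsgLib.PCore.pPrimeCore_quotient_pPrimeCore, le_bot_iff] at this
  have hodd := CfsgLib.FTCons.FixSylow.odd_card_commutator hO' P' φ.range hfix
  have hbot : commutator φ.range = ⊥ := by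
    obtain ⟨n, hn⟩ := IsPGroup.iff_card.1
      ((hQ.of_surjective φ.rangeRestrict φ.rangeRestrict_surjective).to_subgroup
        (commutator φ.range))
    rcases n with _ | n
    · exact Subgroup.card_eq_one.1 (by rw [hn, pow_zero])
    · rw [hn] at hodd
      exact absurd ((Nat.odd_pow_iff (Nat.succ_ne_zero n)).1 hodd) (by decide)
  obtain ⟨ht', htc⟩ : ∃ ht' : t ∈ Q, (⟨t, ht'⟩ : Q) ∈ commutator Q := by
    rw [← map_subtype_commutator Q] at htQ
    obtain ⟨⟨s, hs⟩, hsc, rfl⟩ := htQ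
    exact ⟨hs, hsc⟩
  have hker : zpowers t ≤ (quotConj N).ker := by
    rw [zpowers_le]
    show quotConj N t = 1
    have h : φ.rangeRestrict ⟨t, ht'⟩ ∈ commutator φ.range := by
      have hle : (commutator Q).map φ.rangeRestrict ≤ commutator φ.range := by
        rw [_root_.commutator_def, _root_.commutator_def, Subgroup.map_commutator]
        exact commutator_mono le_top le_top
      exact hle ⟨_, htc, rfl⟩
    rw [hbot, mem_bot] at h
    exact congrArg Subtype.val h
  set O' := O.map N.subtype with hO'def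
  haveI : O'.Normal := by
    refine ⟨fun x hx g => ?_⟩
    obtain ⟨o, ho, rfl⟩ := hx
    refine ⟨MulAut.conjNormal g o, ?_, MulAut.conjNormal_apply _ _⟩
    rw [hO, ← CfsgLib.PCore.map_pPrimeCore_equiv (p := 2) (MulAut.conjNormal g : MulAut N)]
    exact ⟨o, ho, rfl⟩
  have hOcard : Odd (Nat.card O') := by
    rw [card_map_of_injective N.subtype_injective]
    exact Nat.coprime_two_right.1 CfsgLib.PCore.pPrimeCore_coprime
  have hle : ⁅N, Q⁆ ≤ O' := by
    rw [Subgroup.commutator_le]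
    intro n hn q hq
    have hx : ∀ a ∈ zpowers t, n⁻¹ * (a * n * a⁻¹) ∈ O' := by
      intro a ha
      have h := congrArg (fun e : MulAut (N ⧸ O) => e (QuotientGroup.mk ⟨n, hn⟩)) (hker ha)
      have h2 := QuotientGroup.eq.1 (h : ((MulAut.conjNormal a ⟨n, hn⟩ : N) : N ⧸ O) =
        ((⟨n, hn⟩ : N) : N ⧸ O)).symm
      exact ⟨_, h2, by simp⟩
    obtain ⟨o, ho, hoc⟩ := CfsgLib.Tech46.exists_fixed_in_coset
      (hQ.to_le (zpowers_le.2 ht')) (fun h => Nat.not_even_iff_odd.2 hOcard (even_iff_two_dvd.2 h))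
      le_normalizer_of_normal hx
    have hc1 : n * o ∈ centralizer ({t} : Set G) := by
      rw [mem_centralizer_singleton_iff]
      exact (mem_centralizer_iff.1 hoc t (mem_zpowers t)).symm
    have hc : n * o ∈ centralizer (Q : Set G) :=
      (hC.ge ⟨mul_mem hn (map_subtype_le _ ho), hc1⟩).2
    have e : q * (n * o) = n * o * q := mem_centralizer_iff.1 hc q hq
    have e2 : ⁅n, q⁆ = n * (q * o * q⁻¹ * o⁻¹) * n⁻¹ := by
      have e' : q * n * q⁻¹ = n * o * (q * o⁻¹ * q⁻¹) := by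
        calc q * n * q⁻¹ = q * (n * o) * o⁻¹ * q⁻¹ := by group
          _ = _ := by rw [e]; group
      rw [commutatorElement_def]
      calc n * q * n⁻¹ * q⁻¹ = n * (q * n * q⁻¹)⁻¹ := by group
        _ = _ := by rw [e']; group
    rw [e2]
    exact (inferInstance : O'.Normal).conj_mem _
      (mul_mem ((inferInstance : O'.Normal).conj_mem o ho q) (inv_mem ho)) n
  exact hOcard.of_dvd_nat (card_dvd_of_le hle)

end CfsgLib.FTCons.CentralCommutator
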