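import Mathlib
import Cfsg.Agent.Lib.FTCons.Basic
import Cfsg.Agent.Lib.PCore.Basic
import Cfsg.Agent.Lib.Techniques.JeClassTwo

/-!
A group in which, in every subgroup, any two class sizes above `1` share a divisor is solvable,
modulo the odd order theorem: no element inverts a nontrivial element of odd order.
-/

set_option autoImplicit false

namespace CfsgLib.FTCons.ClassGraph

open Subgroup

universe u

variable {G : Type u} [Group G] [Finite G]

/-- The hypothesis: in every subgroup the class sizes above `1` are pairwise not coprime. -/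
def Complete (G : Type u) [Group G] : Prop :=
  ∀ (H : Subgroup G) (x y : H), 1 < (centralizer ({x} : Set H)).index →
    1 < (centralizer ({y} : Set H)).index →
      ¬ ((centralizer ({x} : Set H)).index).Coprime (centralizer ({y} : Set H)).index

theorem index_centralizer_eq {H : Type*} [Group H] (x : H) :
    (centralizer ({x} : Set H)).index = (conjugatesOf x).ncard := by
  rw [centralizer_eq_comap_stabilizer]
  refine Eq.trans (index_comap_of_surjective (f := (ConjAct.toConjAct (G := H)).toMonoidHom) _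
    (MulEquiv.surjective ConjAct.toConjAct)) ?_
  rw [MulAction.index_stabilizer, ConjAct.orbit_eq_carrier_conjClasses]
  rfl

/-- No element inverts a nontrivial element of odd order. -/
theorem not_inverts (h : Complete G) {t y : G} (hy : Odd (orderOf y)) (hy1 : y ≠ 1)
    (hty : t * y * t⁻¹ = y⁻¹) : False := by
  set H := closure ({t, y} : Set G) with hH
  have htH : t ∈ H := subset_closure (by simp)
  have hyH : y ∈ H := subset_closure (by simp)
  set T : H := ⟨t, htH⟩
  set Y : H := ⟨y, hyH⟩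
  have hne : y ≠ y⁻¹ := fun e => by
    have h2 : y ^ 2 = 1 := by rw [pow_two]; nth_rewrite 2 [e]; rw [mul_inv_cancel]
    have h3 := orderOf_dvd_of_pow_eq_one h2
    rcases (Nat.dvd_prime Nat.prime_two).1 h3 with h4 | h4
    · exact hy1 (orderOf_eq_one_iff.1 h4)
    · rw [h4] at hy; exact absurd hy (by decide)
  -- conjugates of `y`
  have hyconj : ∀ g ∈ H, ∀ z ∈ ({y, y⁻¹} : Set G), g * z * g⁻¹ ∈ ({y, y⁻¹} : Set G) := by
    intro g hg
    rw [hH] at hg
    induction hg using closure_induction with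
    | mem g hg =>
      rcases hg with rfl | rfl
      · rintro z (rfl | rfl)
        · exact Or.inr hty
        · left
          rw [← inv_inj, mul_inv_rev, mul_inv_rev, inv_inv, inv_inv, ← mul_assoc, hty]
      · rintro z (rfl | rfl)
        · left; group
        · right; simp
    | one => intro z hz; simpa using hz
    | mul a b _ _ ha hb =>
      intro z hz
      have := ha _ (hb z hz)
      simpa [mul_assoc] using this
    | inv a _ ha =>
      intro z hz
      -- conjugation by `a` permutes the finite set, so its inverse does too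
      have hb : Set.BijOn (fun w => a * w * a⁻¹) ({y, y⁻¹} : Set G) ({y, y⁻¹} : Set G) :=
        ((Set.toFinite _).injOn_iff_bijOn_of_mapsTo (fun w hw => ha w hw)).1
          (fun w _ w' _ e => mul_left_cancel (mul_right_cancel e))
      obtain ⟨w, hw, hwz⟩ := hb.surjOn hz
      have e : a⁻¹ * z * a⁻¹⁻¹ = w := by rw [← hwz]; group
      rwa [e]
  have hY2 : (centralizer ({Y} : Set H)).index = 2 := by
    rw [index_centralizer_eq, ← Set.ncard_image_of_injective _ Subtype.coe_injective]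
    have e : ((↑) : H → G) '' conjugatesOf Y = {y, y⁻¹} := by
      ext z
      constructor
      · rintro ⟨w, hw, rfl⟩
        obtain ⟨g, hg⟩ := isConj_iff.1 (show IsConj _ w from hw)
        rw [← hg]
        exact hyconj g g.2 y (Or.inl rfl)
      · rintro (rfl | rfl)
        · exact ⟨Y, mem_conjugatesOf_self, rfl⟩
        · exact ⟨T * Y * T⁻¹, (isConj_iff.2 ⟨T, rfl⟩ : IsConj Y _), hty⟩
    rw [e, Set.ncard_pair hne]
  -- conjugates of `t`
  set S : Set G := Set.range fun i : Fin (orderOf y) => y ^ (i : ℕ) * t with hS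
  have hSmem : ∀ i : ℤ, y ^ i * t ∈ S := by
    intro i
    refine ⟨⟨(i % orderOf y).toNat, ?_⟩, ?_⟩
    · have := Int.emod_lt_of_pos i (Int.ofNat_lt.2 (orderOf_pos y))
      have := Int.emod_nonneg i (Int.ofNat_ne_zero.2 (orderOf_pos y).ne')
      omega
    · show y ^ ((i % orderOf y).toNat) * t = _
      rw [← zpow_natCast, Int.toNat_of_nonneg (Int.emod_nonneg i
        (Int.ofNat_ne_zero.2 (orderOf_pos y).ne')), zpow_mod_orderOf]
  have hT : t * y * t⁻¹ = y⁻¹ := hty
  have htzpow : ∀ i : ℤ, t * y ^ i = y ^ (-i) * t := by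
    intro i
    have e : t * y ^ i * t⁻¹ = y ^ (-i) := by rw [← conj_zpow, hT, inv_zpow, zpow_neg]
    rw [← e, inv_mul_cancel_right]
  have hTconj : ∀ g ∈ H, ∀ z ∈ S, g * z * g⁻¹ ∈ S := by
    intro g hg
    rw [hH] at hg
    induction hg using closure_induction with
    | mem g hg =>
      rintro _ ⟨i, rfl⟩
      rcases hg with rfl | rfl
      · have e : g * (y ^ (i : ℕ) * g) * g⁻¹ = y ^ (-((i : ℕ) : ℤ)) * g := by
          rw [← htzpow, zpow_natCast]; group
        show g * (y ^ (i : ℕ) * g) * g⁻¹ ∈ S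
        rw [e]; exact hSmem _
      · have e : g * (g ^ (i : ℕ) * t) * g⁻¹ = g ^ (((i : ℕ) : ℤ) + 2) * t := by
          rw [show g * (g ^ (i : ℕ) * t) * g⁻¹ = g * g ^ (i : ℕ) * (t * g ^ (-1 : ℤ)) by
            rw [zpow_neg_one]; group, htzpow]
          group
        show g * (g ^ (i : ℕ) * t) * g⁻¹ ∈ S
        rw [e]; exact hSmem _
    | one => intro z hz; simpa using hz
    | mul a b _ _ ha hb =>
      intro z hz
      have := ha _ (hb z hz)
      simpa [mul_assoc] using this
    | inv a _ ha =>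
      intro z hz
      have hb : Set.BijOn (fun w => a * w * a⁻¹) S S :=
        ((Set.finite_range _).injOn_iff_bijOn_of_mapsTo (fun w hw => ha w hw)).1
          (fun w _ w' _ e => mul_left_cancel (mul_right_cancel e))
      obtain ⟨w, hw, hwz⟩ := hb.surjOn hz
      have e : a⁻¹ * z * a⁻¹⁻¹ = w := by rw [← hwz]; group
      rwa [e]
  have hScard : S.ncard = orderOf y := by
    rw [hS, Set.ncard_range_of_injective, Nat.card_fin]
    intro i j e
    exact Fin.ext (pow_injOn_Iio_orderOf i.2 j.2 (mul_right_cancel e))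
  have hTn : (centralizer ({T} : Set H)).index = orderOf y := by
    rw [index_centralizer_eq, ← Set.ncard_image_of_injective _ Subtype.coe_injective, ← hScard]
    congr 1
    ext z
    constructor
    · rintro ⟨w, hw, rfl⟩
      obtain ⟨g, hg⟩ := isConj_iff.1 (show IsConj _ w from hw)
      rw [← hg]
      exact hTconj g g.2 t (by simpa using hSmem 0)
    · rintro ⟨i, rfl⟩
      obtain ⟨m, hm⟩ := hy
      refine ⟨Y ^ ((i : ℕ) * (m + 1)) * T * (Y ^ ((i : ℕ) * (m + 1)))⁻¹,
        (isConj_iff.2 ⟨_, rfl⟩ : IsConj T _), ?_⟩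
      show y ^ ((i : ℕ) * (m + 1)) * t * (y ^ ((i : ℕ) * (m + 1)))⁻¹ = y ^ (i : ℕ) * t
      rw [mul_assoc, ← zpow_natCast, ← zpow_neg, htzpow, neg_neg, ← mul_assoc, zpow_natCast,
        ← pow_add]
      congr 1
      have e2 : (i : ℕ) * (m + 1) + (i : ℕ) * (m + 1) = orderOf y * (i : ℕ) + (i : ℕ) := by
        have e3 : (i : ℕ) * orderOf y = (i : ℕ) * (2 * m + 1) := congrArg (fun n => (i : ℕ) * n) hm
        linarith
      rw [e2, pow_add, pow_mul, pow_orderOf_eq_one, one_pow, one_mul]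
  have hn1 : 1 < orderOf y := by
    have := orderOf_pos y
    have : orderOf y ≠ 1 := fun e => hy1 (orderOf_eq_one_iff.1 e)
    omega
  refine h H Y T (by omega) (by omega) ?_
  rw [hY2, hTn]
  exact Nat.coprime_two_left.2 hy

/-- The quotient by `O₂(G)` has odd order. -/
theorem odd_card_quotient (h : Complete G) : Odd (Nat.card (G ⧸ Cfsg.pCore 2 G)) := by
  haveI : Fact (Nat.Prime 2) := ⟨Nat.prime_two⟩
  set Q := Cfsg.pCore 2 G with hQ
  rw [← Nat.not_even_iff_odd]
  intro hev
  obtain ⟨a, ha⟩ := exists_prime_orderOf_dvd_card' 2 hev.two_dvd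
  have ha2 : a * a = 1 := by
    have h2 := pow_orderOf_eq_one a
    rwa [ha, pow_two] at h2
  have haQ : a ∉ Cfsg.pCore 2 (G ⧸ Q) := by
    rw [CfsgLib.PCore.pCore_quotient_pCore, mem_bot]
    intro e; rw [e, orderOf_one] at ha; norm_num at ha
  obtain ⟨g, k, hodd, hne, hinv⟩ := CfsgLib.Techniques.JeTwo.exists_inverted ha2 haQ
  set w := (a * (g * a * g⁻¹)) ^ 2 ^ k
  -- a power of prime order
  set r := (orderOf w).minFac with hr
  have hw1 : orderOf w ≠ 1 := fun e => hne (orderOf_eq_one_iff.1 e)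
  have hrp : r.Prime := Nat.minFac_prime hw1
  haveI : Fact r.Prime := ⟨hrp⟩
  have hr2 : r ≠ 2 := fun e => by
    have := Nat.minFac_dvd (orderOf w)
    rw [← hr, e] at this
    exact (Nat.not_even_iff_odd.2 hodd) (even_iff_two_dvd.2 this)
  set v := w ^ (orderOf w / r) with hv
  have hvord : orderOf v = r := by
    rw [hv, orderOf_pow_orderOf_div (orderOf_pos w).ne' (Nat.minFac_dvd _)]
  have hvinv : a * v * a⁻¹ = v⁻¹ := by rw [hv, ← conj_pow, hinv, inv_pow]
  -- lift it
  obtain ⟨y₀, hy₀⟩ := QuotientGroup.mk'_surjective Q v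
  obtain ⟨n, hn⟩ := IsPGroup.iff_card.1 (CfsgLib.PCore.pCore_isPGroup (p := 2) (G := G))
  have hy₀r : (y₀ ^ r) ^ 2 ^ n = 1 := by
    have hmem : y₀ ^ r ∈ Q := by
      rw [← QuotientGroup.eq_one_iff, QuotientGroup.mk_pow]
      show (QuotientGroup.mk' Q y₀) ^ r = 1
      rw [hy₀, ← hvord, pow_orderOf_eq_one]
    rw [← hn]
    exact congrArg Subtype.val (pow_card_eq_one' (x := (⟨_, hmem⟩ : Q)))
  set y := y₀ ^ 2 ^ n with hy
  have hmky : QuotientGroup.mk' Q y = v ^ 2 ^ n := by rw [hy, map_pow, hy₀]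
  have hcop : (2 ^ n).Coprime r := (((Nat.coprime_primes Nat.prime_two hrp).2 (Ne.symm hr2))).pow_left n
  have hvn : orderOf (v ^ 2 ^ n) = r := by
    rw [Nat.Coprime.orderOf_pow (by rw [hvord]; exact hcop.symm), hvord]
  have hyr : orderOf y = r := by
    refine orderOf_eq_prime (by rw [hy, ← pow_mul, mul_comm, pow_mul, hy₀r]) fun e => ?_
    rw [e, map_one] at hmky
    rw [← hmky, orderOf_one] at hvn
    exact hrp.ne_one hvn.symm
  obtain ⟨t₀, ht₀⟩ := QuotientGroup.mk'_surjective Q a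
  -- Sylow subgroups of `Q⟨y⟩`
  set L := Q ⊔ zpowers y with hL
  have hQL : Q ≤ L := le_sup_left
  have hzy : zpowers y ≤ L := le_sup_right
  have hcardL : Nat.card L ∣ 2 ^ n * r := by
    rw [hL, ← hn, ← hyr, ← Nat.card_zpowers]
    exact CfsgLib.PCore.card_sup_dvd_mul Q (zpowers y)
  have hmem : t₀ * y * t₀⁻¹ ∈ L := by
    have e : QuotientGroup.mk' Q (t₀ * y * t₀⁻¹) = QuotientGroup.mk' Q y⁻¹ := by
      rw [map_mul, map_mul, map_inv, map_inv, ht₀, hmky, ← conj_pow, hvinv, inv_pow]
    have h1 : y * (t₀ * y * t₀⁻¹) ∈ Q := by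
      rw [← QuotientGroup.eq_one_iff]
      show QuotientGroup.mk' Q _ = 1
      rw [map_mul, e, map_inv, mul_inv_cancel]
    have := mul_mem (inv_mem (hzy (mem_zpowers y))) (hQL h1)
    simpa using this
  have hindex : ∀ A : Subgroup L, Nat.card A = r → ¬ r ∣ A.index := by
    intro A hA hdvd
    have h1 := A.card_mul_index
    rw [hA] at h1
    have h2 : r * r ∣ 2 ^ n * r := (h1 ▸ mul_dvd_mul_left r hdvd).trans hcardL
    have h3 : r ∣ 2 ^ n := Nat.dvd_of_mul_dvd_mul_right hrp.pos h2
    exact hr2 ((Nat.prime_dvd_prime_iff_eq hrp Nat.prime_two).1 (hrp.dvd_of_dvd_pow h3))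
  set y' : L := ⟨y, hzy (mem_zpowers y)⟩
  set z' : L := ⟨t₀ * y * t₀⁻¹, hmem⟩
  have hy'c : Nat.card (zpowers y') = r := by
    rw [Nat.card_zpowers, ← orderOf_coe]; exact hyr
  have hz'c : Nat.card (zpowers z') = r := by
    rw [Nat.card_zpowers, ← orderOf_coe]
    show orderOf (t₀ * y * t₀⁻¹) = r
    rw [← hyr]
    exact (MulEquiv.orderOf_eq (MulAut.conj t₀) y)
  let P₁ : Sylow r L :=
    (IsPGroup.of_card (n := 1) (by rw [hz'c, pow_one])).toSylow (hindex _ hz'c)
  let P₂ : Sylow r L :=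
    (IsPGroup.of_card (n := 1) (by rw [hy'c, pow_one])).toSylow (hindex _ hy'c)
  obtain ⟨l, hl⟩ := MulAction.exists_smul_eq L P₁ P₂
  set t := (l : G) * t₀ with ht
  have hty : t * y * t⁻¹ ∈ zpowers y := by
    have h1 : l * z' * l⁻¹ ∈ (P₂ : Subgroup L) := by
      rw [← hl, Sylow.coe_subgroup_smul]
      exact ⟨z', mem_zpowers z', rfl⟩
    obtain ⟨i, hi⟩ := h1
    refine ⟨i, ?_⟩
    have := congrArg Subtype.val hi
    simp only [SubgroupClass.coe_zpow, coe_mul, coe_inv] at this
    show y ^ i = _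
    rw [show y ^ i = _ from this, ht]
    show (l : G) * (t₀ * y * t₀⁻¹) * (l : G)⁻¹ = _
    group
  have hmkl : Commute (QuotientGroup.mk' Q (l : G)) (QuotientGroup.mk' Q y) := by
    have h1 : L ≤ (centralizer ({QuotientGroup.mk' Q y} : Set (G ⧸ Q))).comap (QuotientGroup.mk' Q) := by
      refine sup_le (fun q hq => ?_) ?_
      · rw [mem_comap, show QuotientGroup.mk' Q q = 1 from (QuotientGroup.eq_one_iff _).2 hq]
        exact one_mem _
      · rw [zpowers_le, mem_comap, mem_centralizer_singleton_iff]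
    exact mem_centralizer_singleton_iff.1 (h1 l.2)
  have hmk : QuotientGroup.mk' Q (t * y * t⁻¹) = QuotientGroup.mk' Q y⁻¹ := by
    have e : QuotientGroup.mk' Q (t₀ * y * t₀⁻¹) = (QuotientGroup.mk' Q y)⁻¹ := by
      rw [map_mul, map_mul, map_inv, ht₀, hmky, ← conj_pow, hvinv, inv_pow]
    rw [map_mul, map_mul, map_inv] at e
    rw [ht, map_mul, map_mul, map_mul, map_inv, map_inv, map_mul, mul_inv_rev]
    calc QuotientGroup.mk' Q (l : G) * QuotientGroup.mk' Q t₀ * QuotientGroup.mk' Q y *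
          ((QuotientGroup.mk' Q t₀)⁻¹ * (QuotientGroup.mk' Q (l : G))⁻¹)
        = QuotientGroup.mk' Q (l : G) * (QuotientGroup.mk' Q t₀ * QuotientGroup.mk' Q y *
          (QuotientGroup.mk' Q t₀)⁻¹) * (QuotientGroup.mk' Q (l : G))⁻¹ := by group
      _ = (QuotientGroup.mk' Q y)⁻¹ := by rw [e, hmkl.inv_right.eq, mul_inv_cancel_right]
  -- `mk'` is injective on `⟨y⟩`
  refine not_inverts h (t := t) (y := y) ?_ ?_ ?_
  · rw [hyr]; exact (hrp.eq_two_or_odd'.resolve_left hr2)
  · intro e; rw [e, orderOf_one] at hyr; exact hrp.ne_one hyr.symm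
  · obtain ⟨i, hi⟩ := hty
    replace hi : y ^ i = t * y * t⁻¹ := hi
    rw [← hi] at hmk ⊢
    rw [map_zpow, map_inv, ← zpow_neg_one, zpow_eq_zpow_iff_modEq] at hmk
    rw [← zpow_neg_one, zpow_eq_zpow_iff_modEq]
    rwa [hmky, hvn, ← hyr] at hmk

/-- The solvability criterion, modulo the odd order theorem. -/
theorem isSolvable (hFT : OddSolvable.{u}) (h : Complete G) : Group.IsSolvable G := by
  haveI : Fact (Nat.Prime 2) := ⟨Nat.prime_two⟩
  haveI : Group.IsSolvable (G ⧸ Cfsg.pCore 2 G) := hFT _ (odd_card_quotient h)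
  haveI : Group.IsNilpotent (Cfsg.pCore 2 G) :=
    (CfsgLib.PCore.pCore_isPGroup (p := 2) (G := G)).isNilpotent
  exact Group.isSolvable_of_ker_le_range (Cfsg.pCore 2 G).subtype
    (QuotientGroup.mk' (Cfsg.pCore 2 G)) (by rw [QuotientGroup.ker_mk', range_subtype])

end CfsgLib.FTCons.ClassGraph
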