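import Cfsg.Agent.Lib.FTCons.Basic
import Cfsg.Agent.Lib.ClassSize.SquarefreeNPC

/-!
If `p` is the smallest prime and `p ^ 2` divides no class size there is a normal `p`-complement;
hence groups without class sizes divisible by four are solvable, given that groups of odd order are.
-/

set_option autoImplicit false
set_option linter.style.haveILetI false

namespace CfsgLib.FTCons

open Subgroup CfsgLib.SquarefreeClass
open scoped commutatorElement

universe u

variable {G : Type u} [Group G] [Finite G] {p : ℕ} [hp : Fact p.Prime]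

/-- Class sizes not divisible by `p ^ 2` for the smallest prime `p` give a normal `p`-complement. -/
theorem npc_of_not_sq_dvd (hmin : ∀ r : ℕ, r.Prime → r ∣ Nat.card G → p ≤ r)
    (h : ∀ x : G, ¬ p ^ 2 ∣ (centralizer ({x} : Set G)).index) :
    Cfsg.HasNormalPComplement p G := by
  obtain ⟨P⟩ := (inferInstance : Nonempty (Sylow p G))
  have hcen := pow_commutator_central P h
  set Z := closure ({z : G | ∃ a ∈ (P : Subgroup G), ∃ b ∈ (P : Subgroup G),
    z = a ^ p ∨ z = ⁅a, b⁆}) with hZ
  have hZc : Z ≤ center G := by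
    rw [hZ, closure_le]
    rintro z ⟨a, ha, b, hb, rfl | rfl⟩
    exacts [(hcen a ha b hb).1, (hcen a ha b hb).2]
  have hZP : Z ≤ (P : Subgroup G) := by
    rw [hZ, closure_le]
    rintro z ⟨a, ha, b, hb, rfl | rfl⟩
    · exact pow_mem ha p
    · rw [commutatorElement_def]
      exact mul_mem (mul_mem (mul_mem ha hb) (inv_mem ha)) (inv_mem hb)
  haveI : Z.Normal := ⟨fun x hx g => by
    rw [mem_center_iff.1 (hZc hx) g, mul_inv_cancel_right]; exact hx⟩
  refine npc_of_central_quotient Z hZc (P.isPGroup'.to_le hZP)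
    (npc_of_elemHyp _ rfl ⟨fun r hr hd => hmin r hr (hd.trans (card_quotient_dvd_card Z)), ?_, ?_⟩)
  · intro R a ha b hb
    obtain ⟨g, hg⟩ := MulAction.exists_smul_eq (G ⧸ Z)
      (P.mapSurjective (QuotientGroup.mk'_surjective Z)) R
    rw [← hg] at ha hb
    obtain ⟨_, ⟨a₀, ha₀, rfl⟩, rfl⟩ := ha
    obtain ⟨_, ⟨b₀, hb₀, rfl⟩, rfl⟩ := hb
    have h1 : QuotientGroup.mk' Z (a₀ ^ p) = 1 :=
      (QuotientGroup.eq_one_iff _).2 (subset_closure ⟨a₀, ha₀, b₀, hb₀, Or.inl rfl⟩)
    have h2 : QuotientGroup.mk' Z ⁅a₀, b₀⁆ = 1 :=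
      (QuotientGroup.eq_one_iff _).2 (subset_closure ⟨a₀, ha₀, b₀, hb₀, Or.inr rfl⟩)
    rw [map_commutatorElement, commutatorElement_eq_one_iff_mul_comm] at h2
    constructor
    · change MulAut.conj g (QuotientGroup.mk' Z a₀) ^ p = 1
      rw [← map_pow, ← map_pow, h1, map_one]
    · change MulAut.conj g (QuotientGroup.mk' Z a₀) * MulAut.conj g (QuotientGroup.mk' Z b₀) =
        MulAut.conj g (QuotientGroup.mk' Z b₀) * MulAut.conj g (QuotientGroup.mk' Z a₀)
      rw [← map_mul, h2, map_mul]
  · intro x _ hd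
    induction x using QuotientGroup.induction_on with | _ x => ?_
    refine h x (hd.trans ((index_dvd_of_le ?_).trans
      (index_map_dvd (H := centralizer ({x} : Set G)) (QuotientGroup.mk'_surjective Z))))
    rintro _ ⟨c, hc, rfl⟩
    rw [mem_centralizer_singleton_iff, ← QuotientGroup.mk'_apply, ← map_mul, ← map_mul,
      mem_centralizer_singleton_iff.1 hc]

/-- Statement S4167 modulo solvability of groups of odd order. -/
theorem isSolvable_of_not_four_dvd (hFT : OddSolvable.{u})
    (h : ∀ x : G, ¬ 4 ∣ (centralizer ({x} : Set G)).index) : Group.IsSolvable G := by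
  haveI : Fact (Nat.Prime 2) := ⟨Nat.prime_two⟩
  obtain ⟨P, K, hK, hKc⟩ :=
    npc_of_not_sq_dvd (p := 2) (fun r hr _ => hr.two_le) (by simpa using h)
  haveI := hK
  have hKodd : Odd (Nat.card ↥K) := by
    rw [← hKc.index_eq_card, ← Nat.not_even_iff_odd, even_iff_two_dvd]
    exact P.not_dvd_index
  have hK' := hFT K hKodd
  have hQ : Group.IsSolvable (G ⧸ K) := by
    obtain ⟨n, hn⟩ := IsPGroup.iff_card.1 P.isPGroup'
    haveI : Group.IsNilpotent (G ⧸ K) := (IsPGroup.of_card (p := 2) (n := n) (by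
      rw [← index_eq_card, hKc.symm.index_eq_card, hn])).isNilpotent
    infer_instance
  exact solvable_of_ker_le_range K.subtype (QuotientGroup.mk' K)
    (by rw [QuotientGroup.ker_mk', range_subtype])

end CfsgLib.FTCons
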