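import Mathlib
import Cfsg.Agent.Lib.Transfer.NormalComplement

/-!
# Sylow 2-subgroups of class at most two under an action of a group of odd order

`frobeniusCond_of_class_two`: let a group `A` of odd order act on `G` fixing a Sylow 2-subgroup
`P` of class at most two. If, for every `A`-invariant nontrivial normal subgroup `X` of `P`, the
odd order elements of `N(X)` centralise `P`, then Frobenius' condition holds at the prime 2.

Proof: a maximal bad subgroup `Q` has index two in its Sylow subgroup and there is an odd element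
`y` normalising `Q` with `T = [Z(Q), y]` elementary. The relation "`T` does not lie in `Q'`" on
the `A`-orbit of these data is a complete bipartite graph on each component, which is absurd for
a group of odd order, unless the intersection of the orbit contains `T`, which is absurd as well.
-/

set_option autoImplicit false

namespace CfsgLib.FTCons.ClassTwoBad

open scoped commutatorElement

variable {G : Type*} [Group G]

/-- Conjugates, commutators of `P` are central in `P`. -/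
def ClassTwo (P : Subgroup G) : Prop :=
  ∀ a ∈ P, ∀ b ∈ P, ∀ c ∈ P, ⁅a, b⁆ * c = c * ⁅a, b⁆

theorem comm_mul_right {P : Subgroup G} (h2 : ClassTwo P) {a b c : G}
    (ha : a ∈ P) (hb : b ∈ P) (hc : c ∈ P) : ⁅a, b * c⁆ = ⁅a, b⁆ * ⁅a, c⁆ := by
  have h := h2 a ha c hc b hb
  calc ⁅a, b * c⁆ = ⁅a, b⁆ * (b * ⁅a, c⁆ * b⁻¹) := by simp only [commutatorElement_def]; group
    _ = ⁅a, b⁆ * ⁅a, c⁆ := by rw [← h]; group

theorem comm_mul_left {P : Subgroup G} (h2 : ClassTwo P) {a b c : G}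
    (ha : a ∈ P) (hb : b ∈ P) (hc : c ∈ P) : ⁅a * b, c⁆ = ⁅a, c⁆ * ⁅b, c⁆ := by
  have h := h2 b hb c hc a ha
  have h' := h2 b hb c hc _ (Subgroup.mul_mem _ (Subgroup.mul_mem _ ha hc)
    (Subgroup.mul_mem _ (Subgroup.inv_mem _ ha) (Subgroup.inv_mem _ hc)))
  calc ⁅a * b, c⁆ = a * ⁅b, c⁆ * a⁻¹ * ⁅a, c⁆ := by simp only [commutatorElement_def]; group
    _ = ⁅b, c⁆ * ⁅a, c⁆ := by rw [← h]; group
    _ = ⁅a, c⁆ * ⁅b, c⁆ := by
      rw [show ⁅a, c⁆ = a * c * (a⁻¹ * c⁻¹) by simp only [commutatorElement_def]; group]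
      exact h'

theorem comm_eq_one_iff {a b : G} : ⁅a, b⁆ = 1 ↔ a * b = b * a := by
  rw [commutatorElement_def, mul_inv_eq_one, mul_inv_eq_iff_eq_mul]

/-- The data attached to a maximal bad subgroup. -/
structure Datum (P Q T : Subgroup G) (y : G) : Prop where
  le : Q ≤ P
  Tle : T ≤ Q
  cen : ∀ t ∈ T, ∀ u ∈ Q, t * u = u * t
  two : ∀ a ∈ P, ∀ b ∈ P, a ∉ Q → b ∉ Q → a * b ∈ Q
  faith : ∀ s ∈ P, (∀ t ∈ T, t * s = s * t) → s ∈ Q
  nrm : ∀ s ∈ P, ∀ t ∈ T, s * t * s⁻¹ ∈ T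
  sq : ∀ t ∈ T, t * t = 1
  fixT : ∀ t ∈ T, y * t * y⁻¹ = t → t = 1
  fixSq : ∀ u ∈ Q, y * (u * u) * y⁻¹ = u * u
  fixComm : ∀ u ∈ Q, ∀ w ∈ Q, y * ⁅u, w⁆ * y⁻¹ = ⁅u, w⁆
  move : ∀ u ∈ Q, y * u * y⁻¹ * u⁻¹ ∈ T
  odd : (orderOf y).Coprime 2
  ne : ∃ t ∈ T, t ≠ 1

theorem Datum.map {P Q T : Subgroup G} {y : G} (D : Datum P Q T y) (e : G ≃* G)
    (hP : ∀ x, e x ∈ P ↔ x ∈ P) :
    Datum P (Q.map e.toMonoidHom) (T.map e.toMonoidHom) (e y) := by
  have hm : ∀ (H : Subgroup G) (x : G), x ∈ H.map e.toMonoidHom ↔ e.symm x ∈ H :=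
    fun H x => Subgroup.mem_map_equiv
  have hP' : ∀ x, e.symm x ∈ P ↔ x ∈ P := fun x => by rw [← hP, e.apply_symm_apply]
  constructor
  · intro x hx; rw [hm] at hx; exact (hP' x).1 (D.le hx)
  · intro x hx; rw [hm] at hx ⊢; exact D.Tle hx
  · intro t ht u hu; rw [hm] at ht hu
    apply e.symm.injective; rw [map_mul, map_mul]; exact D.cen _ ht _ hu
  · intro a ha b hb na nb; rw [hm] at na nb ⊢; rw [map_mul]
    exact D.two _ ((hP' a).2 ha) _ ((hP' b).2 hb) na nb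
  · intro s hs h; rw [hm]
    refine D.faith _ ((hP' s).2 hs) fun t ht => ?_
    have h1 := congrArg e.symm (h (e t) ((hm T _).2 (by simpa using ht)))
    simpa using h1
  · intro s hs t ht; rw [hm] at ht ⊢
    simpa using D.nrm _ ((hP' s).2 hs) _ ht
  · intro t ht; rw [hm] at ht
    apply e.symm.injective; simpa using D.sq _ ht
  · intro t ht h; rw [hm] at ht
    apply e.symm.injective; rw [map_one]
    exact D.fixT _ ht (by simpa using congrArg e.symm h)
  · intro u hu; rw [hm] at hu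
    apply e.symm.injective; simpa using D.fixSq _ hu
  · intro u hu w hw; rw [hm] at hu hw
    apply e.symm.injective
    simpa [map_commutatorElement] using D.fixComm _ hu _ hw
  · intro u hu; rw [hm] at hu ⊢
    simpa using D.move _ hu
  · rw [MulEquiv.orderOf_eq]; exact D.odd
  · obtain ⟨t, ht, hne⟩ := D.ne
    exact ⟨e t, (hm T _).2 (by simpa using ht), by simpa using hne⟩

section Graph

variable {P : Subgroup G} (h2 : ClassTwo P)

/-- `T` of the first datum does not lie in the second datum's subgroup. -/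
def Adj (T₁ Q₂ : Subgroup G) : Prop := ∃ t ∈ T₁, t ∉ Q₂

variable {Qi Ti Qk Tk Ql Tl Qm Tm : Subgroup G} {yi yk yl ym : G}

theorem exists_partner (Di : Datum P Qi Ti yi) (Dk : Datum P Qk Tk yk) {t : G} (ht : t ∈ Ti)
    (htk : t ∉ Qk) : ∃ u ∈ Tk, u ∉ Qi ∧ ⁅t, u⁆ ≠ 1 := by
  by_contra hc
  push Not at hc
  refine htk (Dk.faith t (Di.le (Di.Tle ht)) fun u hu => ?_)
  by_cases h : u ∈ Qi
  · exact (Di.cen t ht u h).symm
  · exact (comm_eq_one_iff.1 (hc u hu h)).symm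

theorem adj_symm (Di : Datum P Qi Ti yi) (Dk : Datum P Qk Tk yk) (h : Adj Ti Qk) : Adj Tk Qi := by
  obtain ⟨t, ht, htk⟩ := h
  obtain ⟨u, hu, hui, -⟩ := exists_partner Di Dk ht htk
  exact ⟨u, hu, hui⟩

include h2 in
/-- All elements outside `Qi` induce the same commutator on an element of `Ti`. -/
theorem comm_const (Di : Datum P Qi Ti yi) {t s s' : G} (ht : t ∈ Ti) (hs : s ∈ P) (hs' : s' ∈ P)
    (hsi : s ∉ Qi) (hsi' : s' ∉ Qi) : ⁅t, s⁆ = ⁅t, s'⁆ := by
  have htP := Di.le (Di.Tle ht)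
  have h1 : ⁅t, s * s'⁆ = 1 := comm_eq_one_iff.2 (Di.cen t ht _ (Di.two s hs s' hs' hsi hsi'))
  have h3 : ⁅t * t, s'⁆ = 1 := by rw [Di.sq t ht]; exact commutatorElement_one_left s'
  rw [comm_mul_left h2 htP htP hs'] at h3
  rw [comm_mul_right h2 htP hs hs'] at h1
  exact mul_right_cancel (h1.trans h3.symm)

include h2 in
theorem comm_ne_one (Di : Datum P Qi Ti yi) (Dk : Datum P Qk Tk yk) {t s : G} (ht : t ∈ Ti)
    (htk : t ∉ Qk) (hs : s ∈ P) (hsi : s ∉ Qi) : ⁅t, s⁆ ≠ 1 := by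
  obtain ⟨u, hu, hui, hne⟩ := exists_partner Di Dk ht htk
  rwa [comm_const h2 Di ht hs (Dk.le (Dk.Tle hu)) hsi hui]

include h2 in
theorem not_mem_of_adj (Di : Datum P Qi Ti yi) (Dk : Datum P Qk Tk yk) (Dl : Datum P Ql Tl yl)
    {t : G} (ht : t ∈ Ti) (htk : t ∉ Qk) (hl : Adj Tl Qi) : t ∉ Ql := by
  obtain ⟨u, hu, hui⟩ := hl
  intro htl
  exact comm_ne_one h2 Di Dk ht htk (Dl.le (Dl.Tle hu)) hui
    (comm_eq_one_iff.2 (Dl.cen u hu t htl).symm)

include h2 in
theorem comm_mem (Di : Datum P Qi Ti yi) {t s : G} (ht : t ∈ Ti) (hs : s ∈ P) : ⁅t, s⁆ ∈ Ti := by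
  rw [commutatorElement_def, show t * s * t⁻¹ * s⁻¹ = t * (s * t⁻¹ * s⁻¹) by group]
  exact Ti.mul_mem ht (Di.nrm s hs _ (Ti.inv_mem ht))

include h2 in
/-- No triangles. -/
theorem no_triangle (Di : Datum P Qi Ti yi) (Dk : Datum P Qk Tk yk) (Dl : Datum P Ql Tl yl)
    (hik : Adj Ti Qk) (hil : Adj Ti Ql) (hkl : Adj Tk Ql) : False := by
  obtain ⟨t, ht, htk⟩ := hik
  obtain ⟨uk, huk, huki, -⟩ := exists_partner Di Dk ht htk
  have htl : t ∉ Ql := not_mem_of_adj h2 Di Dk Dl ht htk (adj_symm Di Dl hil)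
  obtain ⟨ul, hul, huli, hne⟩ := exists_partner Di Dl ht htl
  have hukP := Dk.le (Dk.Tle huk)
  have hulP := Dl.le (Dl.Tle hul)
  have hukl : uk ∉ Ql := not_mem_of_adj h2 Dk Di Dl huk huki (adj_symm Dk Dl hkl)
  have hulk : ul ∉ Qk := not_mem_of_adj h2 Dl Di Dk hul huli hkl
  have htP := Di.le (Di.Tle ht)
  set c := ⁅t, ul⁆ with hc
  have hck : ⁅uk, ul⁆ = c⁻¹ := by
    rw [comm_const h2 Dk huk hulP htP hulk htk, ← commutatorElement_inv t uk,
      comm_const h2 Di ht hukP hulP huki huli]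
  have hv : uk * ul ∈ Qi := Di.two _ hukP _ hulP huki huli
  have hv2 : (uk * ul) * (uk * ul) = c⁻¹ := by
    rw [← hck, commutatorElement_def, inv_eq_of_mul_eq_one_left (Dk.sq uk huk),
      inv_eq_of_mul_eq_one_left (Dl.sq ul hul)]
    group
  have hfix := Di.fixSq _ hv
  rw [hv2] at hfix
  have h := Di.fixT _ (Ti.inv_mem (comm_mem h2 Di ht hulP)) hfix
  exact hne (inv_eq_one.1 h)

include h2 in
/-- Two neighbours of `i` have the same neighbours. -/
theorem adj_of_common (Di : Datum P Qi Ti yi) (Dk : Datum P Qk Tk yk) (Dl : Datum P Ql Tl yl)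
    (Dm : Datum P Qm Tm ym) (hik : Adj Ti Qk) (hil : Adj Ti Ql) (hkm : Adj Tk Qm) :
    Adj Tl Qm := by
  by_contra hlm
  have him : ¬ Adj Ti Qm := fun h => no_triangle h2 Di Dk Dm hik h hkm
  have hml : ¬ Adj Tm Ql := fun h => hlm (adj_symm Dm Dl h)
  obtain ⟨t, ht, htk⟩ := hik
  obtain ⟨uk, huk, huki, hne⟩ := exists_partner Di Dk ht htk
  obtain ⟨ul, hul, huli⟩ := adj_symm Di Dl hil
  obtain ⟨um, hum, humk⟩ := adj_symm Dk Dm hkm
  have hukP := Dk.le (Dk.Tle huk)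
  have hulP := Dl.le (Dl.Tle hul)
  have humP := Dm.le (Dm.Tle hum)
  have humi : um ∈ Qi := by
    by_contra h
    exact him (adj_symm Dm Di ⟨um, hum, h⟩)
  have huml : um ∈ Ql := by
    by_contra h
    exact hml ⟨um, hum, h⟩
  have h1 : ⁅ul, um⁆ = 1 := comm_eq_one_iff.2 (Dl.cen ul hul um huml)
  have h3 : ⁅uk, um⁆ = ⁅t, uk⁆⁻¹ := by
    rw [comm_const h2 Dk huk humP (Di.le (Di.Tle ht)) humk htk, commutatorElement_inv]
  have hfix := Di.fixComm _ (Di.two _ hukP _ hulP huki huli) _ humi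
  rw [comm_mul_left h2 hukP hulP humP, h1, mul_one, h3] at hfix
  exact hne (inv_eq_one.1 (Di.fixT _ (Ti.inv_mem (comm_mem h2 Di ht hukP)) hfix))

end Graph

variable {A : Type*} [Group A]

/-- The orbit argument. -/
theorem orbit_false [Finite A] (hA : Odd (Nat.card A)) (φ : A →* MulAut G) {P : Subgroup G}
    (hPinv : ∀ a : A, ∀ x ∈ P, φ a x ∈ P) (h2 : ClassTwo P)
    (hN : ∀ X : Subgroup G, X ≠ ⊥ → X ≤ P → (∀ a : A, ∀ x ∈ X, φ a x ∈ X) →
      (∀ s ∈ P, ∀ x ∈ X, s * x * s⁻¹ ∈ X) →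
      ∀ g : G, (∀ x ∈ X, g * x * g⁻¹ ∈ X) → (orderOf g).Coprime 2 → ∀ s ∈ P, g * s = s * g)
    {Q T : Subgroup G} {y : G} (D : Datum P Q T y) : False := by
  let Qa : A → Subgroup G := fun a => Q.map (φ a).toMonoidHom
  let Ta : A → Subgroup G := fun a => T.map (φ a).toMonoidHom
  have hiff : ∀ (a : A) (x : G), φ a x ∈ P ↔ x ∈ P := by
    intro a x
    refine ⟨fun h => ?_, hPinv a x⟩
    have h1 := hPinv a⁻¹ _ h
    rwa [map_inv, MulAut.inv_apply_self] at h1
  have DD : ∀ a, Datum P (Qa a) (Ta a) (φ a y) := fun a => D.map (φ a) (hiff a)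
  have mem : ∀ (H : Subgroup G) (a : A) (x : G), x ∈ H.map (φ a).toMonoidHom ↔ φ a⁻¹ x ∈ H := by
    intro H a x
    rw [Subgroup.mem_map_equiv, map_inv]
    rfl
  have htr : ∀ g a b, Adj (Ta a) (Qa b) → Adj (Ta (g * a)) (Qa (g * b)) := by
    rintro g a b ⟨t, ht, htb⟩
    refine ⟨φ g t, ?_, ?_⟩
    · rw [mem] at ht ⊢
      rwa [← MulAut.mul_apply, ← map_mul, show (g * a)⁻¹ * g = a⁻¹ by group]
    · rw [mem] at htb ⊢
      rwa [← MulAut.mul_apply, ← map_mul, show (g * b)⁻¹ * g = b⁻¹ by group]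
  have h1Q : Qa 1 = Q := by
    ext x; rw [mem, inv_one, map_one]; rfl
  have h1T : Ta 1 = T := by
    ext x; rw [mem, inv_one, map_one]; rfl
  by_cases hadj : ∀ a, ¬ Adj T (Qa a)
  · have hTX : T ≤ ⨅ a, Qa a := le_iInf fun a x hx => by
      by_contra h
      exact hadj a ⟨x, hx, h⟩
    have hXQ : ⨅ a, Qa a ≤ Q := h1Q ▸ iInf_le Qa 1
    obtain ⟨t, ht, htne⟩ := D.ne
    have hcy := hN (⨅ a, Qa a) (fun h => htne (by simpa [h] using hTX ht)) (hXQ.trans D.le)
      ?_ ?_ y ?_ D.odd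
    · refine htne (D.fixT t ht ?_)
      rw [hcy t (D.le (D.Tle ht)), mul_inv_cancel_right]
    · intro a x hx
      rw [Subgroup.mem_iInf] at hx ⊢
      intro b
      have h := hx (a⁻¹ * b)
      rw [mem] at h ⊢
      rwa [mul_inv_rev, inv_inv, map_mul, MulAut.mul_apply] at h
    · intro s hs x hx
      rw [Subgroup.mem_iInf] at hx ⊢
      intro b
      refine (DD b).faith _ (P.mul_mem (P.mul_mem hs ((DD b).le (hx b))) (P.inv_mem hs))
        fun u hu => ?_
      have hxP := (DD b).le (hx b)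
      have huP := (DD b).le ((DD b).Tle hu)
      have e : s * x * s⁻¹ = ⁅s, x⁆ * x := by simp [commutatorElement_def]
      rw [e, mul_assoc, ← (DD b).cen u hu x (hx b), ← mul_assoc, ← mul_assoc,
        h2 s hs x hxP u huP]
    · intro x hx
      have h := (⨅ a, Qa a).mul_mem (hTX (D.move x (hXQ hx))) hx
      rwa [inv_mul_cancel_right] at h
  push Not at hadj
  obtain ⟨a, ha⟩ := hadj
  rw [← h1T] at ha
  have ha2 : Adj (Ta a) (Qa (a * a)) := by
    have h := htr a 1 a ha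
    rwa [mul_one] at h
  have ha1 : Adj (Ta a) (Qa 1) := adj_symm (DD 1) (DD a) ha
  have hstep : ∀ m, Adj (Ta (a * a)) (Qa m) ↔ Adj (Ta 1) (Qa m) := fun m =>
    ⟨adj_of_common h2 (DD a) (DD _) (DD 1) (DD m) ha2 ha1,
      adj_of_common h2 (DD a) (DD 1) (DD _) (DD m) ha1 ha2⟩
  have hall : ∀ j m, Adj (Ta ((a * a) ^ j)) (Qa m) ↔ Adj (Ta 1) (Qa m) := by
    intro j
    induction j with
    | zero => intro m; rw [pow_zero]
    | succ j ih =>
      intro m
      rw [← hstep m, pow_succ']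
      constructor
      · intro h
        have h' := (ih _).1 (by simpa [mul_assoc] using htr (a * a)⁻¹ _ _ h)
        simpa [mul_assoc] using htr (a * a) _ _ h'
      · intro h
        have h' := (ih _).2 (by simpa [mul_assoc] using htr (a * a)⁻¹ _ _ h)
        simpa [mul_assoc] using htr (a * a) _ _ h'
  obtain ⟨k, hk⟩ : Odd (orderOf a) := hA.of_dvd_nat (orderOf_dvd_natCard a)
  have hpow : (a * a) ^ (k + 1) = a := by
    rw [← sq, ← pow_mul, show 2 * (k + 1) = orderOf a + 1 by omega, pow_succ, pow_orderOf_eq_one,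
      one_mul]
  obtain ⟨t, ht, htn⟩ : Adj (Ta a) (Qa a) := by
    have h := (hall (k + 1) a).2 ha
    rwa [hpow] at h
  exact htn ((DD a).Tle ht)

end CfsgLib.FTCons.ClassTwoBad
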