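import Mathlib
import Cfsg.Agent.Lib.FTCons.ClassTwoBad

/-!
# Frobenius' condition at 2 for Sylow subgroups of class two under an odd group of operators

`frobeniusCond_of_class_two` of the file `ClassTwoBad` is completed here: a maximal bad subgroup
gives a `Datum`.
-/

set_option autoImplicit false

namespace CfsgLib.FTCons.ClassTwoBad

open scoped commutatorElement
open Pointwise

variable {G : Type*} [Group G] [Finite G]

theorem mem_normalizer_of_forall {H : Subgroup G} {g : G} (h : ∀ x ∈ H, g * x * g⁻¹ ∈ H) :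
    g ∈ Subgroup.normalizer (H : Set G) := by
  rw [Subgroup.mem_normalizer_iff_map_conj_eq]
  refine Subgroup.eq_of_le_of_card_ge ?_ ?_
  · rintro y ⟨x, hx, rfl⟩
    exact h x hx
  · rw [Subgroup.card_map_of_injective (MulAut.conj g).injective]

theorem conj_mem_of_mem_normalizer {H : Subgroup G} {g x : G}
    (hg : g ∈ Subgroup.normalizer (H : Set G)) (hx : x ∈ H) : g * x * g⁻¹ ∈ H :=
  (Subgroup.mem_normalizer_iff.1 hg x).1 hx

/-- A 2-subgroup with an element of odd order acting nontrivially on it. -/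
def Bad (Q : Subgroup G) : Prop :=
  IsPGroup 2 Q ∧ ∃ g ∈ Subgroup.normalizer (Q : Set G),
    (orderOf g).Coprime 2 ∧ g ∉ Subgroup.centralizer (Q : Set G)

theorem Bad.map {Q : Subgroup G} (h : Bad Q) (e : G ≃* G) : Bad (Q.map e.toMonoidHom) := by
  obtain ⟨hQ, g, hg, hgo, hgC⟩ := h
  refine ⟨hQ.map _, e g, ?_, by rwa [MulEquiv.orderOf_eq], fun hc => hgC ?_⟩
  · rw [Subgroup.mem_normalizer_iff]
    intro x
    rw [Subgroup.mem_map_equiv, Subgroup.mem_map_equiv, map_mul, map_mul, map_inv,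
      e.symm_apply_apply]
    exact Subgroup.mem_normalizer_iff.1 hg _
  · rw [Subgroup.mem_centralizer_iff] at hc ⊢
    intro q hq
    apply e.injective
    simpa using hc _ ⟨q, hq, rfl⟩

/-- A maximal bad subgroup absorbs the 2-subgroups of the sections it normalises. -/
theorem le_of_normalized {Q : Subgroup G} (hQ : Maximal Bad Q) (H : Subgroup G)
    (hCH : Subgroup.centralizer (Q : Set G) ≤ H) (hQH : Q ≤ H)
    (hHN : H ≤ Subgroup.normalizer (Q : Set G)) {g : G}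
    (hg : g ∈ Subgroup.normalizer (Q : Set G)) (hgH : ∀ x ∈ H, g * x * g⁻¹ ∈ H)
    (hodd : (orderOf g).Coprime 2) (hgn : g ∉ H) {R : Subgroup G} (hR : IsPGroup 2 R)
    (hRH : R ≤ H) : R ≤ Q := by
  obtain ⟨K, hK⟩ : ∃ K, K = Subgroup.normalizer (H : Set G) := ⟨_, rfl⟩
  have hHK : H ≤ K := hK ▸ Subgroup.le_normalizer
  have hgK : g ∈ K := hK ▸ mem_normalizer_of_forall hgH
  haveI hHn : (H.subgroupOf K).Normal := Subgroup.normal_subgroupOf_of_le_normalizer hK.le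
  have hRQ : IsPGroup 2 (R ⊔ Q : Subgroup G) :=
    hR.to_sup_of_normal_right' hQ.prop.1 (hRH.trans hHN)
  obtain ⟨D, hD⟩ := ((hRQ.comap_of_injective _ K.subtype_injective).comap_of_injective _
    (H.subgroupOf K).subtype_injective).exists_le_sylow
  set D₁ := (D : Subgroup (H.subgroupOf K)).map (H.subgroupOf K).subtype with hD₁
  set D₂ := D₁.map K.subtype with hD₂
  have hD₂p : IsPGroup 2 D₂ := (D.2.map _).map _
  have hRD : R ⊔ Q ≤ D₂ := by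
    intro x hx
    have hxH : x ∈ H := sup_le hRH hQH hx
    exact ⟨_, ⟨⟨⟨x, hHK hxH⟩, hxH⟩, hD hx, rfl⟩, rfl⟩
  have hfr := Sylow.normalizer_sup_eq_top D
  have hgm : (⟨g, hgK⟩ : K) ∈ Subgroup.normalizer (D₁ : Set K) ⊔ H.subgroupOf K := by
    rw [hfr]; trivial
  rw [← SetLike.mem_coe, Subgroup.mul_normal] at hgm
  obtain ⟨n, hn, c, hc, hnc⟩ := hgm
  replace hnc : n * c = ⟨g, hgK⟩ := hnc
  obtain ⟨a, m, hm, hoa⟩ : ∃ a m, ¬ 2 ∣ m ∧ orderOf n = 2 ^ a * m :=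
    ⟨_, _, Nat.not_dvd_ordCompl Nat.prime_two (orderOf_pos n).ne',
      (Nat.ordProj_mul_ordCompl_eq_self (orderOf n) 2).symm⟩
  have hn₁ : (orderOf (n ^ 2 ^ a)).Coprime 2 := by
    rw [orderOf_pow, hoa, Nat.gcd_mul_right_left,
      Nat.mul_div_cancel_left _ (pow_pos (by norm_num) a)]
    exact Nat.Coprime.symm ((Nat.prime_two.coprime_iff_not_dvd).2 hm)
  have hn₁H : (n ^ 2 ^ a : K) ∉ H.subgroupOf K := by
    intro hmem
    have he : QuotientGroup.mk' (H.subgroupOf K) n = QuotientGroup.mk' (H.subgroupOf K) ⟨g, hgK⟩ := by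
      rw [← hnc, map_mul, QuotientGroup.mk'_apply, QuotientGroup.mk'_apply,
        (QuotientGroup.eq_one_iff c).2 hc, mul_one]
    have h1 : (QuotientGroup.mk' (H.subgroupOf K) ⟨g, hgK⟩) ^ 2 ^ a = 1 := by
      rw [← he, ← map_pow]
      exact (QuotientGroup.eq_one_iff _).2 hmem
    have h2 : orderOf (QuotientGroup.mk' (H.subgroupOf K) ⟨g, hgK⟩) = 1 := by
      refine Nat.eq_one_of_dvd_coprimes (a := orderOf g) (b := 2 ^ a) (hodd.pow_right a) ?_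
        (orderOf_dvd_of_pow_eq_one h1)
      have := orderOf_map_dvd (QuotientGroup.mk' (H.subgroupOf K)) ⟨g, hgK⟩
      rwa [Subgroup.orderOf_mk] at this
    rw [orderOf_eq_one_iff, QuotientGroup.mk'_apply, QuotientGroup.eq_one_iff] at h2
    exact hgn h2
  have hnQ : (n : G) ∈ Subgroup.normalizer (Q : Set G) := by
    have h : (n : G) = g * (c : G)⁻¹ := by
      have h' := congrArg Subtype.val hnc
      rw [Subgroup.coe_mul] at h'
      exact eq_mul_inv_of_mul_eq h'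
    rw [h]
    exact Subgroup.mul_mem _ hg (Subgroup.inv_mem _ (hHN hc))
  have hnD : (n : G) ∈ Subgroup.normalizer (D₂ : Set G) := by
    refine mem_normalizer_of_forall ?_
    rintro _ ⟨y, hy, rfl⟩
    exact ⟨n * y * n⁻¹, (Subgroup.mem_normalizer_iff.1 hn y).1 hy, by simp⟩
  have hBad : Bad D₂ := by
    refine ⟨hD₂p, ((n ^ 2 ^ a : K) : G), ?_, by rwa [Subgroup.orderOf_coe], fun hmem => hn₁H ?_⟩
    · rw [SubmonoidClass.coe_pow]
      exact Subgroup.pow_mem _ hnD _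
    · exact hCH (Subgroup.centralizer_le (SetLike.coe_subset_coe.2 (le_sup_right.trans hRD)) hmem)
  exact (le_sup_left.trans hRD).trans (hQ.le_of_ge hBad (le_sup_right.trans hRD))

theorem exists_T {P Q : Subgroup G} (h2 : ClassTwo P) (hQ2 : IsPGroup 2 Q) (hQP : Q ≤ P)
    (hPQ : ∀ s ∈ P, ∀ u ∈ Q, s * u * s⁻¹ ∈ Q) {y : G}
    (hy : y ∈ Subgroup.normalizer (Q : Set G)) (hodd : (orderOf y).Coprime 2)
    (hyC : y ∉ Subgroup.centralizer (Q : Set G)) {s : G} (hs : s ∈ P)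
    (hk : ∃ q ∈ Q, ∃ c ∈ Subgroup.centralizer (Q : Set G), s * y * s⁻¹ * y = q * c) :
    ∃ T : Subgroup G, T ≤ Q ∧ (∀ t ∈ T, ∀ u ∈ Q, t * u = u * t) ∧ (∀ t ∈ T, t * t = 1) ∧
      (∀ t ∈ T, y * t * y⁻¹ = t → t = 1) ∧ (∀ u ∈ Q, y * (u * u) * y⁻¹ = u * u) ∧
      (∀ u ∈ Q, ∀ w ∈ Q, y * ⁅u, w⁆ * y⁻¹ = ⁅u, w⁆) ∧ (∀ u ∈ Q, y * u * y⁻¹ * u⁻¹ ∈ T) ∧
      (∀ t ∈ T, s * t * s⁻¹ ∈ T) ∧ ∃ t ∈ T, s * t ≠ t * s := by
  set V : Subgroup G := Q ⊓ Subgroup.centralizer (Q : Set G) with hV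
  have hyQ : ∀ u ∈ Q, y * u * y⁻¹ ∈ Q := fun u hu => conj_mem_of_mem_normalizer hy hu
  have hyQ' : ∀ u ∈ Q, y⁻¹ * u * y ∈ Q := fun u hu => by
    simpa using conj_mem_of_mem_normalizer (Subgroup.inv_mem _ hy) hu
  have hVcomm : ∀ v ∈ V, ∀ u ∈ Q, v * u = u * v := fun v hv u hu =>
    (Subgroup.mem_centralizer_iff.1 hv.2 u hu).symm
  have hVy : ∀ v ∈ V, y * v * y⁻¹ ∈ V := by
    intro v hv
    refine ⟨hyQ v hv.1, Subgroup.mem_centralizer_iff.2 fun u hu => ?_⟩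
    have h := hVcomm v hv _ (hyQ' u hu)
    calc u * (y * v * y⁻¹) = y * ((y⁻¹ * u * y) * v) * y⁻¹ := by group
      _ = y * (v * (y⁻¹ * u * y)) * y⁻¹ := by rw [h]
      _ = y * v * y⁻¹ * u := by group
  have hVs : ∀ r ∈ P, ∀ v ∈ V, r * v * r⁻¹ ∈ V := by
    intro r hr v hv
    refine ⟨hPQ r hr v hv.1, Subgroup.mem_centralizer_iff.2 fun u hu => ?_⟩
    have h := hVcomm v hv _ (hPQ r⁻¹ (P.inv_mem hr) u hu)
    calc u * (r * v * r⁻¹) = r * ((r⁻¹ * u * r⁻¹⁻¹) * v) * r⁻¹ := by group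
      _ = r * (v * (r⁻¹ * u * r⁻¹⁻¹)) * r⁻¹ := by rw [h]
      _ = r * v * r⁻¹ * u := by group
  have hcommV : ∀ r ∈ P, ∀ u ∈ Q, ⁅r, u⁆ ∈ V := by
    intro r hr u hu
    refine ⟨Q.mul_mem (hPQ r hr u hu) (Q.inv_mem hu), Subgroup.mem_centralizer_iff.2 fun w hw => ?_⟩
    exact (h2 r hr u (hQP hu) w (hQP hw)).symm
  -- powers of `y`
  have hpowfix : ∀ a : G, y * (y * a * y⁻¹) * y⁻¹ = a → y * a * y⁻¹ = a := by
    intro a ha
    obtain ⟨k, hk⟩ : ∃ k, (y ^ 2) ^ k = y := exists_pow_eq_self_of_coprime hodd.symm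
    have hc : Commute (y ^ 2) a := by
      rw [commute_iff_eq]
      calc y ^ 2 * a = (y * (y * a * y⁻¹) * y⁻¹) * y ^ 2 := by rw [pow_two]; group
        _ = a * y ^ 2 := by rw [ha]
    have := hc.pow_left k
    rw [hk] at this
    rw [this.eq, mul_inv_cancel_right]
  have hroot : ∀ v ∈ Q, ∀ H : Subgroup G, v ^ orderOf y ∈ H → v ∈ H := by
    intro v hv H hvH
    obtain ⟨k, hk⟩ := IsPGroup.iff_orderOf.1 hQ2 ⟨v, hv⟩
    rw [Subgroup.orderOf_mk] at hk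
    obtain ⟨j, hj⟩ : ∃ j, (v ^ orderOf y) ^ j = v :=
      exists_pow_eq_self_of_coprime (by rw [hk]; exact hodd.pow_right k)
    rw [← hj]
    exact H.pow_mem hvH j
  -- the subgroup `T`
  let dhom : V →* G :=
    { toFun := fun v => y * (v : G) * y⁻¹ * (v : G)⁻¹
      map_one' := by simp
      map_mul' := fun v w => by
        have h := hVcomm (y * (w : G) * y⁻¹ * (w : G)⁻¹) (V.mul_mem (hVy _ w.2) (V.inv_mem w.2))
          _ (Q.inv_mem v.2.1)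
        simp only [Subgroup.coe_mul]
        calc y * ((v : G) * w) * y⁻¹ * ((v : G) * w)⁻¹
            = y * v * y⁻¹ * ((y * w * y⁻¹ * (w : G)⁻¹) * (v : G)⁻¹) := by group
          _ = y * v * y⁻¹ * ((v : G)⁻¹ * (y * w * y⁻¹ * (w : G)⁻¹)) := by rw [h]
          _ = _ := by group }
  have hdmem : ∀ v ∈ V, y * v * y⁻¹ * v⁻¹ ∈ dhom.range := fun v hv => ⟨⟨v, hv⟩, rfl⟩
  have hTV : dhom.range ≤ V := by
    rintro _ ⟨v, rfl⟩
    exact V.mul_mem (hVy _ v.2) (V.inv_mem v.2)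
  have hTy : ∀ t ∈ dhom.range, y * t * y⁻¹ ∈ dhom.range := by
    rintro _ ⟨v, rfl⟩
    refine ⟨⟨_, hVy _ v.2⟩, ?_⟩
    show y * (y * (v : G) * y⁻¹) * y⁻¹ * (y * (v : G) * y⁻¹)⁻¹ = y * (y * (v : G) * y⁻¹ * (v : G)⁻¹) * y⁻¹
    group
  -- the conjugate of `y` under `s` acts as the inverse modulo inner automorphisms of `Q`
  obtain ⟨q, hq, c, hc, hqc⟩ := hk
  have hk' : ∀ u ∈ Q, s * y * s⁻¹ * y * u * (s * y * s⁻¹ * y)⁻¹ = q * u * q⁻¹ := by
    intro u hu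
    rw [hqc]
    calc q * c * u * (q * c)⁻¹ = q * (c * u) * c⁻¹ * q⁻¹ := by group
      _ = q * (u * c) * c⁻¹ * q⁻¹ := by rw [Subgroup.mem_centralizer_iff.1 hc u hu]
      _ = q * u * q⁻¹ := by group
  have hkV : ∀ v ∈ V, y * (s⁻¹ * (y * v * y⁻¹) * s) * y⁻¹ = s⁻¹ * v * s := by
    intro v hv
    have h := hk' v hv.1
    rw [← hVcomm v hv q hq, mul_inv_cancel_right] at h
    calc y * (s⁻¹ * (y * v * y⁻¹) * s) * y⁻¹
        = s⁻¹ * (s * y * s⁻¹ * y * v * (s * y * s⁻¹ * y)⁻¹) * s := by group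
      _ = s⁻¹ * v * s := by rw [h]
  have hmove2 : ∀ u ∈ Q, y * (y * u * y⁻¹) * y⁻¹ * u⁻¹ ∈ V := by
    intro u hu
    have hw : y * u * y⁻¹ ∈ Q := hyQ u hu
    have h1 : ⁅s⁻¹, y * u * y⁻¹⁆ ∈ V := hcommV _ (P.inv_mem hs) _ hw
    have h2' : ⁅s⁻¹, u⁆ ∈ V := hcommV _ (P.inv_mem hs) _ hu
    have h3 : ⁅q, u⁆ ∈ V := hcommV _ (hQP hq) _ hu
    have h4 : s⁻¹ * ⁅q, u⁆ * s⁻¹⁻¹ ∈ V := hVs _ (P.inv_mem hs) _ h3
    have heq : y * (y * u * y⁻¹) * y⁻¹ * u⁻¹ =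
        (y * ⁅s⁻¹, y * u * y⁻¹⁆ * y⁻¹)⁻¹ * ((s⁻¹ * ⁅q, u⁆ * s⁻¹⁻¹) * ⁅s⁻¹, u⁆) := by
      have h := hk' u hu
      calc y * (y * u * y⁻¹) * y⁻¹ * u⁻¹
          = (y * ⁅s⁻¹, y * u * y⁻¹⁆ * y⁻¹)⁻¹ *
            (s⁻¹ * (s * y * s⁻¹ * y * u * (s * y * s⁻¹ * y)⁻¹) * s * u⁻¹) := by
            simp [commutatorElement_def, mul_assoc]
        _ = _ := by rw [h]; simp [commutatorElement_def, mul_assoc]
    rw [heq]
    exact V.mul_mem (V.inv_mem (hVy _ h1)) (V.mul_mem h4 h2')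
  have hmove1 : ∀ u ∈ Q, y * u * y⁻¹ * u⁻¹ ∈ V := by
    intro u hu
    have hall : ∀ n : ℕ, (y ^ 2) ^ n * u * ((y ^ 2) ^ n)⁻¹ * u⁻¹ ∈ V := by
      intro n
      induction n with
      | zero => simp
      | succ n ih =>
        have h := hVy _ (hVy _ ih)
        have heq : (y ^ 2) ^ (n + 1) * u * ((y ^ 2) ^ (n + 1))⁻¹ * u⁻¹ =
            (y * (y * ((y ^ 2) ^ n * u * ((y ^ 2) ^ n)⁻¹ * u⁻¹) * y⁻¹) * y⁻¹) *
              (y * (y * u * y⁻¹) * y⁻¹ * u⁻¹) := by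
          rw [pow_succ']
          generalize (y ^ 2) ^ n = w
          rw [pow_two]; group
        rw [heq]
        exact V.mul_mem h (hmove2 u hu)
    obtain ⟨k, hk⟩ : ∃ k, (y ^ 2) ^ k = y := exists_pow_eq_self_of_coprime hodd.symm
    simpa [hk] using hall k
  have hmove : ∀ u ∈ Q, y * u * y⁻¹ * u⁻¹ ∈ dhom.range := by
    intro u hu
    obtain ⟨z, hz⟩ : ∃ z, z = y * u * y⁻¹ * u⁻¹ := ⟨_, rfl⟩
    have hzV : z ∈ V := hz ▸ hmove1 u hu
    have hall : ∀ n : ℕ, ∃ t ∈ dhom.range, y ^ n * u * (y ^ n)⁻¹ = t * z ^ n * u := by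
      intro n
      induction n with
      | zero => exact ⟨1, one_mem _, by simp⟩
      | succ n ih =>
        obtain ⟨t, ht, he⟩ := ih
        have hcz : Commute (y * z * y⁻¹ * z⁻¹) z :=
          hVcomm _ (V.mul_mem (hVy _ hzV) (V.inv_mem hzV)) z hzV.1
        refine ⟨y * t * y⁻¹ * (y * z * y⁻¹ * z⁻¹) ^ n,
          mul_mem (hTy t ht) (pow_mem (hdmem z hzV) n), ?_⟩
        have h1 : (y * z * y⁻¹) ^ n = (y * z * y⁻¹ * z⁻¹) ^ n * z ^ n := by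
          rw [← hcz.mul_pow]; group
        calc y ^ (n + 1) * u * (y ^ (n + 1))⁻¹ = y * (y ^ n * u * (y ^ n)⁻¹) * y⁻¹ := by
              rw [pow_succ']; group
          _ = y * (t * z ^ n * u) * y⁻¹ := by rw [he]
          _ = y * t * y⁻¹ * (y * z * y⁻¹) ^ n * (z * u) := by rw [conj_pow, hz]; group
          _ = _ := by rw [h1, pow_succ z]; group
    obtain ⟨t, ht, he⟩ := hall (orderOf y)
    rw [pow_orderOf_eq_one, one_mul, inv_one, mul_one] at he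
    have h1 : z ^ orderOf y = t⁻¹ := by
      rw [eq_inv_iff_mul_eq_one]
      have h' : t * z ^ orderOf y = 1 := mul_eq_right.1 he.symm
      exact mul_eq_one_comm.1 h'
    rw [← hz]
    exact hroot z hzV.1 _ (h1 ▸ inv_mem ht)
  have hfixT : ∀ t ∈ dhom.range, y * t * y⁻¹ = t → t = 1 := by
    rintro t ⟨v, rfl⟩ hfix
    obtain ⟨t, ht⟩ : ∃ t, t = dhom v := ⟨_, rfl⟩
    rw [← ht] at hfix ⊢
    have hd : t = y * (v : G) * y⁻¹ * (v : G)⁻¹ := ht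
    have hall : ∀ n : ℕ, y ^ n * (v : G) * (y ^ n)⁻¹ = t ^ n * (v : G) := by
      intro n
      induction n with
      | zero => simp
      | succ n ih =>
        calc y ^ (n + 1) * (v : G) * (y ^ (n + 1))⁻¹ = y * (y ^ n * (v : G) * (y ^ n)⁻¹) * y⁻¹ := by
              rw [pow_succ']; group
          _ = (y * t * y⁻¹) ^ n * ((y * (v : G) * y⁻¹ * (v : G)⁻¹) * v) := by
              rw [ih, conj_pow]; group
          _ = _ := by rw [hfix, ← hd, pow_succ]; group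
    have h := hall (orderOf y)
    rw [pow_orderOf_eq_one, one_mul, inv_one, mul_one] at h
    have h1 : t ^ orderOf y = 1 := mul_eq_right.1 h.symm
    have htQ : t ∈ Q := ht ▸ (hTV ⟨v, rfl⟩).1
    exact Subgroup.mem_bot.1 (hroot t htQ ⊥ (h1 ▸ one_mem _))
  -- squares in `V` are fixed by `y`
  have hVsq : ∀ w ∈ V, y * (w * w) * y⁻¹ = w * w := by
    intro w hw
    have hstep : ∀ v ∈ V,
        s⁻¹ * (s⁻¹ * (y * v * y⁻¹) * s) * s = y * (s⁻¹ * (s⁻¹ * v * s) * s) * y⁻¹ := by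
      intro v hv
      have hσ : s⁻¹ * v * s ∈ V := by simpa using hVs _ (P.inv_mem hs) _ hv
      have hσ' : y⁻¹ * (s⁻¹ * v * s) * y ∈ V := by
        rw [← hkV v hv]
        have := hVs _ (P.inv_mem hs) _ (hVy v hv)
        simpa [mul_assoc] using this
      have h1 := hkV v hv
      have h3 := hkV _ hσ'
      calc s⁻¹ * (s⁻¹ * (y * v * y⁻¹) * s) * s
          = s⁻¹ * (y⁻¹ * (y * (s⁻¹ * (y * v * y⁻¹) * s) * y⁻¹) * y) * s := by group
        _ = s⁻¹ * (y⁻¹ * (s⁻¹ * v * s) * y) * s := by rw [h1]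
        _ = y * (s⁻¹ * (y * (y⁻¹ * (s⁻¹ * v * s) * y) * y⁻¹) * s) * y⁻¹ := h3.symm
        _ = _ := by group
    have he : ∀ v ∈ V, s⁻¹ * (s⁻¹ * v * s) * s * v = (s⁻¹ * v * s) * (s⁻¹ * v * s) := by
      intro v hv
      obtain ⟨e, hedef⟩ : ∃ e, e = ⁅s⁻¹, v⁆ := ⟨_, rfl⟩
      have heV : e ∈ V := hedef ▸ hcommV _ (P.inv_mem hs) _ hv.1
      have hes : s⁻¹ * e * s = e := by
        have h := h2 _ (P.inv_mem hs) v (hQP hv.1) s hs
        rw [← hedef] at h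
        rw [mul_assoc, h, inv_mul_cancel_left]
      have hsv : s⁻¹ * v * s = e * v := by rw [hedef, commutatorElement_def]; group
      calc s⁻¹ * (s⁻¹ * v * s) * s * v = s⁻¹ * (e * v) * s * v := by rw [hsv]
        _ = (s⁻¹ * e * s) * (s⁻¹ * v * s) * v := by group
        _ = e * (e * v) * v := by rw [hes, hsv]
        _ = e * (v * e) * v := by rw [hVcomm e heV v hv.1]
        _ = _ := by rw [hsv]; group
    obtain ⟨v, hvdef⟩ : ∃ v, v = s * w * s⁻¹ := ⟨_, rfl⟩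
    have hv : v ∈ V := hvdef ▸ hVs _ hs _ hw
    have hσv : s⁻¹ * v * s = w := by rw [hvdef]; group
    have h1 := he (y * v * y⁻¹) (hVy v hv)
    rw [hstep v hv] at h1
    have h2' : s⁻¹ * (y * v * y⁻¹) * s = y⁻¹ * w * y := by
      calc s⁻¹ * (y * v * y⁻¹) * s = y⁻¹ * (y * (s⁻¹ * (y * v * y⁻¹) * s) * y⁻¹) * y := by group
        _ = _ := by rw [hkV v hv, hσv]
    rw [h2'] at h1
    have h3 : y * (w * w) * y⁻¹ = y⁻¹ * (w * w) * y := by
      calc y * (w * w) * y⁻¹ = y * (s⁻¹ * (s⁻¹ * v * s) * s * v) * y⁻¹ := by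
            rw [he v hv, hσv]
        _ = y * (s⁻¹ * (s⁻¹ * v * s) * s) * y⁻¹ * (y * v * y⁻¹) := by group
        _ = _ := by rw [h1]; group
    refine hpowfix _ ?_
    rw [h3]; group
  have hsqT : ∀ t ∈ dhom.range, t * t = 1 := fun t ht =>
    hfixT _ (mul_mem ht ht) (hVsq t (hTV ht))
  have hnrm : ∀ t ∈ dhom.range, s * t * s⁻¹ ∈ dhom.range := by
    rintro _ ⟨v, rfl⟩
    obtain ⟨w, hwdef⟩ : ∃ w, w = y⁻¹ * (s * (v : G) * s⁻¹) * y := ⟨_, rfl⟩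
    have hw : w ∈ V := by
      rw [hwdef]
      have h1 : s * (v : G) * s⁻¹ ∈ V := hVs _ hs _ v.2
      refine ⟨hyQ' _ h1.1, Subgroup.mem_centralizer_iff.2 fun u hu => ?_⟩
      have h := hVcomm _ h1 _ (hyQ u hu)
      generalize s * (v : G) * s⁻¹ = x at h
      calc u * (y⁻¹ * x * y) = y⁻¹ * ((y * u * y⁻¹) * x) * y := by group
        _ = y⁻¹ * (x * (y * u * y⁻¹)) * y := by rw [h]
        _ = y⁻¹ * x * y * u := by group
    have h1 : s * (y * (v : G) * y⁻¹) * s⁻¹ = w := by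
      have h := hkV w hw
      rw [hwdef, show s⁻¹ * (y * (y⁻¹ * (s * (v : G) * s⁻¹) * y) * y⁻¹) * s = (v : G) by group] at h
      rw [hwdef, h]; group
    show s * (y * (v : G) * y⁻¹ * (v : G)⁻¹) * s⁻¹ ∈ dhom.range
    rw [show s * (y * (v : G) * y⁻¹ * (v : G)⁻¹) * s⁻¹
        = (s * (y * (v : G) * y⁻¹) * s⁻¹) * (s * (v : G) * s⁻¹)⁻¹ by group, h1,
      show w * (s * (v : G) * s⁻¹)⁻¹ = (y * w * y⁻¹ * w⁻¹)⁻¹ by rw [hwdef]; group]
    exact inv_mem (hdmem w hw)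
  refine ⟨dhom.range, fun t ht => (hTV ht).1, fun t ht u hu => hVcomm t (hTV ht) u hu, hsqT,
    hfixT, ?_, ?_, hmove, hnrm, ?_⟩
  · intro u hu
    obtain ⟨d, hd⟩ : ∃ d, d = y * u * y⁻¹ * u⁻¹ := ⟨_, rfl⟩
    have hdT : d ∈ dhom.range := hd ▸ hmove u hu
    calc y * (u * u) * y⁻¹ = (y * u * y⁻¹) * (y * u * y⁻¹) := by group
      _ = d * (u * d) * u := by rw [hd]; group
      _ = d * (d * u) * u := by rw [hVcomm d (hTV hdT) u hu]
      _ = (d * d) * (u * u) := by group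
      _ = u * u := by rw [hsqT d hdT, one_mul]
  · intro u hu w hw
    obtain ⟨d, hd⟩ : ∃ d, d = y * u * y⁻¹ * u⁻¹ := ⟨_, rfl⟩
    obtain ⟨d', hd'⟩ : ∃ d', d' = y * w * y⁻¹ * w⁻¹ := ⟨_, rfl⟩
    have hdV : d ∈ V := hd ▸ hmove1 u hu
    have hd'V : d' ∈ V := hd' ▸ hmove1 w hw
    calc y * ⁅u, w⁆ * y⁻¹ = (d * u) * ((d' * w) * (u⁻¹ * d⁻¹)) * (w⁻¹ * d'⁻¹) := by
          rw [hd, hd', commutatorElement_def]; group
      _ = (d * u) * ((d' * w) * (d⁻¹ * u⁻¹)) * (d'⁻¹ * w⁻¹) := by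
          rw [hVcomm _ (V.inv_mem hdV) _ (Q.inv_mem hu),
            hVcomm _ (V.inv_mem hd'V) _ (Q.inv_mem hw)]
      _ = d * u * (d' * (w * d⁻¹)) * u⁻¹ * (d'⁻¹ * w⁻¹) := by group
      _ = d * u * (d' * (d⁻¹ * w)) * u⁻¹ * (d'⁻¹ * w⁻¹) := by
          rw [hVcomm _ (V.inv_mem hdV) w hw]
      _ = d * (u * (d' * d⁻¹)) * (w * u⁻¹ * d'⁻¹ * w⁻¹) := by group
      _ = d * ((d' * d⁻¹) * u) * (w * u⁻¹ * d'⁻¹ * w⁻¹) := by
          rw [hVcomm _ (V.mul_mem hd'V (V.inv_mem hdV)) u hu]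
      _ = d * d' * d⁻¹ * ((u * w * u⁻¹) * d'⁻¹) * w⁻¹ := by group
      _ = d * d' * d⁻¹ * (d'⁻¹ * (u * w * u⁻¹)) * w⁻¹ := by
          rw [hVcomm _ (V.inv_mem hd'V) _ (Q.mul_mem (Q.mul_mem hu hw) (Q.inv_mem hu))]
      _ = (d * d') * (d' * d)⁻¹ * ⁅u, w⁆ := by rw [commutatorElement_def]; group
      _ = ⁅u, w⁆ := by rw [hVcomm d hdV d' hd'V.1, mul_inv_cancel, one_mul]
  · by_contra hc
    push Not at hc
    apply hyC
    rw [Subgroup.mem_centralizer_iff]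
    intro u hu
    obtain ⟨t, ht⟩ : ∃ t, t = y * u * y⁻¹ * u⁻¹ := ⟨_, rfl⟩
    have htT : t ∈ dhom.range := ht ▸ hmove u hu
    have hfs : ∀ x ∈ dhom.range, s⁻¹ * x * s = x := fun x hx => by
      rw [mul_assoc, ← hc x hx, inv_mul_cancel_left]
    have h := hkV t (hTV htT)
    rw [hfs _ (hTy t htT), hfs t htT] at h
    have h1 := hfixT t htT (hpowfix t h)
    rw [h1] at ht
    exact (mul_inv_eq_iff_eq_mul.1 (mul_inv_eq_one.1 ht.symm)).symm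

theorem exists_odd_power {L : Type*} [Group L] [Finite L] (g : L) :
    ∃ a : ℕ, (orderOf (g ^ 2 ^ a)).Coprime 2 := by
  obtain ⟨a, m, hm, hoa⟩ : ∃ a m, ¬ 2 ∣ m ∧ orderOf g = 2 ^ a * m :=
    ⟨_, _, Nat.not_dvd_ordCompl Nat.prime_two (orderOf_pos g).ne',
      (Nat.ordProj_mul_ordCompl_eq_self (orderOf g) 2).symm⟩
  refine ⟨a, ?_⟩
  rw [orderOf_pow, hoa, Nat.gcd_mul_right_left,
    Nat.mul_div_cancel_left _ (pow_pos (by norm_num) a)]
  exact Nat.Coprime.symm ((Nat.prime_two.coprime_iff_not_dvd).2 hm)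

theorem eq_one_of_odd_two {L : Type*} [Group L] [Finite L] {g : L} (h : (orderOf g).Coprime 2)
    {R : Subgroup L} (hR : IsPGroup 2 R) (hg : g ∈ R) : g = 1 := by
  obtain ⟨k, hk⟩ := IsPGroup.iff_orderOf.1 hR ⟨g, hg⟩
  rw [Subgroup.orderOf_mk] at hk
  rw [hk] at h
  rw [← orderOf_eq_one_iff, hk]
  rcases Nat.eq_zero_or_pos k with rfl | hk0
  · simp
  · exact absurd h (by rw [Nat.coprime_pow_left_iff hk0]; norm_num)

variable {A : Type*} [Group A] [Finite A]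

/-- Frobenius' condition at 2 for a class two Sylow subgroup under an odd group of operators. -/
theorem frobeniusCond_of_class_two (hA : Odd (Nat.card A)) (φ : A →* MulAut G) (P : Sylow 2 G)
    (hPinv : ∀ a : A, ∀ x ∈ (P : Subgroup G), φ a x ∈ (P : Subgroup G))
    (h2 : ClassTwo (P : Subgroup G))
    (hN : ∀ X : Subgroup G, X ≠ ⊥ → X ≤ (P : Subgroup G) →
      (∀ a : A, ∀ x ∈ X, φ a x ∈ X) →
      (∀ s ∈ (P : Subgroup G), ∀ x ∈ X, s * x * s⁻¹ ∈ X) →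
      ∀ g : G, (∀ x ∈ X, g * x * g⁻¹ ∈ X) → (orderOf g).Coprime 2 →
        ∀ s ∈ (P : Subgroup G), g * s = s * g) :
    CfsgLib.Transfer.FrobeniusCond 2 G := by
  classical
  by_contra hF
  obtain ⟨Q₀, hQ₀⟩ : ∃ Q₀ : Subgroup G, Bad Q₀ := by
    simp only [CfsgLib.Transfer.FrobeniusCond, not_forall] at hF
    obtain ⟨Q₀, hQ₀, g, hg, hc, hgC⟩ := hF
    exact ⟨Q₀, hQ₀, g, hg, hc, hgC⟩
  obtain ⟨Q, hQ, hQP⟩ : ∃ Q, Maximal Bad Q ∧ Q ≤ (P : Subgroup G) := by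
    obtain ⟨Q₁, hQ₁⟩ := (Set.toFinite {Q : Subgroup G | Bad Q}).exists_maximal ⟨Q₀, hQ₀⟩
    obtain ⟨S, hS⟩ := hQ₁.prop.1.exists_le_sylow
    obtain ⟨a, rfl⟩ := MulAction.exists_smul_eq G P S
    refine ⟨Q₁.map (MulAut.conj a⁻¹).toMonoidHom, ⟨hQ₁.prop.map _, fun R hR hle => ?_⟩, ?_⟩
    · have h1 : Q₁ ≤ R.map (MulAut.conj a).toMonoidHom := fun x hx =>
        ⟨a⁻¹ * x * a⁻¹⁻¹, hle ⟨x, hx, by simp⟩, by simp [mul_assoc]⟩
      intro x hx
      obtain ⟨z, hz, hzx⟩ : ∃ z ∈ Q₁, z = a * x * a⁻¹ :=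
        ⟨_, hQ₁.le_of_ge (hR.map _) h1 ⟨x, hx, rfl⟩, by simp⟩
      exact ⟨z, hz, by rw [hzx]; simp [mul_assoc]⟩
    · rintro _ ⟨x, hx, rfl⟩
      obtain ⟨z, hz, hzx⟩ := hS hx
      rw [← hzx]
      simpa [mul_assoc] using (show z ∈ (P : Subgroup G) from hz)
  obtain ⟨hQ2, g₀, hg₀, hg₀o, hg₀C⟩ := hQ.prop
  -- the normaliser, and the subgroup `Q C(Q)`
  set N := Subgroup.normalizer (Q : Set G) with hNdef
  set C := Subgroup.centralizer (Q : Set G) with hCdef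
  have hCN : C ≤ N := Subgroup.centralizer_le_normalizer _
  have hQN : Q ≤ N := Subgroup.le_normalizer
  haveI hQn : (Q.subgroupOf N).Normal := Subgroup.normal_subgroupOf_of_le_normalizer le_rfl
  haveI hCn : (C.subgroupOf N).Normal := by
    refine ⟨fun c hc n => ?_⟩
    rw [Subgroup.mem_subgroupOf] at hc ⊢
    rw [hCdef, Subgroup.mem_centralizer_iff] at hc ⊢
    intro q hq
    have hq' : (n : G)⁻¹ * q * n ∈ Q := by
      simpa using conj_mem_of_mem_normalizer (N.inv_mem n.2) hq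
    have := hc _ hq'
    simp only [Subgroup.coe_mul, Subgroup.coe_inv]
    calc q * ((n : G) * c * (n : G)⁻¹) = n * (((n : G)⁻¹ * q * n) * c) * (n : G)⁻¹ := by group
      _ = n * (c * ((n : G)⁻¹ * q * n)) * (n : G)⁻¹ := by rw [this]
      _ = (n : G) * c * (n : G)⁻¹ * q := by group
  set Kn : Subgroup N := Q.subgroupOf N ⊔ C.subgroupOf N with hKn
  have hKmem : ∀ x : N, x ∈ Kn → ∃ q ∈ Q, ∃ c ∈ C, (x : G) = q * c := by
    intro x hx
    rw [hKn, ← SetLike.mem_coe, Subgroup.mul_normal] at hx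
    obtain ⟨q, hq, c, hc, rfl⟩ := hx
    exact ⟨q, hq, c, hc, rfl⟩
  have hoddK : ∀ x : N, (orderOf x).Coprime 2 → x ∈ Kn → (x : G) ∈ C := by
    intro x hxo hx
    have h1 : QuotientGroup.mk' (C.subgroupOf N) x ∈
        (Q.subgroupOf N).map (QuotientGroup.mk' (C.subgroupOf N)) := by
      rw [hKn, ← SetLike.mem_coe, Subgroup.mul_normal] at hx
      obtain ⟨q, hq, c, hc, rfl⟩ := hx
      refine ⟨q, hq, ?_⟩
      rw [map_mul, QuotientGroup.mk'_apply, QuotientGroup.mk'_apply,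
        (QuotientGroup.eq_one_iff c).2 hc, mul_one]
    have h2 : QuotientGroup.mk' (C.subgroupOf N) x = 1 :=
      eq_one_of_odd_two (hxo.coprime_dvd_left (orderOf_map_dvd _ x))
        ((hQ2.comap_of_injective N.subtype N.subtype_injective).map _) h1
    exact (QuotientGroup.eq_one_iff x).1 h2
  have hg₀K : (⟨g₀, hg₀⟩ : N) ∉ Kn := fun h => hg₀C (hoddK _ (by rwa [Subgroup.orderOf_mk]) h)
  -- subgroups of `N` over `Q C(Q)` normalised by an odd element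
  have hstar : ∀ (H : Subgroup N), Kn ≤ H → ∀ g : N, (∀ x ∈ H, g * x * g⁻¹ ∈ H) →
      (orderOf g).Coprime 2 → g ∉ H → ∀ x : N, x ∈ H → IsPGroup 2 (Subgroup.zpowers (x : G)) →
      (x : G) ∈ Q := by
    intro H hKH g hgn hgo hgH x hx hxp
    refine le_of_normalized hQ (H.map N.subtype) ?_ ?_ (Subgroup.map_subtype_le _) g.2 ?_
      (by rwa [Subgroup.orderOf_coe]) ?_ hxp ?_ (Subgroup.mem_zpowers (x : G))
    · exact fun c hc => ⟨⟨c, hCN hc⟩, hKH (Subgroup.mem_sup_right (show c ∈ C from hc)), rfl⟩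
    · exact fun q hq => ⟨⟨q, hQN hq⟩, hKH (Subgroup.mem_sup_left (show q ∈ Q from hq)), rfl⟩
    · rintro _ ⟨y, hy, rfl⟩
      exact ⟨_, hgn y hy, rfl⟩
    · rintro ⟨y, hy, hyg⟩
      exact hgH ((N.subtype_injective hyg) ▸ hy)
    · rw [Subgroup.zpowers_le]
      exact ⟨x, hx, rfl⟩
  have hPz : ∀ x ∈ (P : Subgroup G), IsPGroup 2 (Subgroup.zpowers x) := fun x hx =>
    P.2.to_le (Subgroup.zpowers_le.2 hx)
  haveI hKn' : Kn.Normal := by rw [hKn]; infer_instance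
  have hKQ : ∀ x ∈ (P : Subgroup G), ∀ hxN : x ∈ N, (⟨x, hxN⟩ : N) ∈ Kn → x ∈ Q := fun x hx hxN h =>
    hstar Kn le_rfl ⟨g₀, hg₀⟩ (fun y hy => hKn'.conj_mem y hy _) (by rwa [Subgroup.orderOf_mk])
      hg₀K ⟨x, hxN⟩ h (hPz x hx)
  have hPC : ∀ x ∈ (P : Subgroup G), x ∈ C → x ∈ Q := fun x hx hxC =>
    hKQ x hx (hCN hxC) (Subgroup.mem_sup_right (show x ∈ C from hxC))
  have hPQ : ∀ s ∈ (P : Subgroup G), ∀ u ∈ Q, s * u * s⁻¹ ∈ Q := by
    intro s hs u hu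
    have h1 : ⁅s, u⁆ ∈ Q := by
      refine hPC _ (Subgroup.mul_mem _ (Subgroup.mul_mem _ (Subgroup.mul_mem _ hs (hQP hu))
        (Subgroup.inv_mem _ hs)) (Subgroup.inv_mem _ (hQP hu))) ?_
      rw [hCdef, Subgroup.mem_centralizer_iff]
      exact fun w hw => (h2 s hs u (hQP hu) w (hQP hw)).symm
    have := Q.mul_mem h1 hu
    simpa [commutatorElement_def] using this
  have hPN : (P : Subgroup G) ≤ N := fun s hs => mem_normalizer_of_forall (hPQ s hs)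
  have hPQne : ∃ s ∈ (P : Subgroup G), s ∉ Q := by
    by_contra hc
    push Not at hc
    have he : Q = (P : Subgroup G) := le_antisymm hQP hc
    have hne : Q ≠ ⊥ := by
      intro h
      refine hg₀C ?_
      rw [hCdef, Subgroup.mem_centralizer_iff]
      intro q hq
      rw [h] at hq
      simp [Subgroup.mem_bot.1 hq]
    refine hg₀C ?_
    rw [hCdef, Subgroup.mem_centralizer_iff]
    exact fun q hq => (hN Q hne hQP (fun a x hx => hc _ (hPinv a x (hQP hx))) hPQ g₀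
      (fun x hx => conj_mem_of_mem_normalizer hg₀ hx) hg₀o q (hQP hq)).symm
  -- the quotient
  set π := QuotientGroup.mk' Kn with hπ
  have hker : ∀ x : N, π x = 1 ↔ x ∈ Kn := fun x => QuotientGroup.eq_one_iff x
  let PL : Sylow 2 (N ⧸ Kn) := (P.subtype hPN).mapSurjective (QuotientGroup.mk'_surjective Kn)
  have hPLmem : ∀ z, z ∈ (PL : Subgroup (N ⧸ Kn)) ↔
      ∃ s, ∃ hs : s ∈ (P : Subgroup G), π ⟨s, hPN hs⟩ = z := by
    intro z
    constructor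
    · rintro ⟨x, hx, rfl⟩
      exact ⟨x, hx, rfl⟩
    · rintro ⟨s, hs, rfl⟩
      exact ⟨⟨s, hPN hs⟩, hs, rfl⟩
  have hab : ∀ z ∈ (PL : Subgroup (N ⧸ Kn)), ∀ w ∈ (PL : Subgroup (N ⧸ Kn)), z * w = w * z := by
    intro z hz w hw
    obtain ⟨a, ha, rfl⟩ := (hPLmem z).1 hz
    obtain ⟨b, hb, rfl⟩ := (hPLmem w).1 hw
    rw [← comm_eq_one_iff, ← map_commutatorElement, hker]
    refine Subgroup.mem_sup_right (show ⁅(a : G), b⁆ ∈ C from ?_)
    rw [hCdef, Subgroup.mem_centralizer_iff]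
    exact fun w hw => (h2 a ha b hb w (hQP hw)).symm
  have hPL2 : IsPGroup 2 (PL : Subgroup (N ⧸ Kn)) := PL.2
  have hlift : ∀ γ : N ⧸ Kn, (orderOf γ).Coprime 2 → γ ≠ 1 → ∃ (g : N) (a : ℕ),
      (orderOf g).Coprime 2 ∧ π g = γ ^ 2 ^ a ∧ γ ^ 2 ^ a ≠ 1 := by
    intro γ hγo hγ1
    obtain ⟨g, rfl⟩ := QuotientGroup.mk'_surjective Kn γ
    obtain ⟨a, ha⟩ := exists_odd_power g
    refine ⟨g ^ 2 ^ a, a, ha, by rw [map_pow], fun h => hγ1 ?_⟩
    rw [← orderOf_eq_one_iff]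
    exact Nat.eq_one_of_dvd_coprimes (hγo.pow_right a) dvd_rfl (orderOf_dvd_of_pow_eq_one h)
  have hstarL : ∀ R : Subgroup (N ⧸ Kn), R ≤ PL → ∀ γ : N ⧸ Kn, (∀ x ∈ R, γ * x * γ⁻¹ ∈ R) →
      (orderOf γ).Coprime 2 → γ ≠ 1 → R = ⊥ := by
    intro R hR γ hγn hγo hγ1
    obtain ⟨g, a, hgo, hπg, hne⟩ := hlift γ hγo hγ1
    have hgn : π g ∈ Subgroup.normalizer (R : Set (N ⧸ Kn)) := by
      rw [hπg]
      exact Subgroup.pow_mem _ (mem_normalizer_of_forall hγn) _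
    have hgH : g ∉ R.comap π := fun h => hne (hπg ▸
      eq_one_of_odd_two (hgo.coprime_dvd_left (orderOf_map_dvd π g)) (hPL2.to_le hR) h)
    rw [Subgroup.eq_bot_iff_forall]
    intro z hz
    obtain ⟨s, hs, hsz⟩ := (hPLmem z).1 (hR hz)
    rw [← hsz, hker]
    refine Subgroup.mem_sup_left (show s ∈ Q from ?_)
    refine hstar (R.comap π) (fun x hx => ?_) g (fun x hx => ?_) hgo hgH ⟨s, hPN hs⟩
      (show π _ ∈ R by rwa [hsz]) (hPz s hs)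
    · rw [Subgroup.mem_comap, (hker x).2 hx]; exact one_mem R
    · rw [Subgroup.mem_comap, map_mul, map_mul, map_inv]
      exact conj_mem_of_mem_normalizer hgn hx
  have hPLne : (PL : Subgroup (N ⧸ Kn)) ≠ ⊥ := by
    obtain ⟨s, hs, hsQ⟩ := hPQne
    intro h
    refine hsQ (hKQ s hs (hPN hs) ((hker _).1 ?_))
    exact Subgroup.mem_bot.1 (h ▸ (hPLmem _).2 ⟨s, hs, rfl⟩)
  have hNC : Subgroup.normalizer ((PL : Subgroup (N ⧸ Kn)) : Set (N ⧸ Kn)) ≤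
      Subgroup.centralizer ((PL : Subgroup (N ⧸ Kn)) : Set (N ⧸ Kn)) := by
    intro γ hγ
    obtain ⟨a, ha⟩ := exists_odd_power γ
    have h1 : γ ^ 2 ^ a = 1 := by
      by_contra h
      exact hPLne (hstarL _ le_rfl _ (fun x hx =>
        conj_mem_of_mem_normalizer (Subgroup.pow_mem _ hγ _) hx) ha h)
    have hγp : IsPGroup 2 (Subgroup.zpowers γ) := by
      obtain ⟨k, -, hk⟩ := (Nat.dvd_prime_pow Nat.prime_two).1 (orderOf_dvd_of_pow_eq_one h1)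
      exact IsPGroup.of_card (n := k) (by rw [Nat.card_zpowers, hk])
    have hγP : γ ∈ (PL : Subgroup (N ⧸ Kn)) := by
      have := hγp.inf_normalizer_sylow PL
      exact ((Subgroup.mem_inf (p := Subgroup.zpowers γ)).1
        (this ▸ ⟨Subgroup.mem_zpowers γ, hγ⟩)).2
    rw [Subgroup.mem_centralizer_iff]
    exact fun z hz => hab z hz γ hγP
  obtain ⟨F, hFdef⟩ : ∃ F, F = (MonoidHom.transferSylow PL hNC).ker := ⟨_, rfl⟩
  have hFc : F.IsComplement' (PL : Subgroup (N ⧸ Kn)) :=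
    hFdef ▸ MonoidHom.ker_transferSylow_isComplement' PL hNC
  have hFodd : ∀ x ∈ F, (orderOf x).Coprime 2 := by
    intro x hx
    refine Nat.Coprime.coprime_dvd_left (Subgroup.orderOf_dvd_natCard F hx) ?_
    exact ((Nat.prime_two.coprime_iff_not_dvd).2
      (hFdef ▸ MonoidHom.not_dvd_card_ker_transferSylow PL hNC)).symm
  haveI hFn : F.Normal := by rw [hFdef]; infer_instance
  obtain ⟨f, hfF, hf1⟩ : ∃ f ∈ F, f ≠ 1 := by
    by_contra hc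
    push Not at hc
    have hF : F = ⊥ := (Subgroup.eq_bot_iff_forall F).2 hc
    rw [hF, Subgroup.isComplement'_bot_left] at hFc
    refine hg₀K ((hker _).1 (eq_one_of_odd_two ?_ hPL2 (hFc ▸ Subgroup.mem_top _)))
    refine Nat.Coprime.coprime_dvd_left (orderOf_map_dvd π _) ?_
    rwa [Subgroup.orderOf_mk]
  obtain ⟨y, a, hyo, hπy, hya⟩ := hlift f (hFodd f hfF) hf1
  have hπyF : π y ∈ F := hπy ▸ F.pow_mem hfF _
  have hπy1 : π y ≠ 1 := hπy ▸ hya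
  have hyC : (y : G) ∉ C := fun h =>
    hπy1 ((hker y).2 (Subgroup.mem_sup_right (show (y : G) ∈ C from h)))
  -- elements of `PL` other than one act fixed point freely on `F`
  have hfpf : ∀ z ∈ (PL : Subgroup (N ⧸ Kn)), z ≠ 1 → ∀ x ∈ F, x * z = z * x → x = 1 := by
    intro z hz hz1 x hx hxz
    by_contra h
    apply hz1
    have hb := hstarL (Subgroup.zpowers z) (Subgroup.zpowers_le.2 hz) x ?_ (hFodd x hx) h
    · exact Subgroup.zpowers_eq_bot.1 hb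
    · rintro _ ⟨i, rfl⟩
      have hc : Commute x (z ^ i) := (show Commute x z from hxz).zpow_right i
      show x * z ^ i * x⁻¹ ∈ _
      rw [hc.eq, mul_inv_cancel_right]
      exact Subgroup.zpow_mem _ (Subgroup.mem_zpowers z) i
  have hinv : ∀ z ∈ (PL : Subgroup (N ⧸ Kn)), z ≠ 1 → z * z = 1 → z * π y * z⁻¹ = (π y)⁻¹ := by
    intro z hz hz1 hzz
    let D : F → F := fun x => ⟨z * x * z⁻¹ * (x : N ⧸ Kn)⁻¹,
      F.mul_mem (hFn.conj_mem _ x.2 _) (F.inv_mem x.2)⟩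
    have hinj : Function.Injective D := by
      intro x x' hxx
      have h : z * x * z⁻¹ * (x : N ⧸ Kn)⁻¹ = z * x' * z⁻¹ * (x' : N ⧸ Kn)⁻¹ :=
        congrArg Subtype.val hxx
      have h1 := hfpf z hz hz1 _ (F.mul_mem (F.inv_mem x'.2) x.2) ?_
      · exact Subtype.ext (inv_mul_eq_one.1 h1).symm
      · generalize (x : N ⧸ Kn) = u at h
        generalize (x' : N ⧸ Kn) = v at h
        calc v⁻¹ * u * z
            = v⁻¹ * ((z * u * z⁻¹ * u⁻¹)⁻¹ * (z * u)) := by group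
          _ = v⁻¹ * ((z * v * z⁻¹ * v⁻¹)⁻¹ * (z * u)) := by rw [h]
          _ = z * (v⁻¹ * u) := by group
    obtain ⟨⟨x, hx⟩, hxy⟩ := (Finite.injective_iff_surjective.1 hinj) ⟨π y, hπyF⟩
    have hxy' : z * x * z⁻¹ * x⁻¹ = π y := congrArg Subtype.val hxy
    have hzi : z⁻¹ = z := inv_eq_of_mul_eq_one_left hzz
    rw [← hxy', hzi]
    calc z * (z * x * z * x⁻¹) * z = (z * z) * x * z * x⁻¹ * z := by group
      _ = x * z * x⁻¹ * z⁻¹ := by rw [hzz, one_mul, hzi]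
      _ = x * z⁻¹ * x⁻¹ * z⁻¹ := by rw [hzi]
      _ = (z * x * z * x⁻¹)⁻¹ := by group
  have hdata : ∀ s, ∀ hs : s ∈ (P : Subgroup G), π ⟨s, hPN hs⟩ ≠ 1 →
      π ⟨s, hPN hs⟩ * π ⟨s, hPN hs⟩ = 1 →
      ∃ q ∈ Q, ∃ c ∈ C, s * (y : G) * s⁻¹ * y = q * c := by
    intro s hs h1 h2'
    refine hKmem (⟨s, hPN hs⟩ * y * ⟨s, hPN hs⟩⁻¹ * y) ((hker _).1 ?_)
    rw [map_mul, map_mul, map_mul, map_inv, hinv _ ((hPLmem _).2 ⟨s, hs, rfl⟩) h1 h2',
      inv_mul_cancel]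
  -- the exponent is two
  have hexp : ∀ z ∈ (PL : Subgroup (N ⧸ Kn)), z * z = 1 := by
    by_contra hc
    push Not at hc
    obtain ⟨z, hz, hzz⟩ := hc
    obtain ⟨k, hk⟩ := IsPGroup.iff_orderOf.1 hPL2 ⟨z, hz⟩
    rw [Subgroup.orderOf_mk] at hk
    obtain ⟨j, rfl⟩ : ∃ j, k = j + 2 := by
      refine ⟨k - 2, ?_⟩
      by_contra h
      refine hzz ?_
      rw [← pow_two]
      refine orderOf_dvd_iff_pow_eq_one.1 ?_
      rw [hk, show (2 : ℕ) = 2 ^ 1 from rfl]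
      exact pow_dvd_pow 2 (by omega)
    obtain ⟨s, hs, hsz⟩ := (hPLmem _).1 (pow_mem hz (2 ^ j))
    have hzne : z ^ 2 ^ j * z ^ 2 ^ j ≠ 1 := by
      rw [← pow_add, ← two_mul, ← pow_succ']
      intro h
      have hd := orderOf_dvd_of_pow_eq_one h
      rw [hk, Nat.pow_dvd_pow_iff_le_right (by norm_num)] at hd
      omega
    have hss : π ⟨s * s, hPN (Subgroup.mul_mem _ hs hs)⟩ = z ^ 2 ^ j * z ^ 2 ^ j := by
      rw [← hsz]; exact map_mul π ⟨s, hPN hs⟩ ⟨s, hPN hs⟩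
    have hz4 : z ^ 2 ^ j * z ^ 2 ^ j * (z ^ 2 ^ j * z ^ 2 ^ j) = 1 := by
      rw [← pow_add, ← pow_add]
      refine orderOf_dvd_iff_pow_eq_one.1 ?_
      rw [hk, pow_add]
      exact Dvd.intro 1 (by ring)
    obtain ⟨T, hTQ, hTc, hTsq, -, -, -, -, -, t, ht, hne⟩ :=
      exists_T h2 hQ2 hQP hPQ y.2 (by rwa [Subgroup.orderOf_coe]) hyC (Subgroup.mul_mem _ hs hs)
        (hdata (s * s) (Subgroup.mul_mem _ hs hs) (hss ▸ hzne) (hss ▸ hz4))
    apply hne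
    have htP := hQP (hTQ ht)
    rw [← comm_eq_one_iff, comm_mul_left h2 hs hs htP, ← comm_mul_right h2 hs htP htP, hTsq t ht,
      commutatorElement_one_right]
  have hne1 : ∀ s, ∀ hs : s ∈ (P : Subgroup G), s ∉ Q → π ⟨s, hPN hs⟩ ≠ 1 :=
    fun s hs hsQ h => hsQ (hKQ s hs (hPN hs) ((hker _).1 h))
  have htwo : ∀ b ∈ (P : Subgroup G), ∀ b' ∈ (P : Subgroup G), b ∉ Q → b' ∉ Q → b * b' ∈ Q := by
    intro b hb b' hb' nb nb'
    by_contra hbb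
    have hm := (hPLmem _).2 ⟨b, hb, rfl⟩
    have hm' := (hPLmem _).2 ⟨b', hb', rfl⟩
    have h1 := hinv _ hm (hne1 b hb nb) (hexp _ hm)
    have h1' := hinv _ hm' (hne1 b' hb' nb') (hexp _ hm')
    have h2' := hne1 _ (Subgroup.mul_mem _ hb hb') hbb
    refine hπy1 (hfpf _ ((hPLmem _).2 ⟨_, Subgroup.mul_mem _ hb hb', rfl⟩) h2' _ hπyF ?_)
    rw [show π ⟨b * b', hPN (Subgroup.mul_mem _ hb hb')⟩ = π ⟨b, hPN hb⟩ * π ⟨b', hPN hb'⟩ from
      map_mul π ⟨b, hPN hb⟩ ⟨b', hPN hb'⟩]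
    generalize π ⟨b, hPN hb⟩ = u at h1
    generalize π ⟨b', hPN hb'⟩ = v at h1'
    generalize π y = w at h1 h1'
    have e1 : u * w⁻¹ * u⁻¹ = w := by rw [← conj_inv, h1, inv_inv]
    symm
    calc u * v * w = u * (v * w * v⁻¹) * u⁻¹ * (u * v) := by group
      _ = w * (u * v) := by rw [h1', e1]
  obtain ⟨s, hs, hsQ⟩ := hPQne
  obtain ⟨T, hTQ, hTc, hTsq, hfixT, hfixSq, hfixC, hmove, hnrm, t, ht, hne⟩ :=
    exists_T h2 hQ2 hQP hPQ y.2 (by rwa [Subgroup.orderOf_coe]) hyC hs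
      (hdata s hs (hne1 s hs hsQ) (hexp _ ((hPLmem _).2 ⟨s, hs, rfl⟩)))
  refine orbit_false hA φ hPinv h2 hN (Q := Q) (T := T) (y := (y : G))
    ⟨hQP, hTQ, hTc, htwo, ?_, ?_, hTsq, hfixT, hfixSq, hfixC, hmove,
      by rwa [Subgroup.orderOf_coe], ⟨t, ht, fun h => hne (by rw [h, mul_one, one_mul])⟩⟩
  · intro x hx hcomm
    by_contra hxQ
    apply hne
    have h1 := hcomm t ht
    have h2' := hTc t ht _ (htwo s hs x hx hsQ hxQ)
    calc s * t = s * (t * x) * x⁻¹ := by group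
      _ = s * x * t * x⁻¹ := by rw [h1]; group
      _ = t * (s * x) * x⁻¹ := by rw [← h2']
      _ = t * s := by group
  · intro x hx u hu
    by_cases hxQ : x ∈ Q
    · rwa [← hTc u hu x hxQ, mul_inv_cancel_right]
    have h1 : s⁻¹ * u * s⁻¹⁻¹ ∈ T :=
      conj_mem_of_mem_normalizer (Subgroup.inv_mem _ (mem_normalizer_of_forall hnrm)) hu
    have hq := htwo s hs x hx hsQ hxQ
    have h2' : s * x * u * (s * x)⁻¹ = u := by rw [← hTc u hu _ hq, mul_inv_cancel_right]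
    rw [show x * u * x⁻¹ = s⁻¹ * (s * x * u * (s * x)⁻¹) * s⁻¹⁻¹ by group, h2']
    exact h1

end CfsgLib.FTCons.ClassTwoBad
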