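import Cfsg.Agent.Lib.CommGen.Main
import Cfsg.Agent.Lib.FTCons.Basic

/-!
Statement S1329 modulo the Odd Order Theorem.
-/

set_option autoImplicit false

namespace CfsgLib.FTCons

open Subgroup CfsgLib.CommGen CfsgLib.Structure

universe u

theorem commutator_fixed_points_generation (hFT : OddSolvable.{u}) {G : Type u} [Group G] [Finite G]
    (A B Y : Subgroup G) (hA2 : IsPGroup 2 ↥A) (hAc : IsMulCommutative ↥A) (hB : B ≤ A)
    (hYodd : Odd (Nat.card ↥Y)) (hAY : A ≤ Subgroup.normalizer (Y : Set G)) (hYA : ⁅Y, A⁆ = Y) :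
    Y ⊓ Subgroup.centralizer (B : Set G) =
      ⨆ B₀ : {B₀ : Subgroup G // B₀ ≤ B ∧
          ∀ [(B₀.subgroupOf B).Normal], IsCyclic (↥B ⧸ B₀.subgroupOf B)},
        Y ⊓ Subgroup.centralizer (B : Set G) ⊓
          ⁅Y ⊓ Subgroup.centralizer ((B₀ : Subgroup G) : Set G), A⁆ := by
  haveI : Fact (Nat.Prime 2) := ⟨Nat.prime_two⟩
  haveI := hAc
  refine le_antisymm ?_ (iSup_le fun _ => inf_le_left)
  have hcop : (Nat.card A).Coprime (Nat.card Y) := by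
    obtain ⟨k, hk⟩ := IsPGroup.iff_card.1 hA2
    rw [hk]
    exact Nat.Coprime.pow_left k ((Nat.Prime.coprime_iff_not_dvd Nat.prime_two).2
      hYodd.not_two_dvd_nat)
  refine (le_gen_aux _ G A B Y hB hAY hcop (hFT Y hYodd) hYA rfl).trans
    (iSup₂_le fun B₀ hB₀ => ?_)
  obtain ⟨hle, b, hb, he⟩ := hB₀
  refine le_iSup_of_le ⟨B₀, hle, ?_⟩ le_rfl
  intro _
  refine ⟨⟨QuotientGroup.mk ⟨b, hb⟩, fun q => ?_⟩⟩
  obtain ⟨⟨x, hx⟩, rfl⟩ := QuotientGroup.mk_surjective q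
  have hn : zpowers b ≤ normalizer (B₀ : Set G) :=
    (zpowers_le.2 (hB hb)).trans (le_normalizer_of_abelian (hle.trans hB))
  have hx' : x ∈ zpowers b ⊔ B₀ := by rw [sup_comm, he]; exact hx
  obtain ⟨z, hz, u, hu, rfl⟩ := CfsgLib.Coprime.exists_mul_of_mem_sup hn hx'
  obtain ⟨k, rfl⟩ := mem_zpowers_iff.1 hz
  refine ⟨k, ?_⟩
  show QuotientGroup.mk _ ^ k = _
  rw [← QuotientGroup.mk_zpow]
  refine QuotientGroup.eq.2 ?_
  rw [mem_subgroupOf]
  simpa using hu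

end CfsgLib.FTCons
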