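import Mathlib
import Cfsg.Agent.Lib.FTCons.Basic
import Cfsg.Agent.Lib.Components.Basic

/-!
A group whose cyclic subgroups of equal prime power order are conjugate has at most one component,
given that groups of odd order are solvable.
-/

set_option autoImplicit false

namespace CfsgLib.FTCons

open Subgroup

universe u

variable {G : Type u} [Group G] [Finite G]

/-- In a quasisimple subgroup there is a non-central element of 2-power order whose square is central. -/
theorem exists_two_element (hFT : OddSolvable.{u}) {K : Subgroup G} (hK : Cfsg.IsQuasisimple K) :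
    ∃ (x : G) (a : ℕ), x ∈ K ∧ x ∉ centralizer (K : Set G) ∧ orderOf x = 2 ^ (a + 1) ∧
      x ^ 2 ∈ centralizer (K : Set G) := by
  classical
  haveI : Fact (Nat.Prime 2) := ⟨Nat.prime_two⟩
  have hex : ∃ a : ℕ, ∃ x : G, x ∈ K ∧ x ∉ centralizer (K : Set G) ∧ x ^ 2 ^ a = 1 := by
    by_contra hcon
    simp only [not_exists, not_and] at hcon
    obtain ⟨Q⟩ : Nonempty (Sylow 2 K) := inferInstance
    have hQ : (Q : Subgroup K) ≤ center K := fun q hq => by
      obtain ⟨i, hi⟩ := Q.2 ⟨q, hq⟩
      by_contra hqc
      refine hcon i q q.2 (fun hc => hqc (mem_center_iff.2 fun y => Subtype.ext ?_))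
        (congrArg Subtype.val (congrArg Subtype.val hi))
      exact mem_centralizer_iff.1 hc y y.2
    have hodd : Odd (Nat.card (K ⧸ center K)) := by
      rw [← Subgroup.index_eq_card]
      exact (Nat.not_even_iff_odd.1 fun h => Q.not_dvd_index h.two_dvd).of_dvd_nat
        (index_dvd_of_le hQ)
    haveI := hFT _ hodd
    haveI := hK.2
    have hp := CfsgLib.Components.quasisimple_commutator_eq_top hK
    haveI : Group.IsSolvable (center K) := Group.isSolvable_of_comm fun a b =>
      Subtype.ext (mem_center_iff.1 b.2 a)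
    haveI : Group.IsSolvable K := by
      refine Group.isSolvable_of_ker_le_range (center K).subtype (QuotientGroup.mk' (center K)) ?_
      rw [QuotientGroup.ker_mk', range_subtype]
    exact CfsgLib.Components.quasisimple_not_isSolvable hK ‹_›
  obtain ⟨x, hxK, hxc, hx⟩ := Nat.find_spec hex
  obtain ⟨i, hi, hio⟩ := (Nat.dvd_prime_pow Nat.prime_two).1 (orderOf_dvd_of_pow_eq_one hx)
  rcases i with _ | a
  · rw [pow_zero, orderOf_eq_one_iff] at hio
    exact absurd (hio ▸ one_mem _) hxc
  refine ⟨x, a, hxK, hxc, hio, ?_⟩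
  by_contra h2
  have : x ^ 2 ^ a ^ 1 = x ^ 2 ^ a := by rw [pow_one]
  exact Nat.find_min hex (show a < Nat.find hex by omega)
    ⟨x ^ 2, pow_mem hxK 2, h2, by rw [← pow_mul, ← pow_succ', ← hio, pow_orderOf_eq_one]⟩

/-- An element `x * y` with `x`, `y` non-central in distinct components lies in no component and does
not centralize the layer. -/
theorem mul_not_mem {K L : Subgroup G} (hK : Cfsg.IsComponent K) (hL : Cfsg.IsComponent L)
    (hKL : K ≠ L) {x y : G} (hx : x ∈ K) (hxc : x ∉ centralizer (K : Set G)) (hy : y ∈ L)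
    (hyc : y ∉ centralizer (L : Set G)) :
    (∀ M : Subgroup G, Cfsg.IsComponent M → x * y ∉ M) ∧
      x * y ∉ centralizer (Cfsg.layer G : Set G) := by
  have hyK : y ∈ centralizer (K : Set G) :=
    CfsgLib.Components.le_centralizer_of_commutator_eq_bot
      (CfsgLib.Components.commutator_components_eq_bot hL hK hKL.symm) hy
  have hxL : x ∈ centralizer (L : Set G) :=
    CfsgLib.Components.le_centralizer_of_commutator_eq_bot
      (CfsgLib.Components.commutator_components_eq_bot hK hL hKL) hx
  have h1 : x * y ∉ centralizer (K : Set G) := fun h =>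
    hxc (by simpa using mul_mem h (inv_mem hyK))
  have h2 : x * y ∉ centralizer (L : Set G) := fun h =>
    hyc (by simpa using mul_mem (inv_mem hxL) h)
  refine ⟨fun M hM h => ?_, fun h => h1 (centralizer_le (SetLike.coe_subset_coe.2
    (CfsgLib.Components.component_le_layer hK)) h)⟩
  by_cases hMK : M = K
  · subst hMK
    exact h2 (CfsgLib.Components.le_centralizer_of_commutator_eq_bot
      (CfsgLib.Components.commutator_components_eq_bot hM hL hKL) h)
  · exact h1 (CfsgLib.Components.le_centralizer_of_commutator_eq_bot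
      (CfsgLib.Components.commutator_components_eq_bot hM hK hMK) h)

theorem layer_simple_quotient (hFT : OddSolvable.{u})
    (hP : ∀ (p : ℕ), p.Prime → ∀ A B : Subgroup G, IsCyclic A → IsCyclic B → IsPGroup p A →
      Nat.card A = Nat.card B → ∃ g : G, B = A.map (MulAut.conj g).toMonoidHom)
    (hE : Cfsg.layer G ≠ ⊥) :
    IsSimpleGroup (Cfsg.layer G ⧸ center (Cfsg.layer G)) ∧
      ¬ IsMulCommutative (Cfsg.layer G ⧸ center (Cfsg.layer G)) := by
  haveI : Fact (Nat.Prime 2) := ⟨Nat.prime_two⟩
  obtain ⟨K, hK⟩ : ∃ K : Subgroup G, Cfsg.IsComponent K := by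
    by_contra hcon
    simp only [not_exists, not_and] at hcon
    exact hE (le_bot_iff.1 (sSup_le fun K hK => (hcon K hK).elim))
  have huniq : ∀ L : Subgroup G, Cfsg.IsComponent L → L = K := by
    intro L hL
    by_contra hne
    obtain ⟨x, a, hx, hxc, hxo, hx2⟩ := exists_two_element hFT hK.2
    obtain ⟨y, b, hy, hyc, hyo, hy2⟩ := exists_two_element hFT hL.2
    wlog hab : a ≤ b generalizing K L x y a b
    · exact this L hL K hK (Ne.symm hne) y b hy hyc hyo hy2 x a hx hxc hxo hx2 (le_of_not_ge hab)
    obtain ⟨hnM, hnC⟩ := mul_not_mem hK hL (Ne.symm hne) hx hxc hy hyc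
    have hcomm : Commute x y := CfsgLib.Components.commute_of_commutator_eq_bot
      (CfsgLib.Components.commutator_components_eq_bot hK hL (Ne.symm hne)) hx hy
    obtain ⟨c, hcb, hc⟩ := (Nat.dvd_prime_pow Nat.prime_two).1
      (orderOf_dvd_of_pow_eq_one (x := x * y) (n := 2 ^ (b + 1)) (by
        rw [hcomm.mul_pow, ← hyo, pow_orderOf_eq_one, mul_one, hyo,
          ← orderOf_dvd_iff_pow_eq_one, hxo]
        exact Nat.pow_dvd_pow 2 (by omega)))
    have hp : ∀ (g : G) (n : ℕ), orderOf g = 2 ^ n → IsPGroup 2 (zpowers g) := fun g n h =>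
      IsPGroup.of_card (n := n) (by rw [Nat.card_zpowers, h])
    rcases eq_or_lt_of_le hcb with hcb | hcb
    · -- same order as `y`
      obtain ⟨g, hg⟩ := hP 2 Nat.prime_two (zpowers y) (zpowers (x * y)) inferInstance inferInstance
        (hp y _ hyo) (by rw [Nat.card_zpowers, Nat.card_zpowers, hc, hyo, hcb])
      refine hnM _ (CfsgLib.Components.isComponent_conj g hL) ?_
      have h := hg ▸ mem_zpowers (x * y)
      exact map_mono (zpowers_le.2 hy) h
    · -- smaller order than `y`
      have hab' : a = b := by
        by_contra hne'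
        have h1 : (x * y) ^ 2 ^ b = 1 := by
          rw [← orderOf_dvd_iff_pow_eq_one, hc]; exact Nat.pow_dvd_pow 2 (by omega)
        have h2 : x ^ 2 ^ b = 1 := by
          rw [← orderOf_dvd_iff_pow_eq_one, hxo]; exact Nat.pow_dvd_pow 2 (by omega)
        rw [hcomm.mul_pow, h2, one_mul, ← orderOf_dvd_iff_pow_eq_one, hyo] at h1
        exact absurd (Nat.le_of_dvd (by positivity) h1)
          (not_le.2 (Nat.pow_lt_pow_right one_lt_two (by omega)))
      set z := x ^ 2 ^ (a + 1 - c) with hz
      have hzo : orderOf z = 2 ^ c := by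
        rw [hz, orderOf_pow' _ (by positivity), hxo,
          Nat.gcd_eq_right (Nat.pow_dvd_pow 2 (by omega)), Nat.pow_div (by omega) two_pos]
        congr 1
        omega
      have hzC : z ∈ centralizer (Cfsg.layer G : Set G) := by
        have hzK : z ∈ centralizer (K : Set G) := by
          obtain ⟨d, hd⟩ : ∃ d, a + 1 - c = d + 1 := ⟨a - c, by omega⟩
          rw [hz, hd, pow_succ', pow_mul]
          exact pow_mem hx2 _
        rw [mem_centralizer_iff]
        intro e he
        refine (mem_centralizer_iff.1 (show e ∈ centralizer ({z} : Set G) from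
          (sSup_le fun M hM => ?_ : Cfsg.layer G ≤ centralizer ({z} : Set G)) he) z rfl).symm
        intro m hm
        rw [mem_centralizer_singleton_iff]
        by_cases hMK : M = K
        · exact (mem_centralizer_iff.1 hzK m (hMK ▸ hm))
        · exact (CfsgLib.Components.commute_of_commutator_eq_bot
            (CfsgLib.Components.commutator_components_eq_bot hM hK hMK) hm (pow_mem hx _))
      obtain ⟨g, hg⟩ := hP 2 Nat.prime_two (zpowers z) (zpowers (x * y)) inferInstance inferInstance
        (hp z _ hzo) (by rw [Nat.card_zpowers, Nat.card_zpowers, hc, hzo])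
      refine hnC ?_
      haveI : (Cfsg.layer G).Normal := inferInstance
      have h := hg ▸ mem_zpowers (x * y)
      have h2 := map_mono (f := (MulAut.conj g).toMonoidHom) (zpowers_le.2 hzC) h
      obtain ⟨m, hm, hme⟩ := h2
      rw [← hme]
      exact (inferInstance : (centralizer (Cfsg.layer G : Set G)).Normal).conj_mem m hm g
  have hlay : Cfsg.layer G = K :=
    le_antisymm (sSup_le fun L hL => (huniq L hL).le) (CfsgLib.Components.component_le_layer hK)
  rw [hlay]
  haveI := hK.2.2
  refine ⟨hK.2.2, fun hcom => ?_⟩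
  haveI : Group.IsSolvable (K ⧸ center K) := Group.isSolvable_of_comm fun a b => hcom.1.1 a b
  haveI : Group.IsSolvable (center K) := Group.isSolvable_of_comm fun a b =>
    Subtype.ext (mem_center_iff.1 b.2 a)
  haveI : Group.IsSolvable K :=
    Group.isSolvable_of_ker_le_range (center K).subtype (QuotientGroup.mk' (center K))
      (by rw [QuotientGroup.ker_mk', range_subtype])
  exact CfsgLib.Components.component_not_isSolvable hK ‹_›

end CfsgLib.FTCons
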