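import Cfsg.Agent.Lib.LBalance.Components
import Cfsg.Agent.Lib.FTCons.OneComponent

/-!
The position of a component of the centralizer of an involution (statement S1322), given that groups of
odd order are solvable.
-/

set_option autoImplicit false

namespace CfsgLib.FTCons

open Subgroup CfsgLib.Components CfsgLib.Tech46 CfsgLib.LBalance
open scoped commutatorElement

universe u

variable {G : Type u} [Group G] [Finite G]

theorem component_trichotomy (hFT : OddSolvable.{u}) (hL2 : Cfsg.pLayer 2 G = Cfsg.layer G) (t : G)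
    (ht : orderOf t = 2) (L : Subgroup G) (hLt : L ≤ centralizer ({t} : Set G))
    (hL : Cfsg.IsComponent (L.subgroupOf (centralizer ({t} : Set G)))) :
    ∃ D : Subgroup G, Cfsg.IsComponent D ∧ (L = D ∨ (L < D ∧ D = ⁅D, zpowers t⁆) ∨
      (D.map (MulAut.conj t).toMonoidHom ≠ D ∧
        L = (Cfsg.layer ↥((D ⊔ D.map (MulAut.conj t).toMonoidHom) ⊓ centralizer ({t} : Set G))).map
          ((D ⊔ D.map (MulAut.conj t).toMonoidHom) ⊓ centralizer ({t} : Set G)).subtype)) := by
  set C := centralizer ({t} : Set G) with hC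
  have ht2 : t * t = 1 := by rw [← pow_two, ← ht, pow_orderOf_eq_one]
  -- components of `C` have even order
  have heven : ∀ K : Subgroup G, K ≤ C → Cfsg.IsComponent (K.subgroupOf C) → K ≤ Cfsg.layer G := by
    intro K hKC hK
    rw [← hL2]
    refine component_le_layer_of_even ht2 hKC hK ?_
    obtain ⟨x, a, hxK, -, hx, -⟩ :=
      exists_two_element hFT (isQuasisimple_of_mulEquiv hK.2 (subgroupOfEquivOfLe hKC))
    have h1 : orderOf (⟨x, hxK⟩ : K) ∣ Nat.card K := orderOf_dvd_natCard _
    rw [← Subgroup.orderOf_coe] at h1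
    exact (Dvd.intro_left (2 ^ a) rfl : 2 ∣ 2 ^ a * 2).trans (by rwa [← pow_succ, ← hx])
  obtain ⟨D, hD, hcase⟩ := component_cases ht2 hLt hL (heven L hLt hL)
  refine ⟨D, hD, ?_⟩
  rcases hcase with ⟨htD, hLD⟩ | ⟨hne, h, hdiag⟩
  · by_cases hDL : L = D
    · exact Or.inl hDL
    refine Or.inr (Or.inl ⟨lt_of_le_of_ne hLD hDL, (component_eq_commutator_zpowers hD htD ?_).symm⟩)
    intro hDC
    have hDcomp : Cfsg.IsComponent (D.subgroupOf C) :=
      ⟨hD.1.comap C.subtype, isQuasisimple_of_mulEquiv hD.2 (subgroupOfEquivOfLe hDC).symm⟩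
    obtain h1 | h1 := component_eq_or_commutator_of_subnormal hDcomp hL.1 (fun x hx => hLD hx)
    · exact hDL (le_antisymm hLD fun x hx => h1.ge (show (⟨x, hDC hx⟩ : C) ∈ D.subgroupOf C from hx))
    · apply quasisimple_not_isMulCommutative (isQuasisimple_of_mulEquiv hL.2 (subgroupOfEquivOfLe hLt))
      rw [← le_centralizer_iff_isMulCommutative]
      intro x hx
      rw [mem_centralizer_iff]
      intro y hy
      exact congrArg Subtype.val (mem_centralizer_iff.mp ((commutator_eq_bot_iff_le_centralizer.mp h1)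
        (show (⟨x, hLt hx⟩ : C) ∈ D.subgroupOf C from hLD hx)) ⟨y, hLt hy⟩ hy)
  refine Or.inr (Or.inr ⟨hne, ?_⟩)
  set Da := D.map (MulAut.conj t).toMonoidHom with hDa
  set M := D ⊔ Da with hM
  set N := M ⊓ C with hN
  have hDaD : Da ≤ centralizer (D : Set G) :=
    le_centralizer_of_commutator_eq_bot (commutator_components_eq_bot (isComponent_conj t hD) hD hne)
  have hMn : M ≤ normalizer (D : Set G) :=
    sup_le le_normalizer (hDaD.trans (centralizer_le_normalizer _))
  have hLN : L ≤ N := by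
    refine le_inf ?_ hLt
    rw [hdiag]
    rintro _ ⟨x, rfl⟩
    exact mul_mem_sup x.2 ⟨x, x.2, rfl⟩
  have hMs : M.IsSubnormal := by
    haveI hEn : (Cfsg.layer G).Normal := inferInstance
    refine IsSubnormal.step _ _ (sup_le (component_le_layer hD) (component_le_layer (isComponent_conj t hD)))
      hEn.isSubnormal (normal_subgroupOf_of_le_normalizer ?_)
    intro x hx
    rw [mem_normalizer_iff_map_conj_eq, hM, Subgroup.map_sup,
      mem_normalizer_iff_map_conj_eq.mp (layer_le_normalizer_component hD hx),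
      mem_normalizer_iff_map_conj_eq.mp (layer_le_normalizer_component (isComponent_conj t hD) hx)]
  -- a component of `N` is `L`
  have hLcomp : Cfsg.IsComponent (L.subgroupOf N) :=
    ⟨hL.1.comap (inclusion (inf_le_right : N ≤ C)),
      isQuasisimple_of_mulEquiv hL.2 ((subgroupOfEquivOfLe hLt).trans (subgroupOfEquivOfLe hLN).symm)⟩
  refine le_antisymm ?_ ?_
  · intro x hx
    exact ⟨⟨x, hLN hx⟩, component_le_layer hLcomp hx, rfl⟩
  rw [Cfsg.layer, Subgroup.map_le_iff_le_comap]
  refine sSup_le fun K hK => ?_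
  by_contra hKL
  have hneK : K ≠ L.subgroupOf N := fun e => hKL fun x hx => (e.le hx : _)
  have hcomm := le_centralizer_of_commutator_eq_bot (commutator_components_eq_bot hK hLcomp hneK)
  apply quasisimple_not_isMulCommutative hK.2
  rw [← le_centralizer_iff_isMulCommutative]
  -- `K` is central in `M`
  intro k hk
  have hkM : (k : G) ∈ M := k.2.1
  have hkt : (k : G) * t = t * k := mem_centralizer_singleton_iff.mp k.2.2
  have hkL : ∀ l ∈ L, l * (k : G) = k * l := fun l hl =>
    congrArg Subtype.val (mem_centralizer_iff.mp (hcomm hk) ⟨l, hLN hl⟩ hl)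
  have hkD : (k : G) ∈ centralizer (D : Set G) := by
    refine mem_centralizer_of_component_mod_center hD fun x hx => ?_
    have hkN : (k : G) ∈ normalizer (D : Set G) := hMn hkM
    refine ⟨D.mul_mem ((mem_normalizer_iff.mp hkN x).mp hx) (D.inv_mem hx), ?_⟩
    have hkNa : (k : G) ∈ normalizer (Da : Set G) := by
      rw [mem_normalizer_iff_map_conj_eq, hDa, Subgroup.map_map]
      have e : (MulAut.conj (k : G)).toMonoidHom.comp (MulAut.conj t).toMonoidHom =
          (MulAut.conj t).toMonoidHom.comp (MulAut.conj (k : G)).toMonoidHom := by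
        ext z
        simp only [MonoidHom.comp_apply, MulEquiv.coe_toMonoidHom, MulAut.conj_apply]
        calc (k : G) * (t * z * t⁻¹) * (k : G)⁻¹ = (k * t) * z * (k * t)⁻¹ := by group
          _ = (t * k) * z * (t * k)⁻¹ := by rw [hkt]
          _ = _ := by group
      show D.map ((MulAut.conj (k : G)).toMonoidHom.comp (MulAut.conj t).toMonoidHom) = _
      rw [e, ← Subgroup.map_map]
      exact congrArg _ (mem_normalizer_iff_map_conj_eq.mp hkN)
    have hxa : t * x * t⁻¹ ∈ Da := ⟨x, hx, rfl⟩
    have hl : x * (t * x * t⁻¹) ∈ L := by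
      rw [hdiag]; exact ⟨⟨x, hx⟩, rfl⟩
    have h1 := hkL _ hl
    have e : ⁅(k : G), x⁆ = x * ((t * x * t⁻¹) * (k * (t * x * t⁻¹)⁻¹ * (k : G)⁻¹)) * x⁻¹ := by
      calc ⁅(k : G), x⁆ = k * (x * (t * x * t⁻¹)) * (t * x * t⁻¹)⁻¹ * (k : G)⁻¹ * x⁻¹ := by
            rw [commutatorElement_def]; group
        _ = x * (t * x * t⁻¹) * k * (t * x * t⁻¹)⁻¹ * (k : G)⁻¹ * x⁻¹ := by rw [h1]
        _ = _ := by group
    show ⁅(k : G), x⁆ ∈ centralizer (D : Set G)
    rw [e]
    exact (mem_normalizer_iff.mp (normalizer_le_normalizer_centralizer' D (le_normalizer hx)) _).mp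
      (hDaD (mul_mem hxa ((mem_normalizer_iff.mp hkNa _).mp (inv_mem hxa))))
  have hkDa : (k : G) ∈ centralizer (Da : Set G) := by
    rw [mem_centralizer_iff]
    rintro _ ⟨x, hx, rfl⟩
    have h1 := mem_centralizer_iff.mp hkD x hx
    show t * x * t⁻¹ * k = k * (t * x * t⁻¹)
    have e : t⁻¹ * (k : G) = k * t⁻¹ := ((show Commute (k : G) t from hkt).symm.inv_left).eq
    calc t * x * t⁻¹ * k = t * x * (t⁻¹ * k) := by group
      _ = t * (x * k) * t⁻¹ := by rw [e]; group
      _ = (t * k) * x * t⁻¹ := by rw [h1]; group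
      _ = k * (t * x * t⁻¹) := by rw [← hkt]; group
  rw [mem_centralizer_iff]
  intro y _
  refine Subtype.ext ?_
  show (y : G) * k = k * y
  have hle : M ≤ centralizer ({(k : G)} : Set G) := sup_le
    (fun x hx => mem_centralizer_singleton_iff.mpr (mem_centralizer_iff.mp hkD x hx))
    (fun x hx => mem_centralizer_singleton_iff.mpr (mem_centralizer_iff.mp hkDa x hx))
  exact mem_centralizer_singleton_iff.mp (hle y.2.1)

end CfsgLib.FTCons
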