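import Cfsg.Agent.Lib.FTCons.CyclicInterBasic
import Cfsg.Agent.Lib.Coprime.Action
import Cfsg.Agent.Lib.Involutions.BrauerSuzuki

/-!
In a group with trivial odd core, two Sylow 2-subgroups and cyclic intersections of distinct Sylow
2-subgroups the 2-core is central.
-/

set_option autoImplicit false

namespace CfsgLib.FTCons.CyclicInter

open Cfsg Subgroup

universe u

variable {G : Type u} [Group G] [Finite G]

local instance pCore_isNormal : (pCore 2 G).Normal := pCore_normal 2 G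

local notation "π" => QuotientGroup.mk' (pCore 2 G)

theorem qm_eq_one {x : G} : π x = 1 ↔ x ∈ pCore 2 G := QuotientGroup.eq_one_iff x

theorem qm_eq {x y : G} : π x = π y ↔ x * y⁻¹ ∈ pCore 2 G := by
  rw [← qm_eq_one, map_mul, map_inv, mul_inv_eq_one]

/-- An involution of the centraliser outside the 2-core. -/
def Good (t : G) : Prop := t ∈ cV G ∧ t * t = 1 ∧ t ∉ pCore 2 G

theorem Good.ne_one {t : G} (ht : Good t) : t ≠ 1 := fun e => ht.2.2 (e ▸ one_mem _)

theorem Good.order {t : G} (ht : Good t) : orderOf t = 2 :=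
  orderOf_eq_prime (by rw [pow_two]; exact ht.2.1) ht.ne_one

theorem Good.inv {t : G} (ht : Good t) : t⁻¹ = t := inv_eq_of_mul_eq_one_right ht.2.1

theorem Good.pow {t : G} (ht : Good t) : t ^ 2 ^ 1 = 1 := by rw [pow_one, pow_two]; exact ht.2.1

theorem Good.conj {t : G} (ht : Good t) (g : G) : Good (g * t * g⁻¹) := by
  refine ⟨Subgroup.Normal.conj_mem inferInstance _ ht.1 g, ?_, fun hh => ht.2.2 ?_⟩
  · calc g * t * g⁻¹ * (g * t * g⁻¹) = g * (t * t) * g⁻¹ := by group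
      _ = 1 := by rw [ht.2.1]; group
  · have := Subgroup.Normal.conj_mem (inferInstance : (pCore 2 G).Normal) _ hh g⁻¹
    simpa [mul_assoc] using this

theorem Setup.exists_gen (h : Setup G) :
    ∃ v ∈ pCore 2 G, ∀ x ∈ pCore 2 G, x ∈ zpowers v := by
  obtain ⟨⟨v, hv⟩, hgen⟩ := h.cyclic_pCore.exists_generator
  exact ⟨v, hv, fun x hx => by
    obtain ⟨i, hi⟩ := hgen ⟨x, hx⟩
    exact ⟨i, congrArg Subtype.val hi⟩⟩

theorem Setup.not_sq_one (h : Setup G) (hout : ∃ w : G, w ∉ cV G) :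
    ∃ v ∈ pCore 2 G, (∀ x ∈ pCore 2 G, x ∈ zpowers v) ∧ ∃ n : ℕ, orderOf v = 2 ^ (n + 2) := by
  obtain ⟨v, hv, hgen⟩ := h.exists_gen
  obtain ⟨k, hk⟩ := CfsgLib.PCore.pCore_isPGroup (G := G) (p := 2) ⟨v, hv⟩
  obtain ⟨n, -, hn⟩ := (Nat.dvd_prime_pow Nat.prime_two).1
    (orderOf_dvd_of_pow_eq_one (congrArg Subtype.val hk : v ^ 2 ^ k = 1))
  refine ⟨v, hv, hgen, ?_⟩
  rcases n with _ | _ | n
  · exfalso
    obtain ⟨w, hw⟩ := hout
    refine hw (mem_cV.2 fun x hx => ?_)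
    obtain ⟨i, rfl⟩ := hgen x hx
    have : v = 1 := orderOf_eq_one_iff.1 (by simpa using hn)
    simp [this]
  · exfalso
    obtain ⟨w, hw⟩ := hout
    refine hw (mem_cV.2 fun x hx => ?_)
    have hv2 : orderOf v = 2 := by simpa using hn
    have hc : w * v * w⁻¹ ∈ zpowers v := hgen _ (Subgroup.Normal.conj_mem inferInstance _ hv w)
    obtain ⟨i, hi⟩ := hc
    have hi' : v ^ i = w * v * w⁻¹ := hi
    have hvv : v * w = w * v := by
      rcases Int.even_or_odd i with ⟨l, rfl⟩ | ⟨l, rfl⟩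
      · exfalso
        have hvsq : v ^ (2 : ℤ) = 1 := by
          rw [show (2 : ℤ) = ((2 : ℕ) : ℤ) from rfl, zpow_natCast, ← hv2, pow_orderOf_eq_one]
        rw [← two_mul, zpow_mul, hvsq, one_zpow] at hi'
        have : v = 1 := by
          have h0 : w * v = w * 1 := by rw [mul_one]; exact (mul_inv_eq_one.1 hi'.symm)
          exact mul_left_cancel h0
        rw [this, orderOf_one] at hv2
        omega
      · have hvsq : v ^ (2 : ℤ) = 1 := by
          rw [show (2 : ℤ) = ((2 : ℕ) : ℤ) from rfl, zpow_natCast, ← hv2, pow_orderOf_eq_one]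
        rw [zpow_add, zpow_mul, hvsq, one_zpow, one_mul, zpow_one] at hi'
        exact eq_mul_inv_iff_mul_eq.1 hi'
    obtain ⟨l, rfl⟩ := hgen x hx
    exact (Commute.zpow_left (show Commute v w from hvv) l).eq
  · exact ⟨n, hn⟩

/-- The square lies in the squares of the 2-core. -/
def Split (x : G) : Prop := ∃ a ∈ pCore 2 G, x ^ 2 = a * a

theorem Setup.split_of_sq_one (h : Setup G) (hout : ∃ w : G, w ∉ cV G) {c : G}
    (hc : c ∈ pCore 2 G) (hc2 : c * c = 1) : ∃ a ∈ pCore 2 G, c = a * a := by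
  obtain ⟨v, hv, hgen, n, hn⟩ := h.not_sq_one hout
  obtain ⟨i, rfl⟩ := hgen c hc
  have h1 : v ^ (i + i) = 1 := by rw [zpow_add]; exact hc2
  rw [← orderOf_dvd_iff_zpow_eq_one, hn] at h1
  have h2 : (4 : ℤ) ∣ i + i :=
    dvd_trans ⟨(2 ^ n : ℤ), by push_cast; ring⟩ h1
  obtain ⟨l, hl⟩ : (2 : ℤ) ∣ i := by omega
  exact ⟨v ^ l, zpow_mem hv l, by rw [← zpow_add]; show v ^ i = v ^ (l + l); rw [hl, two_mul]⟩

theorem Setup.le_zpowers_of_not_split (h : Setup G) {x : G} (hx : x ^ 2 ∈ pCore 2 G)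
    (hs : ¬ Split x) : pCore 2 G ≤ zpowers x := by
  obtain ⟨v, hv, hgen⟩ := h.exists_gen
  obtain ⟨i, hi⟩ := hgen _ hx
  have hi' : v ^ i = x ^ 2 := hi
  rcases Int.even_or_odd i with ⟨l, rfl⟩ | ⟨l, hl⟩
  · exact absurd ⟨v ^ l, zpow_mem hv l, by rw [← hi', zpow_add]⟩ hs
  obtain ⟨k, hk⟩ := CfsgLib.PCore.pCore_isPGroup (G := G) (p := 2) ⟨v, hv⟩
  have hk' : v ^ ((2 : ℤ) ^ k) = 1 := by
    rw [show ((2 : ℤ) ^ k) = ((2 ^ k : ℕ) : ℤ) by push_cast; rfl, zpow_natCast]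
    exact congrArg Subtype.val hk
  have hcop : IsCoprime i ((2 : ℤ) ^ k) := IsCoprime.pow_right ⟨1, -l, by rw [hl]; ring⟩
  obtain ⟨a, b, hab⟩ := hcop
  have hvmem : v ∈ zpowers x := by
    refine ⟨2 * a, ?_⟩
    show x ^ (2 * a) = v
    rw [zpow_mul, show x ^ (2 : ℤ) = x ^ (2 : ℕ) from zpow_natCast x 2, ← hi', ← zpow_mul]
    calc v ^ (i * a) = v ^ (a * i + b * 2 ^ k) := by
          rw [zpow_add, mul_comm b, zpow_mul v ((2 : ℤ) ^ k), hk', one_zpow, mul_one, mul_comm]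
      _ = v := by rw [hab, zpow_one]
  intro y hy
  exact (Subgroup.zpowers_le.2 hvmem) (hgen y hy)

theorem exists_good_of_split {x : G} (h : Setup G) (hxC : x ∈ cV G) (hxV : x ∉ pCore 2 G)
    (hs : Split x) : ∃ a ∈ pCore 2 G, Good (x * a⁻¹) := by
  obtain ⟨a, ha, ha2⟩ := hs
  refine ⟨a, ha, mul_mem hxC (inv_mem (h.pCore_le_cV ha)), ?_,
    fun hh => hxV ((Subgroup.mul_mem_cancel_right _ (inv_mem ha)).1 hh)⟩
  have hc : Commute a x := mem_cV.1 hxC a ha
  rw [← pow_two, (hc.symm.inv_right).mul_pow, ha2, inv_pow, pow_two, mul_inv_cancel]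

/-- An involution of the centraliser outside the 2-core lies in only one Sylow 2-subgroup. -/
theorem Setup.only_good (h : Setup G) (hout : ∃ w : G, w ∉ cV G) {t : G} (ht : Good t)
    {S T : Sylow 2 G} (hS : t ∈ (S : Subgroup G)) (hT : t ∈ (T : Subgroup G)) : S = T := by
  by_contra hne
  obtain ⟨v, hv, -, n, hn⟩ := h.not_sq_one hout
  have hz : orderOf (v ^ 2 ^ (n + 1)) = 2 := by
    rw [orderOf_pow' _ (pow_ne_zero _ two_ne_zero), hn,
      Nat.gcd_eq_right (pow_dvd_pow 2 (by omega)), Nat.pow_div (by omega) two_pos]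
    simp [show n + 2 - (n + 1) = 1 by omega]
  have hzV := pow_mem hv (2 ^ (n + 1))
  refine ht.2.2 (Subgroup.zpowers_le.2 hzV (mem_zpowers_of_cyclic _ (h.inter S T hne) ⟨hS, hT⟩
    ⟨pCore_le S hzV, pCore_le T hzV⟩ ?_))
  rw [hz, ht.order]

theorem Setup.mem_of_conj_good (h : Setup G) (hout : ∃ w : G, w ∉ cV G) {S : Sylow 2 G}
    {g t : G} (ht : Good t) (htS : t ∈ (S : Subgroup G)) (hgt : g * t * g⁻¹ ∈ (S : Subgroup G)) :
    g ∈ normalizer ((S : Subgroup G) : Set G) :=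
  Sylow.smul_eq_iff_mem_normalizer.1
    (h.only_good hout (ht.conj g) (conj_mem_smul_sylow.2 htS) hgt)

/-- In every Sylow 2-subgroup there is an involution fixed by a complement in its normaliser. -/
theorem Setup.exists_fixed_good (h : Setup G) (hout : ∃ w : G, w ∉ cV G) (S : Sylow 2 G) :
    ∃ (j : G) (K : Subgroup G), Good j ∧ j ∈ (S : Subgroup G) ∧ K ≤ cV G ∧
      (∀ k ∈ K, k * j = j * k) ∧
      ∀ g ∈ normalizer ((S : Subgroup G) : Set G), ∃ x ∈ (S : Subgroup G), ∃ k ∈ K, g = x * k := by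
  set N := normalizer ((S : Subgroup G) : Set G) with hN
  set S' : Subgroup ↥N := (S : Subgroup G).subgroupOf N with hS'
  have hSN : (S : Subgroup G) ≤ N := Subgroup.le_normalizer
  have hS'n : S'.Normal := Subgroup.normal_in_normalizer
  have hSp : IsPGroup 2 ↥S' :=
    S.isPGroup'.of_injective (Subgroup.subgroupOfEquivOfLe hSN).toMonoidHom (MulEquiv.injective _)
  have hidx : ¬ 2 ∣ S'.index := by
    intro hd
    exact S.not_dvd_index (hd.trans ⟨N.index, (Subgroup.relIndex_mul_index hSN).symm⟩)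
  obtain ⟨a, ha⟩ := IsPGroup.iff_card.1 hSp
  obtain ⟨K', hK'⟩ := Subgroup.exists_right_complement'_of_coprime (N := S') (by
    rw [ha]; exact Nat.Coprime.pow_left a ((Nat.Prime.coprime_iff_not_dvd Nat.prime_two).2 hidx))
  set K := K'.map N.subtype with hK
  have hKcard : Odd (Nat.card ↥K) := by
    rw [hK, Subgroup.card_map_of_injective N.subtype_injective,
      ← (Subgroup.IsComplement'.symm hK').index_eq_card, ← Nat.not_even_iff_odd, even_iff_two_dvd]
    exact hidx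
  have hKC : K ≤ cV G := fun k hk =>
    h.odd_mem_cV (hKcard.of_dvd_nat (Subgroup.orderOf_dvd_natCard K hk))
  have hKN : K ≤ N := Subgroup.map_subtype_le _
  have hdec : ∀ g ∈ N, ∃ x ∈ (S : Subgroup G), ∃ k ∈ K, g = x * k := by
    intro g hg
    obtain ⟨⟨x, k⟩, hxk⟩ := hK'.2 ⟨g, hg⟩
    exact ⟨((x : ↥N) : G), Subgroup.mem_subgroupOf.1 x.2, ((k : ↥N) : G),
      Subgroup.mem_map_of_mem N.subtype k.2, (congrArg Subtype.val hxk).symm⟩
  -- some element of the Sylow subgroup lies outside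
  obtain ⟨s, hs, hsC⟩ : ∃ s ∈ (S : Subgroup G), s ∉ cV G := by
    by_contra hno
    push Not at hno
    obtain ⟨w, hw⟩ := hout
    obtain ⟨o, k, -, hoC, hok⟩ := h.exists_odd_pow hw
    obtain ⟨R, hR⟩ := exists_sylow_mem hok
    obtain ⟨g, hg⟩ := MulAction.exists_smul_eq G R S
    have h1 : g * w ^ o * g⁻¹ ∈ (S : Subgroup G) := hg ▸ conj_mem_smul_sylow.2 hR
    have h2 := Subgroup.Normal.conj_mem (inferInstance : (cV G).Normal) _ (hno _ h1) g⁻¹
    exact hoC (by simpa [mul_assoc] using h2)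
  obtain ⟨b, hb⟩ := IsPGroup.iff_card.1 S.isPGroup'
  have hcop : (Nat.card ↥K).Coprime (Nat.card ↥(S : Subgroup G)) := by
    rw [hb]; exact (Nat.coprime_two_right.2 hKcard).pow_right b
  have hsol : Group.IsSolvable ↥K ∨ Group.IsSolvable ↥(S : Subgroup G) :=
    Or.inr (haveI := S.isPGroup'.isNilpotent; inferInstance)
  obtain ⟨c, ⟨hcS, hcK⟩, hsc⟩ := CfsgLib.Coprime.exists_centralizing_rep K (S : Subgroup G) hKN
    hcop hsol ((S : Subgroup G) ⊓ cV G) inf_le_left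
    (Subgroup.le_normalizer_iff.2 fun k hk x hx =>
      ⟨CfsgLib.Coprime.mem_normalizer_conj (hKN hk) hx.1,
        Subgroup.Normal.conj_mem inferInstance _ hx.2 k⟩) hs fun k hk => by
      refine ⟨Subgroup.mul_mem _ (Subgroup.inv_mem _ hs) (CfsgLib.Coprime.mem_normalizer_conj (hKN hk) hs), ?_⟩
      have h1 := Subgroup.Normal.conj_mem (inferInstance : (cV G).Normal) k (hKC hk) s⁻¹
      have h2 := mul_mem h1 (inv_mem (hKC hk))
      simpa [mul_assoc] using h2
  have hcC : c ∉ cV G := fun hh => hsC (by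
    have := mul_mem hh (inv_mem hsc.2)
    simpa [mul_assoc] using this)
  obtain ⟨k0, hk0⟩ := exists_two_pow_of_mem_sylow hcS
  obtain ⟨i, hwC, hw2⟩ := exists_pow_sq_mem k0 hcC (hk0 ▸ one_mem _)
  set w := c ^ 2 ^ i with hw
  have hwS : w ∈ (S : Subgroup G) := pow_mem hcS _
  have hwV := h.sq_not_mem hwC
  obtain ⟨k1, hk1⟩ := exists_two_pow_of_mem_sylow (pow_mem hwS 2)
  obtain ⟨l, hxV, hx2⟩ := exists_pow_sq_mem k1 hwV (hk1 ▸ one_mem _)
  set x := (w ^ 2) ^ 2 ^ l with hx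
  have hxC : x ∈ cV G := pow_mem hw2 _
  have hxw : Commute x w := ((Commute.refl w).pow_left 2).pow_left _
  have hsplit : Split x := by
    by_contra hns
    refine hwC (mem_cV.2 fun v hv => ?_)
    obtain ⟨e, rfl⟩ := h.le_zpowers_of_not_split hx2 hns hv
    exact (hxw.zpow_left e).eq
  obtain ⟨a', ha', hgood⟩ := exists_good_of_split h hxC hxV hsplit
  refine ⟨x * a'⁻¹, K, hgood, mul_mem (pow_mem (pow_mem hwS _) _) (inv_mem (pCore_le S ha')), hKC,
    fun k hk => ?_, hdec⟩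
  have h1 : Commute k c := Subgroup.mem_centralizer_iff.1 hcK k hk
  have h2 : Commute k x := ((h1.pow_right _).pow_right 2).pow_right _
  have h3 : Commute k a' := (mem_cV.1 (hKC hk) a' ha').symm
  exact (h2.mul_right h3.inv_right).eq

theorem Setup.exists_good (h : Setup G) (hout : ∃ w : G, w ∉ cV G) (S : Sylow 2 G) :
    ∃ t ∈ (S : Subgroup G), Good t := by
  obtain ⟨j, K, hj, hjS, -⟩ := h.exists_fixed_good hout S
  exact ⟨j, hjS, hj⟩

/-- The trace of a Sylow 2-subgroup on the centraliser is a maximal 2-subgroup there. -/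
theorem Setup.le_of_inf_le (h : Setup G) (hout : ∃ w : G, w ∉ cV G) (T : Sylow 2 G)
    {R : Subgroup G} (hR : IsPGroup 2 ↥R) (hTR : (T : Subgroup G) ⊓ cV G ≤ R) :
    R ≤ (T : Subgroup G) := by
  obtain ⟨t, htT, ht⟩ := h.exists_good hout T
  obtain ⟨T', hT'⟩ := hR.exists_le_sylow
  rw [h.only_good hout ht htT (hT' (hTR ⟨htT, ht.1⟩))]
  exact hT'

/-- Two good involutions in different Sylow 2-subgroups are conjugate modulo the 2-core. -/
theorem Setup.conj_of_ne (h : Setup G) (hout : ∃ w : G, w ∉ cV G) {t t' : G} (ht : Good t)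
    (ht' : Good t') {S T : Sylow 2 G} (hS : t ∈ (S : Subgroup G)) (hT : t' ∈ (T : Subgroup G))
    (hne : S ≠ T) : ∃ c ∈ cV G, π (c * t * c⁻¹) = π t' := by
  have htinv : t⁻¹ = t := ht.inv
  have conjPow : ∀ {s : G}, Good s → ∀ m : ℕ, t * (t * s) ^ m * t = ((t * s) ^ m)⁻¹ := by
    intro s hs m
    have h1 : t * (t * s) * t⁻¹ = (t * s)⁻¹ := by
      rw [mul_inv_rev, hs.inv, htinv, ← mul_assoc, ht.2.1, one_mul]
    have h2 : t * (t * s) ^ m * t⁻¹ = ((t * s) ^ m)⁻¹ := by rw [← conj_pow, h1, inv_pow]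
    rwa [htinv] at h2
  have oddConj : ∀ {s : G}, Good s → ∀ l : ℕ, (t * s) ^ (2 * l + 1) = 1 →
      (t * s) ^ l * t * ((t * s) ^ l)⁻¹ = s := by
    intro s hs l hl
    have h1 : (t * s) ^ (2 * l) = s * t := by
      rw [pow_succ] at hl
      rw [eq_inv_of_mul_eq_one_left hl, mul_inv_rev, hs.inv, htinv]
    rw [← conjPow hs l]
    calc (t * s) ^ l * t * (t * (t * s) ^ l * t) = (t * s) ^ l * (t * t) * (t * s) ^ l * t := by group
      _ = (t * s) ^ (2 * l) * t := by rw [ht.2.1, mul_one, ← pow_add, ← two_mul]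
      _ = s := by rw [h1, mul_assoc, ht.2.1, mul_one]
  rcases Nat.even_or_odd (orderOf (t * t')) with heven | ⟨l, hl⟩
  swap
  · refine ⟨(t * t') ^ l, pow_mem (mul_mem ht.1 ht'.1) _, ?_⟩
    rw [oddConj ht' l (hl ▸ pow_orderOf_eq_one _)]
  obtain ⟨m, hm⟩ := heven
  have hmpos : 0 < m := by
    have := orderOf_pos (t * t')
    omega
  set i := (t * t') ^ m with hi
  have hi2 : i * i = 1 := by rw [hi, ← pow_add, ← hm, pow_orderOf_eq_one]
  have hi1 : i ≠ 1 := fun e => by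
    have := Nat.le_of_dvd hmpos (orderOf_dvd_of_pow_eq_one e)
    omega
  have hiinv : i⁻¹ = i := inv_eq_of_mul_eq_one_right hi2
  have hti : Commute t i := by
    have h1 : t * i * t = i := by rw [hi, conjPow ht']; exact hiinv
    show t * i = i * t
    calc t * i = t * i * (t * t) := by rw [ht.2.1, mul_one]
      _ = t * i * t * t := by group
      _ = i * t := by rw [h1]
  have ht'i : Commute t' i := by
    have h1 : Commute (t * t') i := (Commute.refl _).pow_right m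
    have h2 := hti.mul_left h1
    rwa [← mul_assoc, ht.2.1, one_mul] at h2
  have hiV : i ∈ pCore 2 G := by
    by_contra hiV
    have hg : Good i := ⟨pow_mem (mul_mem ht.1 ht'.1) _, hi2, hiV⟩
    obtain ⟨R, hR⟩ := exists_sylow_mem hg.pow
    have key : ∀ {s : G}, Good s → Commute s i → s ∈ (R : Subgroup G) := fun {s} hs hc =>
      mem_sylow_of_normalizes hs.pow
        (h.mem_of_conj_good hout hg hR (by rw [hc.eq, mul_inv_cancel_right]; exact hR))
    exact hne ((h.only_good hout ht hS (key ht hti)).trans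
      (h.only_good hout ht' (key ht' ht'i) hT))
  rcases Nat.even_or_odd m with ⟨r, hr⟩ | ⟨l, hl⟩
  · exfalso
    set y := (t * t') ^ r with hy
    have hyy : y * y = i := by rw [hy, hi, hr, pow_add]
    have hy4 : y ^ 2 ^ 2 = 1 := by
      rw [show (2 : ℕ) ^ 2 = 2 * 2 from rfl, pow_mul, pow_two y, hyy, pow_two, hi2]
    have hord : orderOf y = 2 ^ 2 := orderOf_eq_prime_pow (n := 1)
      (fun e => hi1 (by rw [← hyy, ← pow_two]; exact e)) hy4
    have hyt : t * y * t = y⁻¹ := by rw [hy]; exact conjPow ht' r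
    have hty : y * t * y⁻¹ = i * t := by
      calc y * t * y⁻¹ = y * t * (t * y * t) := by rw [hyt]
        _ = y * (t * t) * y * t := by group
        _ = i * t := by rw [ht.2.1, mul_one, hyy]
    have ht'y : y * t' * y⁻¹ = i * t' := by
      have e : t' = t * (t * t') := by rw [← mul_assoc, ht.2.1, one_mul]
      have hc : Commute y (t * t') := (Commute.refl _).pow_left r
      calc y * t' * y⁻¹ = y * (t * (t * t')) * y⁻¹ := by rw [← e]
        _ = (y * t * y⁻¹) * (y * (t * t') * y⁻¹) := by group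
        _ = i * t * (t * t') := by rw [hty, hc.eq, mul_inv_cancel_right]
        _ = i * t' := by rw [mul_assoc, ← e]
    have hyS : y ∈ (S : Subgroup G) := mem_sylow_of_normalizes hy4
      (h.mem_of_conj_good hout ht hS (hty ▸ mul_mem (pCore_le S hiV) hS))
    have hyT : y ∈ (T : Subgroup G) := mem_sylow_of_normalizes hy4
      (h.mem_of_conj_good hout ht' hT (ht'y ▸ mul_mem (pCore_le T hiV) hT))
    obtain ⟨v, hv, -, n, hn⟩ := h.not_sq_one hout
    have hq : orderOf (v ^ 2 ^ n) = 2 ^ 2 := by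
      rw [orderOf_pow' _ (pow_ne_zero _ two_ne_zero), hn,
        Nat.gcd_eq_right (pow_dvd_pow 2 (by omega)), Nat.pow_div (by omega) two_pos]
      simp
    have hqV := pow_mem hv (2 ^ n)
    have hyV : y ∈ pCore 2 G := Subgroup.zpowers_le.2 hqV (mem_zpowers_of_cyclic _
      (h.inter S T hne) ⟨hyS, hyT⟩ ⟨pCore_le S hqV, pCore_le T hqV⟩ (by rw [hord, hq]))
    have hc : y * t = t * y := mem_cV.1 ht.1 y hyV
    rw [← hc, mul_assoc, ht.2.1, mul_one] at hyt
    exact hi1 (by rw [← hyy]; nth_rewrite 2 [hyt]; exact mul_inv_cancel y)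
  · have hg' : Good (t' * i) := ⟨mul_mem ht'.1 (h.pCore_le_cV hiV),
      by rw [← pow_two, ht'i.mul_pow, pow_two, pow_two, ht'.2.1, hi2, one_mul],
      fun hh => ht'.2.2 ((Subgroup.mul_mem_cancel_right _ hiV).1 hh)⟩
    refine ⟨(t * (t' * i)) ^ l, pow_mem (mul_mem ht.1 hg'.1) _, ?_⟩
    rw [oddConj hg' l, map_mul, qm_eq_one.2 hiV, mul_one]
    have hc : Commute (t * t') i := (Commute.refl _).pow_right m
    rw [← mul_assoc, hc.mul_pow, ← hl, ← hi]
    rw [hl, pow_succ, pow_mul, pow_two, hi2, one_pow, one_mul, hi2]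

/-- All good involutions of a Sylow subgroup are conjugate inside it modulo the 2-core. -/
theorem Setup.conj_fixed (h : Setup G) (hout : ∃ w : G, w ∉ cV G) {S : Sylow 2 G} {j : G}
    {K : Subgroup G} (hj : Good j) (hjS : j ∈ (S : Subgroup G)) (hKC : K ≤ cV G)
    (hKj : ∀ k ∈ K, k * j = j * k)
    (hdec : ∀ g ∈ normalizer ((S : Subgroup G) : Set G), ∃ x ∈ (S : Subgroup G), ∃ k ∈ K, g = x * k)
    {t : G} (ht : Good t) (htS : t ∈ (S : Subgroup G)) :
    ∃ x ∈ (S : Subgroup G) ⊓ cV G, π (x * j * x⁻¹) = π t := by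
  obtain ⟨T, hT⟩ := h.two S
  obtain ⟨g, hg⟩ := MulAction.exists_smul_eq G S T
  have hjT : g * j * g⁻¹ ∈ (T : Subgroup G) := hg ▸ conj_mem_smul_sylow.2 hjS
  obtain ⟨c1, hc1, he1⟩ := h.conj_of_ne hout hj (hj.conj g) hjS hjT hT.symm
  obtain ⟨c2, hc2, he2⟩ := h.conj_of_ne hout ht (hj.conj g) htS hjT hT.symm
  have he : π ((c2⁻¹ * c1) * j * (c2⁻¹ * c1)⁻¹) = π t := by
    have : (c2⁻¹ * c1) * j * (c2⁻¹ * c1)⁻¹ = c2⁻¹ * (c1 * j * c1⁻¹) * c2 := by group
    rw [this, map_mul, map_mul, he1, ← he2]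
    simp [mul_assoc]
  have hmem : (c2⁻¹ * c1) * j * (c2⁻¹ * c1)⁻¹ ∈ (S : Subgroup G) := by
    have := mul_mem (pCore_le S (qm_eq.1 he)) htS
    simpa [mul_assoc] using this
  obtain ⟨x, hx, k, hk, hxk⟩ := hdec _ (h.mem_of_conj_good hout hj hjS hmem)
  refine ⟨x, ⟨hx, ?_⟩, ?_⟩
  · have : x = c2⁻¹ * c1 * k⁻¹ := by rw [hxk, mul_inv_cancel_right]
    rw [this]
    exact Subgroup.mul_mem _ (Subgroup.mul_mem _ (Subgroup.inv_mem _ hc2) hc1) (Subgroup.inv_mem _ (hKC hk))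
  · rw [← he, hxk]
    congr 1
    calc x * j * x⁻¹ = x * (j * k) * k⁻¹ * x⁻¹ := by group
      _ = x * (k * j) * k⁻¹ * x⁻¹ := by rw [hKj k hk]
      _ = x * k * j * (x * k)⁻¹ := by group

/-- Isolation modulo the 2-core inside the centraliser. -/
def Iso (u : G) : Prop :=
  ∀ g ∈ cV G, Commute (π (g * u * g⁻¹)) (π u) → π (g * u * g⁻¹) = π u

theorem Setup.iso_of_split (h : Setup G) (hout : ∃ w : G, w ∉ cV G) {S : Sylow 2 G} {j : G}
    (hj : Good j) (hjS : j ∈ (S : Subgroup G))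
    (hall : ∀ t ∈ (S : Subgroup G), Good t → π t = π j) : Iso j := by
  intro g _ hc
  set t := g * j * g⁻¹ with ht
  have htg : Good t := hj.conj g
  refine hall t (mem_sylow_of_normalizes htg.pow (h.mem_of_conj_good hout hj hjS ?_)) htg
  have he : π (t * j * t⁻¹) = π j := by
    rw [map_mul, map_mul, map_inv, hc.eq, mul_inv_cancel_right]
  have := mul_mem (pCore_le S (qm_eq.1 he)) hjS
  simpa [mul_assoc] using this

/-- Elements of the centraliser commuting with `u` modulo the 2-core. -/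
def centMod (u : G) : Subgroup G := cV G ⊓ (centralizer {π u}).comap π

theorem mem_centMod {u c : G} : c ∈ centMod u ↔ c ∈ cV G ∧ Commute (π c) (π u) := by
  unfold centMod
  rw [Subgroup.mem_inf, Subgroup.mem_comap, Subgroup.mem_centralizer_singleton_iff]
  exact and_congr_right fun _ => ⟨fun h => h, fun h => h⟩

theorem Setup.conj_into (h : Setup G) (hout : ∃ w : G, w ∉ cV G) {M : Subgroup G}
    (T : Sylow 2 G) (hTM : (T : Subgroup G) ⊓ cV G ≤ M) {y : G} (hy : y ∈ M) {k : ℕ}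
    (hyk : y ^ 2 ^ k = 1) : ∃ m ∈ M, m * y * m⁻¹ ∈ (T : Subgroup G) := by
  obtain ⟨P0, hP0⟩ := ((T.isPGroup'.to_le (inf_le_left (b := cV G))).comap_subtype (K := M)).exists_le_sylow
  have hP0T : (P0 : Subgroup ↥M).map M.subtype ≤ (T : Subgroup G) := by
    refine h.le_of_inf_le hout T (P0.isPGroup'.map _) fun x hx => ?_
    exact ⟨⟨x, hTM hx⟩, hP0 (show (⟨x, hTM hx⟩ : ↥M) ∈ _ from hx), rfl⟩
  obtain ⟨P1, hP1⟩ := exists_sylow_mem (x := (⟨y, hy⟩ : ↥M)) (k := k) (Subtype.ext hyk)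
  obtain ⟨m, hm⟩ := MulAction.exists_smul_eq ↥M P1 P0
  exact ⟨m, m.2, hP0T ⟨m * ⟨y, hy⟩ * m⁻¹, hm ▸ conj_mem_smul_sylow.2 hP1, rfl⟩⟩

theorem Setup.iso_of_not_split (h : Setup G) (hout : ∃ w : G, w ∉ cV G) {S : Sylow 2 G} {u : G}
    (hu : u ∈ (S : Subgroup G) ⊓ cV G) (huV : u ∉ pCore 2 G) (hu2 : u ^ 2 ∈ pCore 2 G)
    (hcen : ∀ x ∈ (S : Subgroup G) ⊓ cV G, Commute (π x) (π u))
    (hns : ∀ u' ∈ (S : Subgroup G) ⊓ cV G, u' ∉ pCore 2 G → u' ^ 2 ∈ pCore 2 G →
      (∀ x ∈ (S : Subgroup G) ⊓ cV G, Commute (π x) (π u')) → ¬ Split u') : Iso u := by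
  -- the central element is unique modulo the 2-core
  have uniq : ∀ u' ∈ (S : Subgroup G) ⊓ cV G, u' ∉ pCore 2 G → u' ^ 2 ∈ pCore 2 G →
      (∀ x ∈ (S : Subgroup G) ⊓ cV G, Commute (π x) (π u')) → π u' = π u := by
    intro u' hu' hu'V hu'2 hcen'
    by_contra hne
    have hw : u' * u⁻¹ ∉ pCore 2 G := fun hh => hne (qm_eq.2 hh)
    have hsq : ∀ {x : G}, x ^ 2 ∈ pCore 2 G → π x * π x = 1 := fun {x} hx => by
      rw [← map_mul, ← pow_two]; exact qm_eq_one.2 hx
    have hcc : Commute (π u') (π u) := hcen u' hu'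
    have hw2 : (u' * u⁻¹) ^ 2 ∈ pCore 2 G := by
      rw [← qm_eq_one, map_pow, map_mul, map_inv, hcc.inv_right.mul_pow, inv_pow, pow_two,
        pow_two, hsq hu'2, hsq hu2, inv_one, one_mul]
    have hwX : u' * u⁻¹ ∈ (S : Subgroup G) ⊓ cV G := mul_mem hu' (inv_mem hu)
    refine hns _ hwX hw hw2 (fun x hx => ?_) ?_
    · rw [map_mul, map_inv]; exact (hcen' x hx).mul_right (hcen x hx).inv_right
    -- the commutator of `u'` and `u` is a square in the 2-core
    obtain ⟨d, hd, hd'⟩ : ∃ d ∈ pCore 2 G, u' * u⁻¹ = d * (u⁻¹ * u') :=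
      ⟨u' * u⁻¹ * (u⁻¹ * u')⁻¹, qm_eq.1 (by
        rw [map_mul, map_mul, map_inv]; exact hcc.inv_right.eq), by group⟩
    have cen : ∀ {v : G}, v ∈ pCore 2 G → ∀ {g : G}, g ∈ cV G → v * g = g * v :=
      fun hv _ hg => mem_cV.1 hg _ hv
    have hd2 : d * d = 1 := by
      have h1 : u' * u' * u⁻¹ = d * d * (u⁻¹ * (u' * u')) := by
        calc u' * u' * u⁻¹ = u' * (u' * u⁻¹) := by group
          _ = u' * d * (u⁻¹ * u') := by rw [hd']; group
          _ = d * (u' * u⁻¹) * u' := by rw [← cen hd hu'.2]; group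
          _ = d * d * (u⁻¹ * (u' * u')) := by rw [hd']; group
      have h2 : u' * u' * u⁻¹ = u⁻¹ * (u' * u') :=
        cen (by rw [← pow_two]; exact hu'2) (inv_mem hu.2)
      rw [h2] at h1
      exact mul_eq_right.1 h1.symm
    obtain ⟨e, he, hde⟩ := h.split_of_sq_one hout hd hd2
    obtain ⟨v, hv, hgen⟩ := h.exists_gen
    obtain ⟨a, ha⟩ : ∃ a ∈ pCore 2 G, u' * u' * (u⁻¹ * u⁻¹) = a * a := by
      obtain ⟨i1, hi1⟩ := hgen _ hu'2
      obtain ⟨i2, hi2⟩ := hgen _ hu2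
      have hi1' : v ^ i1 = u' ^ 2 := hi1
      have hi2' : v ^ i2 = u ^ 2 := hi2
      have hodd : ∀ {x : G} {i : ℤ}, v ^ i = x ^ 2 → ¬ Split x → Odd i := by
        intro x i hxi hx
        rw [← Int.not_even_iff_odd]
        rintro ⟨l, rfl⟩
        exact hx ⟨v ^ l, zpow_mem hv l, by rw [← hxi, zpow_add]⟩
      obtain ⟨l1, rfl⟩ := hodd hi1' (hns u' hu' hu'V hu'2 hcen')
      obtain ⟨l2, rfl⟩ := hodd hi2' (hns u hu huV hu2 hcen)
      refine ⟨v ^ (l1 - l2), zpow_mem hv _, ?_⟩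
      rw [← mul_inv_rev, ← pow_two, ← pow_two u, ← hi1', ← hi2', ← zpow_neg, ← zpow_add,
        ← zpow_add]
      congr 1; ring
    have h3 : u⁻¹ * u' = d⁻¹ * (u' * u⁻¹) := by rw [hd', inv_mul_cancel_left]
    have hdi : d⁻¹ = d := inv_eq_of_mul_eq_one_right hd2
    refine ⟨e * a, mul_mem he ha.1, ?_⟩
    calc (u' * u⁻¹) ^ 2 = u' * (u⁻¹ * u') * u⁻¹ := by rw [pow_two]; group
      _ = u' * d * (u' * u⁻¹) * u⁻¹ := by rw [h3, hdi]; group
      _ = d * (u' * u' * (u⁻¹ * u⁻¹)) := by rw [← cen hd hu'.2]; group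
      _ = e * e * (a * a) := by rw [ha.2, hde]
      _ = e * a * (e * a) := by
          have hc : e * a = a * e := cen he (h.pCore_le_cV ha.1)
          calc e * e * (a * a) = e * (a * e) * a := by rw [← hc]; group
            _ = e * a * (e * a) := by group
  intro g hg hc
  obtain ⟨ku, hku⟩ := exists_two_pow_of_mem_sylow hu.1
  set u' := g * u * g⁻¹ with hu'
  have hu'k : u' ^ 2 ^ ku = 1 := by rw [hu', conj_pow, hku]; group
  have hu'C : u' ∈ cV G := Subgroup.Normal.conj_mem inferInstance _ hu.2 g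
  obtain ⟨m1, hm1, hm1S⟩ := h.conj_into hout (M := centMod u) S
    (fun x hx => mem_centMod.2 ⟨hx.2, hcen x hx⟩) (mem_centMod.2 ⟨hu'C, hc⟩) hu'k
  obtain ⟨hm1C, hm1u⟩ := mem_centMod.1 hm1
  set u'' := m1 * u' * m1⁻¹ with hu''
  suffices hgoal : π u'' = π u by
    have : u' = m1⁻¹ * u'' * m1 := by rw [hu'']; group
    rw [this, map_mul, map_mul, hgoal, map_inv, mul_assoc, hm1u.eq.symm, inv_mul_cancel_left]
  set k := m1 * g with hk
  have hu''k : u'' = k * u * k⁻¹ := by rw [hu'', hu', hk]; group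
  have hkC : k ∈ cV G := mul_mem hm1C hg
  have hu''X : u'' ∈ (S : Subgroup G) ⊓ cV G :=
    ⟨hm1S, Subgroup.Normal.conj_mem inferInstance _ hu'C m1⟩
  have hu''V : u'' ∉ pCore 2 G := fun hh => huV (by
    rw [hu''k] at hh
    simpa [mul_assoc] using Subgroup.Normal.conj_mem (inferInstance : (pCore 2 G).Normal) _ hh k⁻¹)
  have hu''2 : u'' ^ 2 ∈ pCore 2 G := by
    rw [hu''k, conj_pow]; exact Subgroup.Normal.conj_mem inferInstance _ hu2 k
  obtain ⟨m2, hm2, hm2T⟩ := h.conj_into hout (M := centMod u'') (k • S)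
    (fun p hp => by
      obtain ⟨x, hx, rfl⟩ : ∃ x ∈ (S : Subgroup G), p = k * x * k⁻¹ :=
        ⟨k⁻¹ * p * k, (conj_mem_smul_sylow (g := k)).1 (by
          rw [show k * (k⁻¹ * p * k) * k⁻¹ = p by group]; exact hp.1), by group⟩
      have hxC : x ∈ cV G := by
        simpa [mul_assoc] using Subgroup.Normal.conj_mem (inferInstance : (cV G).Normal) _ hp.2 k⁻¹
      refine mem_centMod.2 ⟨hp.2, ?_⟩
      rw [hu''k, map_mul, map_mul, map_mul π _ k⁻¹, map_mul π k u, map_inv]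
      exact (Commute.conj_iff _).2 (hcen x ⟨hx, hxC⟩))
    (mem_centMod.2 ⟨hu.2, (hcen u'' hu''X).symm⟩) hku
  obtain ⟨hm2C, hm2u⟩ := mem_centMod.1 hm2
  set T := m2⁻¹ • (k • S) with hT
  have hmemT : ∀ {p : G}, m2 * p * m2⁻¹ ∈ ((k • S : Sylow 2 G) : Subgroup G) →
      p ∈ (T : Subgroup G) := fun {p} hp => by
    have := (conj_mem_smul_sylow (g := m2⁻¹)).2 hp
    simpa [hT, mul_assoc] using this
  have huT : u ∈ (T : Subgroup G) := hmemT hm2T
  have hu''T : u'' ∈ (T : Subgroup G) := by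
    refine hmemT ?_
    have h1 : π (m2 * u'' * m2⁻¹) = π u'' := by
      rw [map_mul, map_mul, map_inv, hm2u.eq, mul_inv_cancel_right]
    have h2 : u'' ∈ ((k • S : Sylow 2 G) : Subgroup G) := by
      rw [hu''k]; exact conj_mem_smul_sylow.2 hu.1
    have := mul_mem (pCore_le (k • S) (qm_eq.1 h1)) h2
    simpa [mul_assoc] using this
  by_cases hST : S = T
  · refine uniq u'' hu''X hu''V hu''2 fun x hx => ?_
    have h1 : m2 * x * m2⁻¹ ∈ ((k • S : Sylow 2 G) : Subgroup G) := by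
      have h0 : x ∈ ((m2⁻¹ • (k • S) : Sylow 2 G) : Subgroup G) := by rw [← hT, ← hST]; exact hx.1
      have := (conj_mem_smul_sylow (g := m2)).2 h0
      rwa [smul_inv_smul] at this
    obtain ⟨y, hy, hye⟩ : ∃ y ∈ (S : Subgroup G), m2 * x * m2⁻¹ = k * y * k⁻¹ :=
      ⟨k⁻¹ * (m2 * x * m2⁻¹) * k, (conj_mem_smul_sylow (g := k)).1 (by
          rw [show k * (k⁻¹ * (m2 * x * m2⁻¹) * k) * k⁻¹ = m2 * x * m2⁻¹ by group]; exact h1),
        by group⟩
    have hyC : y ∈ cV G := by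
      have h0 : k * y * k⁻¹ ∈ cV G := hye ▸ Subgroup.Normal.conj_mem inferInstance _ hx.2 m2
      simpa [mul_assoc] using Subgroup.Normal.conj_mem (inferInstance : (cV G).Normal) _ h0 k⁻¹
    have h2 : Commute (π (k * y * k⁻¹)) (π u'') := by
      rw [hu''k, map_mul, map_mul, map_mul π _ k⁻¹, map_mul π k u, map_inv]
      exact (Commute.conj_iff _).2 (hcen y ⟨hy, hyC⟩)
    have h3 : x = m2⁻¹ * (k * y * k⁻¹) * m2 := by rw [← hye]; group
    rw [h3, map_mul, map_mul, map_inv]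
    exact ((hm2u.inv_left).mul_left h2).mul_left hm2u
  · have hd : orderOf u'' ∣ orderOf u := by
      rw [hu''k]; exact dvd_of_eq (CfsgLib.Involutions.orderOf_conj_eq k u)
    obtain ⟨e, he⟩ := mem_zpowers_of_cyclic _ (h.inter S T hST) ⟨hu''X.1, hu''T⟩ ⟨hu.1, huT⟩ hd
    have he' : u ^ e = u'' := he
    have hq : π u ^ (2 : ℤ) = 1 := by
      rw [← map_zpow, show u ^ (2 : ℤ) = u ^ (2 : ℕ) from zpow_natCast u 2]
      exact qm_eq_one.2 hu2
    rcases Int.even_or_odd e with ⟨l, rfl⟩ | ⟨l, rfl⟩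
    · exact absurd (qm_eq_one.1 (by
        rw [← he', map_zpow, ← two_mul, zpow_mul, hq, one_zpow])) hu''V
    · rw [← he', map_zpow, zpow_add, zpow_mul, hq, one_zpow, one_mul, zpow_one]

/-- The centraliser of the 2-core modulo the 2-core has trivial odd core. -/
theorem Setup.oddCore_quot (h : Setup G) :
    pPrimeCore 2 (↥(cV G) ⧸ (pCore 2 G).subgroupOf (cV G)) = ⊥ := by
  set W := (pCore 2 G).subgroupOf (cV G) with hW
  set L := pPrimeCore 2 (↥(cV G) ⧸ W) with hL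
  have : L.Normal := pPrimeCore_normal 2 _
  set M := L.comap (QuotientGroup.mk' W) with hM
  have : M.Normal := Subgroup.Normal.comap inferInstance _
  have hWM : W ≤ M := fun x hx => by
    rw [hM, Subgroup.mem_comap, show QuotientGroup.mk' W x = 1 from (QuotientGroup.eq_one_iff x).2 hx]
    exact one_mem _
  set W' := W.subgroupOf M with hW'
  have hWp : IsPGroup 2 ↥W :=
    CfsgLib.PCore.pCore_isPGroup.of_injective
      (Subgroup.subgroupOfEquivOfLe h.pCore_le_cV).toMonoidHom (MulEquiv.injective _)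
  have hW'p : IsPGroup 2 ↥W' :=
    hWp.of_injective (Subgroup.subgroupOfEquivOfLe hWM).toMonoidHom (MulEquiv.injective _)
  have hidx : ¬ 2 ∣ W'.index := by
    let f : ↥M →* ↥L := ((QuotientGroup.mk' W).subgroupComap L)
    have hf : Function.Surjective f :=
      (QuotientGroup.mk' W).subgroupComap_surjective_of_surjective L (QuotientGroup.mk'_surjective W)
    have hker : f.ker = W' := by
      ext x
      rw [MonoidHom.mem_ker, Subgroup.mem_subgroupOf, ← QuotientGroup.eq_one_iff]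
      exact ⟨fun e => congrArg Subtype.val e, fun e => Subtype.ext e⟩
    rw [← hker, Subgroup.index_ker, MonoidHom.range_eq_top.2 hf, Subgroup.card_top]
    exact CfsgLib.PCore.not_dvd_card_pPrimeCore
  obtain ⟨a, ha⟩ := IsPGroup.iff_card.1 hW'p
  have : W'.Normal := Subgroup.Normal.subgroupOf inferInstance _
  obtain ⟨K, hK⟩ := Subgroup.exists_right_complement'_of_coprime (N := W') (by
    rw [ha]; exact Nat.Coprime.pow_left a ((Nat.Prime.coprime_iff_not_dvd Nat.prime_two).2 hidx))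
  have hcen : ∀ w ∈ W', ∀ c : ↥M, c * w = w * c := fun w hw c => Subtype.ext (Subtype.ext
    ((mem_cV.1 (c : ↥(cV G)).2 ((w : ↥(cV G)) : G)
      (Subgroup.mem_subgroupOf.1 (Subgroup.mem_subgroupOf.1 hw))).symm))
  have hKn : K.Normal := ⟨fun k hk c => by
    obtain ⟨⟨w, l⟩, rfl⟩ := hK.2 c
    have h1 : (w : ↥M) * ((l : ↥M) * k * (l : ↥M)⁻¹) * (w : ↥M)⁻¹ = l * k * (l : ↥M)⁻¹ := by
      rw [← hcen w w.2, mul_inv_cancel_right]
    show (w : ↥M) * l * k * ((w : ↥M) * l)⁻¹ ∈ K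
    rw [show (w : ↥M) * l * k * ((w : ↥M) * l)⁻¹ = l * k * (l : ↥M)⁻¹ by rw [← h1]; group]
    exact mul_mem (mul_mem l.2 hk) (inv_mem l.2)⟩
  have hK1 : K = ⊥ := by
    have hKodd : (Nat.card ↥K).Coprime 2 := by
      rw [← (Subgroup.IsComplement'.symm hK).index_eq_card]
      exact ((Nat.Prime.coprime_iff_not_dvd Nat.prime_two).2 hidx).symm
    have := CfsgLib.PCore.le_pPrimeCore hKn hKodd
    rw [CfsgLib.PCore.pPrimeCore_eq_bot_of_normal M
      (CfsgLib.PCore.pPrimeCore_eq_bot_of_normal (cV G) h.core)] at this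
    exact le_bot_iff.1 this
  rw [eq_bot_iff]
  intro y hy
  obtain ⟨x, rfl⟩ := QuotientGroup.mk'_surjective W y
  obtain ⟨⟨w, l⟩, hwl⟩ := hK.2 (⟨x, hy⟩ : ↥M)
  have hl : (l : ↥M) = 1 := Subgroup.mem_bot.1 (hK1 ▸ l.2)
  simp only [hl, mul_one] at hwl
  have hxW := Subgroup.mem_subgroupOf.1 w.2
  rw [hwl] at hxW
  exact Subgroup.mem_bot.2 ((QuotientGroup.eq_one_iff x).2 hxW)

/-- An isolated involution modulo the 2-core gives a contradiction. -/
theorem Setup.false_of_iso (h : Setup G) (hout : ∃ w : G, w ∉ cV G) {u : G}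
    (huC : u ∈ cV G) (huV : u ∉ pCore 2 G) (hu2 : u ^ 2 ∈ pCore 2 G) (hiso : Iso u) : False := by
  set W := (pCore 2 G).subgroupOf (cV G) with hW
  have hiff : ∀ a b : ↥(cV G), (QuotientGroup.mk' W a = QuotientGroup.mk' W b ↔ π a = π b) :=
    fun a b => by
      rw [qm_eq, ← mul_inv_eq_one, ← map_inv, ← map_mul]
      exact (QuotientGroup.eq_one_iff _).trans Subgroup.mem_subgroupOf
  set u₀ := QuotientGroup.mk' W ⟨u, huC⟩ with hu₀
  have hord : orderOf u₀ = 2 := by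
    refine orderOf_eq_prime ?_ fun e => huV ?_
    · rw [hu₀, ← map_pow]
      exact (QuotientGroup.eq_one_iff _).2 (Subgroup.mem_subgroupOf.2 hu2)
    · exact Subgroup.mem_subgroupOf.1 ((QuotientGroup.eq_one_iff _).1 e)
  have hisol : IsIsolatedInvolution u₀ := by
    refine ⟨hord, fun y hy => ?_⟩
    obtain ⟨c, rfl⟩ := QuotientGroup.mk'_surjective W y
    rw [hu₀, ← map_inv, ← map_mul, ← map_mul] at hy ⊢
    refine (hiff _ _).2 (hiso c c.2 ?_)
    have h1 := hy.eq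
    rw [← map_mul, ← map_mul, hiff] at h1
    show π _ * π _ = π _ * π _
    rw [← map_mul, ← map_mul]
    simpa using h1.symm
  have hz := CfsgLib.Involutions.zstar _ u₀ hisol
  have hcen : ∀ g ∈ cV G, g * u * g⁻¹ * u⁻¹ ∈ pCore 2 G := by
    intro g hg
    have h1 := hz (QuotientGroup.mk' W ⟨g, hg⟩)
    rw [h.oddCore_quot, Subgroup.mem_bot, hu₀, ← map_inv, ← map_inv, ← map_mul, ← map_mul,
      ← map_mul] at h1
    exact Subgroup.mem_subgroupOf.1 ((QuotientGroup.eq_one_iff _).1 h1)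
  obtain ⟨k, hk⟩ := two_pow_of_sq_mem CfsgLib.PCore.pCore_isPGroup hu2
  have hall : ∀ T : Sylow 2 G, u ∈ (T : Subgroup G) := by
    intro T
    obtain ⟨t, htT, ht⟩ := h.exists_good hout T
    refine mem_sylow_of_normalizes hk (h.mem_of_conj_good hout ht htT ?_)
    have h1 := inv_mem (hcen t ht.1)
    have h2 : u * t * u⁻¹ * t⁻¹ ∈ (T : Subgroup G) := pCore_le T (by
      simpa [mul_assoc] using h1)
    have := mul_mem h2 htT
    simpa [mul_assoc] using this
  obtain ⟨S⟩ := (inferInstance : Nonempty (Sylow 2 G))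
  refine huV (mem_pCore_of_forall S fun g => ?_)
  have := conj_mem_smul_sylow (g := g) |>.2 (hall (g⁻¹ • S))
  rwa [smul_inv_smul] at this

/-- The 2-core is central. -/
theorem Setup.cV_eq_top (h : Setup G) : cV G = ⊤ := by
  by_contra hne
  have hout : ∃ w : G, w ∉ cV G := by
    by_contra hno
    push Not at hno
    exact hne (Subgroup.eq_top_iff' _ |>.2 hno)
  obtain ⟨S⟩ := (inferInstance : Nonempty (Sylow 2 G))
  obtain ⟨j, K, hj, hjS, hKC, hKj, hdec⟩ := h.exists_fixed_good hout S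
  set X := (S : Subgroup G) ⊓ cV G with hX
  set X' := X.map π with hX'
  have hX'p : IsPGroup 2 ↥X' := (S.isPGroup'.to_le inf_le_left).map _
  have hjX : π j ∈ X' := Subgroup.mem_map_of_mem _ ⟨hjS, hj.1⟩
  have : Nontrivial ↥X' :=
    ⟨⟨π j, hjX⟩, 1, fun e => hj.2.2 (qm_eq_one.1 (congrArg Subtype.val e))⟩
  have := hX'p.center_nontrivial
  obtain ⟨n, hn⟩ := IsPGroup.iff_card.1 (hX'p.to_subgroup (Subgroup.center ↥X'))
  have h2 : 2 ∣ Nat.card ↥(Subgroup.center ↥X') := by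
    rcases n with _ | n
    · exact absurd hn (ne_of_gt Finite.one_lt_card)
    · exact hn ▸ dvd_pow_self 2 n.succ_ne_zero
  obtain ⟨z, hz⟩ := exists_prime_orderOf_dvd_card' 2 h2
  obtain ⟨u, hu, huz⟩ := (z : ↥X').2
  have huV : u ∉ pCore 2 G := fun hh => by
    rw [qm_eq_one.2 hh] at huz
    have : z = 1 := Subtype.ext (Subtype.ext huz.symm)
    rw [this, orderOf_one] at hz; omega
  have hu2 : u ^ 2 ∈ pCore 2 G := by
    rw [← qm_eq_one, map_pow, huz, ← SubmonoidClass.coe_pow, ← SubmonoidClass.coe_pow,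
      orderOf_dvd_iff_pow_eq_one.1 (dvd_of_eq hz)]
    rfl
  have hcen : ∀ x ∈ X, Commute (π x) (π u) := fun x hx => by
    have := congrArg Subtype.val (Subgroup.mem_center_iff.1 z.2 ⟨π x, Subgroup.mem_map_of_mem _ hx⟩)
    rw [huz]; exact this
  by_cases hsp : ∃ u' ∈ X, u' ∉ pCore 2 G ∧ Split u' ∧ ∀ x ∈ X, Commute (π x) (π u')
  · obtain ⟨u', hu'X, hu'V, hu's, hu'c⟩ := hsp
    obtain ⟨a, ha, hgood⟩ := exists_good_of_split h hu'X.2 hu'V hu's
    have hgS : u' * a⁻¹ ∈ (S : Subgroup G) := mul_mem hu'X.1 (inv_mem (pCore_le S ha))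
    have hπ : π (u' * a⁻¹) = π u' := by rw [map_mul, map_inv, qm_eq_one.2 ha, inv_one, mul_one]
    obtain ⟨x0, hx0, he0⟩ := h.conj_fixed hout hj hjS hKC hKj hdec hgood hgS
    have hje : π j = π u' := by
      rw [hπ, map_mul, map_mul, map_inv] at he0
      have : π j = (π x0)⁻¹ * π u' * π x0 := by rw [← he0]; group
      rw [this, mul_assoc, ← (hu'c x0 hx0).eq, inv_mul_cancel_left]
    refine h.false_of_iso hout hj.1 hj.2.2 (by rw [pow_two, hj.2.1]; exact one_mem _)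
      (h.iso_of_split hout hj hjS fun t htS ht => ?_)
    obtain ⟨x, hx, he⟩ := h.conj_fixed hout hj hjS hKC hKj hdec ht htS
    rw [← he, map_mul, map_mul, map_inv, hje, (hu'c x hx).eq, mul_inv_cancel_right]
  · push Not at hsp
    refine h.false_of_iso hout hu.2 huV hu2 (h.iso_of_not_split hout hu huV hu2 hcen ?_)
    intro u' hu' hu'V _ hc' hs
    obtain ⟨x, hx, hnc⟩ := hsp u' hu' hu'V hs
    exact hnc (hc' x hx)

end CfsgLib.FTCons.CyclicInter
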