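import Cfsg.Agent.Lib.InvChar.SolvableTwo
import Cfsg.Agent.Lib.PCore.Basic
import Cfsg.Prelude.Def_CaseTheorems

/-!
Finite groups with trivial odd core, at least two Sylow 2-subgroups and cyclic intersections of
distinct Sylow 2-subgroups: elementary facts about the centraliser of the 2-core.
-/

set_option autoImplicit false

namespace CfsgLib.FTCons.CyclicInter

open Cfsg Subgroup

variable {G : Type*} [Group G]

/-- In a cyclic subgroup an element lies in the cyclic subgroup of every element whose order is a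
multiple of its own. -/
theorem mem_zpowers_of_cyclic [Finite G] (H : Subgroup G) (hH : IsCyclic ↥H) {a b : G}
    (ha : a ∈ H) (hb : b ∈ H) (hd : orderOf a ∣ orderOf b) : a ∈ zpowers b := by
  classical
  have := Fintype.ofFinite ↥H
  have := hH
  set b' : ↥H := ⟨b, hb⟩
  set a' : ↥H := ⟨a, ha⟩
  set s := Finset.univ.filter fun x : ↥H => x ^ orderOf b = 1 with hs
  set t := Finset.univ.filter fun x : ↥H => x ∈ zpowers b' with ht
  have hts : t ⊆ s := by
    intro x hx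
    simp only [hs, ht, Finset.mem_filter, Finset.mem_univ, true_and] at hx ⊢
    obtain ⟨i, rfl⟩ := hx
    show (b' ^ i) ^ orderOf b = 1
    rw [show orderOf b = orderOf b' from Subgroup.orderOf_coe b', ← zpow_natCast, ← zpow_mul,
      mul_comm, zpow_mul, zpow_natCast, pow_orderOf_eq_one, one_zpow]
  have hcard : t.card = orderOf b := by
    rw [ht, ← Fintype.card_subtype, ← Nat.card_eq_fintype_card]
    exact (Nat.card_zpowers b').trans (Subgroup.orderOf_coe b').symm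
  have hle : s.card ≤ t.card := by
    rw [hcard]; exact IsCyclic.card_pow_eq_one_le (orderOf_pos b)
  have hmem : a' ∈ s := by
    simp only [hs, Finset.mem_filter, Finset.mem_univ, true_and]
    exact Subtype.ext (by
      rw [SubmonoidClass.coe_pow]; exact orderOf_dvd_iff_pow_eq_one.1 hd)
  rw [← Finset.eq_of_subset_of_card_le hts hle] at hmem
  simp only [ht, Finset.mem_filter, Finset.mem_univ, true_and] at hmem
  obtain ⟨i, hi⟩ := hmem
  exact ⟨i, congrArg Subtype.val hi⟩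

theorem mem_of_coprime_pows {H : Subgroup G} {g : G} {m n : ℕ} (h : Nat.Coprime m n)
    (hm : g ^ m ∈ H) (hn : g ^ n ∈ H) : g ∈ H := by
  have hb := Nat.gcd_eq_gcd_ab m n
  rw [h.gcd_eq_one, Nat.cast_one] at hb
  rw [← zpow_one g, hb, zpow_add, zpow_mul, zpow_mul, zpow_natCast, zpow_natCast]
  exact mul_mem (zpow_mem hm _) (zpow_mem hn _)

/-- An element outside a subgroup with a `2`-power in it has a power whose square lands first. -/
theorem exists_pow_sq_mem {H : Subgroup G} : ∀ (k : ℕ) {x : G}, x ∉ H → x ^ 2 ^ k ∈ H →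
    ∃ i : ℕ, x ^ 2 ^ i ∉ H ∧ (x ^ 2 ^ i) ^ 2 ∈ H
  | 0, x, hx, hk => absurd (by simpa using hk) hx
  | k + 1, x, hx, hk => by
    by_cases h : x ^ 2 ^ k ∈ H
    · exact exists_pow_sq_mem k hx h
    · exact ⟨k, h, by rwa [← pow_mul, ← pow_succ]⟩

theorem conj_mem_smul_sylow {g x : G} {S : Sylow 2 G} :
    g * x * g⁻¹ ∈ ((g • S : Sylow 2 G) : Subgroup G) ↔ x ∈ (S : Subgroup G) := by
  rw [Sylow.coe_subgroup_smul,
    show g * x * g⁻¹ = MulAut.conj g • x from rfl, Subgroup.smul_mem_pointwise_smul_iff]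

theorem mem_sylow_of_normalizes {S : Sylow 2 G} {x : G} {k : ℕ} (hx : x ^ 2 ^ k = 1)
    (hn : x ∈ normalizer ((S : Subgroup G) : Set G)) : x ∈ (S : Subgroup G) := by
  have hp : IsPGroup 2 ↥(zpowers x) := by
    rintro ⟨y, i, rfl⟩
    refine ⟨k, Subtype.ext ?_⟩
    show (x ^ i) ^ 2 ^ k = 1
    rw [← zpow_natCast, ← zpow_mul, mul_comm, zpow_mul, zpow_natCast, hx, one_zpow]
  have h := hp.inf_normalizer_sylow S
  have hm : x ∈ zpowers x ⊓ (S : Subgroup G) := h ▸ ⟨mem_zpowers x, hn⟩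
  exact hm.2

theorem exists_sylow_mem [Finite G] {x : G} {k : ℕ} (hx : x ^ 2 ^ k = 1) :
    ∃ S : Sylow 2 G, x ∈ (S : Subgroup G) := by
  have hp : IsPGroup 2 ↥(zpowers x) := by
    rintro ⟨y, i, rfl⟩
    refine ⟨k, Subtype.ext ?_⟩
    show (x ^ i) ^ 2 ^ k = 1
    rw [← zpow_natCast, ← zpow_mul, mul_comm, zpow_mul, zpow_natCast, hx, one_zpow]
  obtain ⟨S, hS⟩ := hp.exists_le_sylow
  exact ⟨S, hS (mem_zpowers x)⟩

theorem two_pow_of_sq_mem {H : Subgroup G} (hH : IsPGroup 2 ↥H) {x : G} (hx : x ^ 2 ∈ H) :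
    ∃ k : ℕ, x ^ 2 ^ k = 1 := by
  obtain ⟨k, hk⟩ := hH ⟨x ^ 2, hx⟩
  exact ⟨k + 1, by rw [pow_succ', pow_mul]; exact congrArg Subtype.val hk⟩

theorem exists_two_pow_of_mem_sylow {S : Sylow 2 G} {x : G} (hx : x ∈ (S : Subgroup G)) :
    ∃ k : ℕ, x ^ 2 ^ k = 1 := by
  obtain ⟨k, hk⟩ := S.isPGroup' ⟨x, hx⟩
  exact ⟨k, congrArg Subtype.val hk⟩

variable (G) in
/-- The reduced situation. -/
structure Setup : Prop where
  inter : ∀ S T : Sylow 2 G, S ≠ T → IsCyclic ↥((S : Subgroup G) ⊓ (T : Subgroup G))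
  two : ∀ S : Sylow 2 G, ∃ T : Sylow 2 G, T ≠ S
  core : oddCore G = ⊥

/-- The centraliser of the 2-core. -/
def cV (G : Type*) [Group G] : Subgroup G := centralizer (pCore 2 G : Set G)

instance [Finite G] : (cV G).Normal := by
  have : (pCore 2 G).Normal := pCore_normal 2 G
  unfold cV; infer_instance

theorem mem_cV {g : G} : g ∈ cV G ↔ ∀ v ∈ pCore 2 G, v * g = g * v :=
  Subgroup.mem_centralizer_iff

variable [Finite G]

theorem pCore_le (S : Sylow 2 G) : pCore 2 G ≤ (S : Subgroup G) :=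
  CfsgLib.PCore.pCore_le_sylow S

theorem Setup.cyclic_pCore (h : Setup G) : IsCyclic ↥(pCore 2 G) := by
  obtain ⟨S⟩ := (inferInstance : Nonempty (Sylow 2 G))
  obtain ⟨T, hT⟩ := h.two S
  have := h.inter T S hT
  exact isCyclic_of_injective (Subgroup.inclusion (le_inf (pCore_le T) (pCore_le S)))
    (Subgroup.inclusion_injective _)

theorem Setup.pCore_le_cV (h : Setup G) : pCore 2 G ≤ cV G := by
  intro x hx
  rw [mem_cV]
  intro v hv
  have := h.cyclic_pCore
  letI := IsCyclic.commGroup (α := ↥(pCore 2 G))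
  exact congrArg Subtype.val (mul_comm (⟨v, hv⟩ : ↥(pCore 2 G)) ⟨x, hx⟩)

theorem Setup.odd_mem_cV (h : Setup G) {g : G} (hg : Odd (orderOf g)) : g ∈ cV G := by
  have := h.cyclic_pCore
  rw [mem_cV]
  intro v hv
  refine (CfsgLib.InvChar.commute_of_odd_of_cyclic hg _ CfsgLib.PCore.pCore_isPGroup ?_ hv).symm
  rw [Subgroup.normalizer_eq_top_iff.2 (pCore_normal 2 _)]
  trivial

theorem Setup.exists_two_pow_mem_cV (h : Setup G) (g : G) : ∃ k : ℕ, g ^ 2 ^ k ∈ cV G := by
  obtain ⟨a, m, hm, ho⟩ := Nat.exists_eq_two_pow_mul_odd (orderOf_pos g).ne'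
  refine ⟨a, h.odd_mem_cV ?_⟩
  rw [orderOf_pow' _ (pow_ne_zero a two_ne_zero), ho, Nat.gcd_mul_right_left,
    Nat.mul_div_cancel_left _ (pow_pos two_pos a)]
  exact hm

/-- An element outside the centraliser of the 2-core has an odd power which is a 2-element outside. -/
theorem Setup.exists_odd_pow (h : Setup G) {g : G} (hg : g ∉ cV G) :
    ∃ o k : ℕ, Odd o ∧ g ^ o ∉ cV G ∧ (g ^ o) ^ 2 ^ k = 1 := by
  obtain ⟨a, m, hm, ho⟩ := Nat.exists_eq_two_pow_mul_odd (orderOf_pos g).ne'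
  obtain ⟨k, hk⟩ := h.exists_two_pow_mem_cV g
  refine ⟨m, a, hm, fun hmem => hg ?_, by rw [← pow_mul, mul_comm, ← ho, pow_orderOf_eq_one]⟩
  exact mem_of_coprime_pows ((Nat.coprime_two_right.2 hm).pow_right k) hmem hk

/-- A 2-element outside the centraliser of the 2-core lies in only one Sylow 2-subgroup. -/
theorem Setup.only_out (h : Setup G) {g : G} (hg : g ∉ cV G) {S T : Sylow 2 G}
    (hS : g ∈ (S : Subgroup G)) (hT : g ∈ (T : Subgroup G)) : S = T := by
  by_contra hne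
  have := h.inter S T hne
  refine hg (mem_cV.2 fun v hv => ?_)
  letI := IsCyclic.commGroup (α := ↥((S : Subgroup G) ⊓ (T : Subgroup G)))
  exact congrArg Subtype.val (mul_comm (⟨v, ⟨pCore_le S hv, pCore_le T hv⟩⟩ :
    ↥((S : Subgroup G) ⊓ (T : Subgroup G))) ⟨g, ⟨hS, hT⟩⟩)

/-- If all conjugates of an element lie in one Sylow 2-subgroup, the element lies in the 2-core. -/
theorem mem_pCore_of_forall (S : Sylow 2 G) {x : G}
    (h : ∀ g : G, g * x * g⁻¹ ∈ (S : Subgroup G)) : x ∈ pCore 2 G := by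
  refine CfsgLib.PCore.le_pCore (N := (S : Subgroup G).normalCore) inferInstance
    (S.isPGroup'.to_le (Subgroup.normalCore_le _)) ?_
  exact h

/-- There is an element of the centraliser outside the 2-core whose square lies in the 2-core. -/
theorem Setup.exists_sq_mem (h : Setup G) :
    ∃ x ∈ cV G, x ∉ pCore 2 G ∧ x ^ 2 ∈ pCore 2 G := by
  set W : Subgroup ↥(cV G) := (pCore 2 G).subgroupOf (cV G) with hW
  have : (pCore 2 G).Normal := pCore_normal 2 G
  have hWn : W.Normal := Subgroup.Normal.subgroupOf inferInstance _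
  by_cases heven : 2 ∣ Nat.card (↥(cV G) ⧸ W)
  · obtain ⟨y, hy⟩ := exists_prime_orderOf_dvd_card' 2 heven
    obtain ⟨x, rfl⟩ := QuotientGroup.mk_surjective y
    refine ⟨x, x.2, fun hx => ?_, ?_⟩
    · rw [(QuotientGroup.eq_one_iff x).2 (Subgroup.mem_subgroupOf.2 hx), orderOf_one] at hy
      omega
    · have h2 : ((x ^ 2 : ↥(cV G)) : ↥(cV G) ⧸ W) = 1 := by
        rw [QuotientGroup.mk_pow, ← hy, pow_orderOf_eq_one]
      exact Subgroup.mem_subgroupOf.1 ((QuotientGroup.eq_one_iff _).1 h2)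
  exfalso
  have hWp : IsPGroup 2 ↥W :=
    CfsgLib.PCore.pCore_isPGroup.of_injective
      (Subgroup.subgroupOfEquivOfLe h.pCore_le_cV).toMonoidHom (MulEquiv.injective _)
  obtain ⟨a, ha⟩ := IsPGroup.iff_card.1 hWp
  have hcop : Nat.Coprime (Nat.card ↥W) W.index := by
    rw [ha]
    refine Nat.Coprime.pow_left a ((Nat.Prime.coprime_iff_not_dvd Nat.prime_two).2 ?_)
    rwa [Subgroup.index_eq_card]
  obtain ⟨K, hK⟩ := Subgroup.exists_right_complement'_of_coprime hcop
  have hcen : ∀ w ∈ W, ∀ c : ↥(cV G), c * w = w * c := fun w hw c => Subtype.ext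
    ((mem_cV.1 c.2 w (Subgroup.mem_subgroupOf.1 hw)).symm)
  have hKn : K.Normal := ⟨fun k hk c => by
    obtain ⟨⟨w, l⟩, rfl⟩ := hK.2 c
    have h1 : (w : ↥(cV G)) * (l * k * (l : ↥(cV G))⁻¹) * (w : ↥(cV G))⁻¹ = l * k * (l : ↥(cV G))⁻¹ := by
      rw [← hcen w w.2, mul_inv_cancel_right]
    have h2 : (w : ↥(cV G)) * l * k * ((w : ↥(cV G)) * l)⁻¹ = l * k * (l : ↥(cV G))⁻¹ := by
      rw [← h1]; group
    show (w : ↥(cV G)) * l * k * ((w : ↥(cV G)) * l)⁻¹ ∈ K
    rw [h2]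
    exact mul_mem (mul_mem l.2 hk) (inv_mem l.2)⟩
  have hKodd : (Nat.card ↥K).Coprime 2 := by
    rw [← (Subgroup.IsComplement'.symm hK).index_eq_card, Subgroup.index_eq_card]
    exact ((Nat.Prime.coprime_iff_not_dvd Nat.prime_two).2 heven).symm
  have hK1 : K = ⊥ := by
    have := CfsgLib.PCore.le_pPrimeCore hKn hKodd
    rw [CfsgLib.PCore.pPrimeCore_eq_bot_of_normal (cV G) h.core] at this
    exact le_bot_iff.1 this
  have hCle : cV G ≤ pCore 2 G := by
    intro c hc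
    obtain ⟨⟨w, l⟩, hwl⟩ := hK.2 ⟨c, hc⟩
    have hl : (l : ↥(cV G)) = 1 := Subgroup.mem_bot.1 (hK1 ▸ l.2)
    simp only [hl, mul_one] at hwl
    have := Subgroup.mem_subgroupOf.1 w.2
    rwa [hwl] at this
  have hGp : IsPGroup 2 G := fun g => by
    obtain ⟨k, hk⟩ := h.exists_two_pow_mem_cV g
    obtain ⟨l, hl⟩ := CfsgLib.PCore.pCore_isPGroup (G := G) (p := 2) ⟨_, hCle hk⟩
    exact ⟨k + l, by rw [pow_add, pow_mul]; exact congrArg Subtype.val hl⟩
  obtain ⟨S⟩ := (inferInstance : Nonempty (Sylow 2 G))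
  obtain ⟨T, hT⟩ := h.two S
  exact hT (Sylow.ext ((T.is_maximal' (hGp.of_equiv Subgroup.topEquiv.symm) le_top).symm.trans
    (S.is_maximal' (hGp.of_equiv Subgroup.topEquiv.symm) le_top)))

/-- No element outside the centraliser of the 2-core squares into the 2-core. -/
theorem Setup.sq_not_mem (h : Setup G) {w : G} (hw : w ∉ cV G) : w ^ 2 ∉ pCore 2 G := by
  intro hw2
  have : (pCore 2 G).Normal := pCore_normal 2 G
  obtain ⟨kw, hkw⟩ := two_pow_of_sq_mem CfsgLib.PCore.pCore_isPGroup hw2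
  obtain ⟨R, hwR⟩ := exists_sylow_mem hkw
  have key : ∀ x ∈ cV G, x ^ 2 ∈ pCore 2 G → x ∈ (R : Subgroup G) := by
    intro x hxC hx2
    obtain ⟨kx, hkx⟩ := two_pow_of_sq_mem CfsgLib.PCore.pCore_isPGroup hx2
    set g := w * x with hg
    have hgC : g ∉ cV G := fun hh => hw ((Subgroup.mul_mem_cancel_right _ hxC).1 hh)
    obtain ⟨o, k, -, hoC, hok⟩ := h.exists_odd_pow hgC
    obtain ⟨R₁, hR₁⟩ := exists_sylow_mem hok
    have hconj : x * g * x⁻¹ = x * w := by rw [hg]; group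
    have hmem : g * (x * w) ∈ pCore 2 G := by
      have e : g * (x * w) = w * x ^ 2 * w⁻¹ * w ^ 2 := by simp [hg, pow_two, mul_assoc]
      rw [e]; exact mul_mem (Subgroup.Normal.conj_mem inferInstance _ hx2 w) hw2
    have h1 : QuotientGroup.mk' (pCore 2 G) (x * g * x⁻¹) =
        (QuotientGroup.mk' (pCore 2 G) g)⁻¹ := by
      rw [hconj, eq_inv_iff_mul_eq_one]
      have := (QuotientGroup.eq_one_iff (N := pCore 2 G) _).2 hmem
      rw [QuotientGroup.mk_mul] at this
      exact mul_eq_one_comm.1 this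
    have h2 : g ^ o * (x * g ^ o * x⁻¹) ∈ pCore 2 G := by
      rw [← QuotientGroup.eq_one_iff, ← conj_pow]
      show QuotientGroup.mk' (pCore 2 G) (g ^ o * (x * g * x⁻¹) ^ o) = 1
      rw [map_mul, map_pow, map_pow, h1, inv_pow, mul_inv_cancel]
    have h3 : x * g ^ o * x⁻¹ ∈ (R₁ : Subgroup G) :=
      (Subgroup.mul_mem_cancel_left _ hR₁).1 (pCore_le R₁ h2)
    have hxo : x * g ^ o * x⁻¹ ∉ cV G := fun hh => hoC (by
      have := Subgroup.Normal.conj_mem (inferInstance : (cV G).Normal) _ hh x⁻¹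
      simpa [mul_assoc] using this)
    have hxn : x • R₁ = R₁ := h.only_out hxo (conj_mem_smul_sylow.2 hR₁) h3
    have hgn : g • R₁ = R₁ := by
      refine h.only_out hoC ?_ hR₁
      have := (conj_mem_smul_sylow (g := g)).2 hR₁
      rwa [(Commute.self_pow g o).eq, mul_inv_cancel_right] at this
    have hwn : w • R₁ = R₁ := by
      have : w = g * x⁻¹ := by rw [hg, mul_inv_cancel_right]
      rw [this, mul_smul, show x⁻¹ • R₁ = R₁ by rw [inv_smul_eq_iff, hxn], hgn]
    have hwR₁ := mem_sylow_of_normalizes hkw (Sylow.smul_eq_iff_mem_normalizer.1 hwn)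
    rw [← h.only_out hw hwR₁ hwR]
    exact mem_sylow_of_normalizes hkx (Sylow.smul_eq_iff_mem_normalizer.1 hxn)
  obtain ⟨x, hxC, hxV, hx2⟩ := h.exists_sq_mem
  refine hxV (mem_pCore_of_forall R fun g => key _ (Subgroup.Normal.conj_mem inferInstance _ hxC g) ?_)
  rw [conj_pow]
  exact Subgroup.Normal.conj_mem inferInstance _ hx2 g

end CfsgLib.FTCons.CyclicInter
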