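import Cfsg.Agent.Lib.FTCons.GoldschmidtQuot
import Cfsg.Agent.Lib.FTCons.CommGen
import Cfsg.Agent.Lib.LBalance.Main
import Cfsg.Agent.Lib.SignalizerConn42
import Cfsg.Prelude.Def_Balance

/-!
Goldschmidt's functor of two core-separated four-subgroups is a signalizer functor (statement S1330),
given that groups of odd order are solvable.
-/

set_option autoImplicit false
set_option linter.style.haveILetI false

namespace CfsgLib.FTCons.GoldFunctor

open Subgroup CfsgLib.Components
open scoped commutatorElement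

universe u

local instance : Fact (Nat.Prime 2) := ⟨Nat.prime_two⟩

variable {G : Type u} [Group G]

/-- The factor of the functor belonging to one four-subgroup. -/
abbrev part (A₁ : Subgroup G) (a : G) : Subgroup G :=
  ⁅Cfsg.centralizerPPrimeCore 2 a, A₁⁆ ⊔
    (Cfsg.centralizerPPrimeCore 2 a ⊓ centralizerCore 2 (A₁ : Set G))

theorem isCoreSeparated_symm {A₁ A₂ : Subgroup G} (h : Cfsg.IsCoreSeparated A₁ A₂) :
    Cfsg.IsCoreSeparated A₂ A₁ := by
  obtain ⟨h1, h2, h3, h4, h5, h6, h7, h8⟩ := h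
  exact ⟨h2, h1, h4, h3, Ne.symm h5, by rw [inf_comm, h6], fun x hx y hy => (h7 y hy x hx).symm,
    fun a ha ha1 E hE => (h8 a (by rwa [sup_comm]) ha1 E hE).symm⟩

theorem elemAb_four {A₁ A₂ : Subgroup G} (h : Cfsg.IsCoreSeparated A₁ A₂) :
    Cfsg.IsElementaryAbelian 2 (A₁ ⊔ A₂ : Subgroup G) :=
  CfsgLib.SignalizerConn42.elemAb_sup h.1 h.2.1 h.2.2.2.2.2.2.1

theorem orderOf_mem {A : Subgroup G} (hA : Cfsg.IsElementaryAbelian 2 A) {a : G} (ha : a ∈ A)
    (ha1 : a ≠ 1) : orderOf a = 2 :=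
  orderOf_eq_prime (hA.2 a ha) ha1

theorem commute_mem {A : Subgroup G} (hA : Cfsg.IsElementaryAbelian 2 A) {a b : G} (ha : a ∈ A)
    (hb : b ∈ A) : a * b = b * a :=
  congrArg Subtype.val (hA.1.is_comm.comm ⟨a, ha⟩ ⟨b, hb⟩)

theorem le_centralizer_singleton {A : Subgroup G} (hA : Cfsg.IsElementaryAbelian 2 A) {a : G}
    (ha : a ∈ A) : A ≤ centralizer ({a} : Set G) := fun _ hx =>
  mem_centralizer_singleton_iff.mpr (commute_mem hA hx ha)

theorem isPGroup_subgroupOf {A : Subgroup G} (hA : Cfsg.IsElementaryAbelian 2 A) (C : Subgroup G) :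
    IsPGroup 2 (A.subgroupOf C) := fun x =>
  ⟨1, Subtype.ext (Subtype.ext (by simpa using hA.2 _ x.2))⟩

/-- `[W, A]` inside a subgroup containing both. -/
theorem subgroupOf_commutator {W A C : Subgroup G} (hW : W ≤ C) (hA : A ≤ C) :
    ⁅W, A⁆.subgroupOf C = ⁅W.subgroupOf C, A.subgroupOf C⁆ := by
  apply map_injective C.subtype_injective
  rw [map_commutator, map_subgroupOf_eq_of_le hW, map_subgroupOf_eq_of_le hA,
    map_subgroupOf_eq_of_le]
  exact commutator_le.mpr fun w hw a ha => by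
    rw [commutatorElement_def]
    exact mul_mem (mul_mem (mul_mem (hW hw) (hA ha)) (inv_mem (hW hw))) (inv_mem (hA ha))

variable [Finite G]

theorem coprime_core {A : Subgroup G} (hA : Cfsg.IsElementaryAbelian 2 A) {W : Subgroup G} {a : G}
    (hW : W ≤ Cfsg.centralizerPPrimeCore 2 a) : (Nat.card A).Coprime (Nat.card W) := by
  obtain ⟨k, hk⟩ := IsPGroup.iff_card.mp
    (fun x : A => ⟨1, Subtype.ext (by simpa using hA.2 x x.2)⟩ : IsPGroup 2 A)
  rw [hk]
  exact Nat.Coprime.pow_left k
    ((card_centralizerCore_coprime (p := 2) ({a} : Set G)).symm.coprime_dvd_right (card_dvd_of_le hW))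

theorem le_normalizer_core {A : Subgroup G} (hA : Cfsg.IsElementaryAbelian 2 A) {a : G} (ha : a ∈ A) :
    A ≤ normalizer (Cfsg.centralizerPPrimeCore 2 a : Set G) := by
  rw [le_normalizer_iff]
  intro c hc y hy
  rw [centralizerPPrimeCore_eq_zpowers] at hy ⊢
  refine conj_mem_centralizerCore (centralizer_le_normalizer _ ?_) hy
  rw [← centralizer_singleton_eq]
  exact le_centralizer_singleton hA ha hc

theorem le_normalizer_fourCore {A B : Subgroup G} (hA : Cfsg.IsElementaryAbelian 2 A) (hB : B ≤ A) :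
    A ≤ normalizer (centralizerCore 2 (B : Set G) : Set G) := by
  rw [le_normalizer_iff]
  intro c hc y hy
  exact conj_mem_centralizerCore (centralizer_le_normalizer _
    (mem_centralizer_iff.mpr fun b hb => commute_mem hA (hB hb) hc)) hy

/-- Core separation in the quotient by the core. -/
theorem central_or {A₁ A₂ : Subgroup G} (h : Cfsg.IsCoreSeparated A₁ A₂) {b : G}
    (hb : b ∈ A₁ ⊔ A₂) (hb1 : b ≠ 1)
    {L : Subgroup (↥(centralizer ({b} : Set G)) ⧸ Cfsg.pPrimeCore 2 _)} (hL : Cfsg.IsComponent L) :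
    (A₁.subgroupOf (centralizer ({b} : Set G))).map (quo _) ≤ centralizer (L : Set _) ∨
      (A₂.subgroupOf (centralizer ({b} : Set G))).map (quo _) ≤ centralizer (L : Set _) := by
  obtain ⟨E, ⟨hE, hEL⟩, -⟩ := existsUnique_pComponent (p := 2) hL
  have key : ∀ A : Subgroup G, A ≤ A₁ ⊔ A₂ → ⁅E.map (centralizer ({b} : Set G)).subtype, A⁆ ≤ Cfsg.centralizerPPrimeCore 2 b →
      (A.subgroupOf (centralizer ({b} : Set G))).map (quo _) ≤ centralizer (L : Set _) := by
    intro A hA hcomm
    have hAC : A ≤ centralizer ({b} : Set G) := hA.trans (le_centralizer_singleton (elemAb_four h) hb)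
    refine le_centralizer_iff.mp (le_centralizer_of_commutator_eq_bot ?_)
    rw [← hEL, ← map_commutator, Subgroup.map_eq_bot_iff, QuotientGroup.ker_mk',
      ← map_le_map_iff_of_injective (subtype_injective (centralizer ({b} : Set G))), map_commutator,
      map_subgroupOf_eq_of_le hAC]
    exact hcomm
  exact (h.2.2.2.2.2.2.2 b hb hb1 E hE).imp (key A₁ le_sup_left) (key A₂ le_sup_right)

/-- A subgroup of the core of `C(a)` centralising all components modulo `O(C)` lies in `O(C)`. -/
theorem le_core {C : Subgroup G} {a : G} (haC : a ∈ C) (ha : orderOf a = 2) {W : Subgroup G}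
    (hWC : W ≤ C) (hW : W ≤ Cfsg.centralizerPPrimeCore 2 a)
    (h : ∀ L : Subgroup (↥C ⧸ Cfsg.pPrimeCore 2 ↥C), Cfsg.IsComponent L →
      ⁅L, (W.subgroupOf C).map (quo C)⁆ = ⊥) :
    W ≤ (Cfsg.pPrimeCore 2 ↥C).map C.subtype := by
  set a' : C := ⟨a, haC⟩
  have ha' : orderOf a' = 2 := by rw [← Subgroup.orderOf_coe]; exact ha
  have hA : ∀ z ∈ zpowers a', z = 1 ∨ z = a' := by
    intro z hz
    obtain ⟨k, rfl⟩ := mem_zpowers_iff.1 hz
    rw [← zpow_mod_orderOf, ha']
    rcases Int.emod_two_eq_zero_or_one k with e | e <;> norm_num [e]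
  have hle : W.subgroupOf C ≤ Cfsg.pPrimeCore 2 ↥C := by
    refine le_pPrimeCore_of_reduced (isPGroup_zpowers ha')
      (fun e => by rw [zpowers_eq_bot] at e; rw [e, orderOf_one] at ha'; omega) ?_ ?_ h
    · intro z hz hz1
      obtain rfl := (hA z hz).resolve_left hz1
      exact (comap_mono hW).trans (centralizerPPrimeCore_subgroupOf_le C a')
    · intro z hz
      rcases hA z hz with rfl | rfl
      · exact one_pow _
      · rw [← ha', pow_orderOf_eq_one]
  rw [← map_subgroupOf_eq_of_le hWC]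
  exact map_mono hle

/-- `C(A₁)` meets `[O_a, A₁]` in `O(C(A₁))`. -/
theorem fixed_le_core (hFT : OddSolvable.{u}) {A₁ A₂ : Subgroup G} (h : Cfsg.IsCoreSeparated A₁ A₂)
    {a : G} (ha : a ∈ A₁ ⊔ A₂) (ha1 : a ≠ 1) :
    ⁅Cfsg.centralizerPPrimeCore 2 a, A₁⁆ ⊓ centralizer (A₁ : Set G) ≤
      centralizerCore 2 (A₁ : Set G) := by
  have hA := elemAb_four h
  have hA₁ : Cfsg.IsElementaryAbelian 2 A₁ := h.1
  haveI : IsMulCommutative A₁ := hA₁.1
  have hao := orderOf_mem hA ha ha1
  set Oa := Cfsg.centralizerPPrimeCore 2 a with hOa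
  set Y := ⁅Oa, A₁⁆ with hY
  have hA₁N : A₁ ≤ normalizer (Oa : Set G) := le_sup_left.trans (le_normalizer_core hA ha)
  have hYO : Y ≤ Oa := CfsgLib.Coprime.commutator_le_of_normalizes hA₁N
  set C := centralizer (A₁ : Set G) with hC
  have hAC : A₁ ⊔ A₂ ≤ C := fun x hx =>
    mem_centralizer_iff.mpr fun y hy => commute_mem hA (mem_sup_left hy) hx
  refine le_core (hAC ha) hao inf_le_right (inf_le_left.trans hYO) fun L hL => ?_
  set aC : C := ⟨a, hAC ha⟩ with haC
  have haCo : orderOf aC = 2 := by rw [← Subgroup.orderOf_coe]; exact hao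
  have hWle : (Y ⊓ C).subgroupOf C ≤ Cfsg.centralizerPPrimeCore 2 aC :=
    (comap_mono (inf_le_left.trans hYO)).trans (centralizerPPrimeCore_subgroupOf_le C aC)
  by_cases hne : ⁅L, zpowers (quo C aC)⁆ = L
  swap
  · exact map_core_commutes haCo hL hne hWle
  obtain ⟨L', ⟨hL', hLL'⟩, -⟩ := existsUnique_pComponent (p := 2) hL
  rw [commutator_comm]
  refine commutator_eq_bot_iff_le_centralizer.mpr (map_le_iff_le_comap.mpr ?_)
  suffices hsuf : Y ⊓ C ≤ ((centralizer (L : Set _)).comap (quo C)).map C.subtype by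
    intro x hx
    obtain ⟨y, hy, hyx⟩ := hsuf hx
    rwa [← show y = x from Subtype.ext hyx]
  -- generation of the fixed points
  have hcop : (Nat.card A₁).Coprime (Nat.card Y) := coprime_core hA₁ hYO
  have hYodd : Odd (Nat.card Y) := by
    rw [← Nat.not_even_iff_odd, even_iff_two_dvd]
    intro h2
    exact Nat.prime_two.coprime_iff_not_dvd.mp
      (card_centralizerCore_coprime (p := 2) ({a} : Set G)).symm (h2.trans (card_dvd_of_le hYO))
  have hYA : ⁅Y, A₁⁆ = Y := CfsgLib.Coprime.commutator_commutator_eq A₁ Oa hA₁N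
    (coprime_core hA₁ le_rfl) (Or.inl (CfsgLib.CommGen.solvable_of_le (A := A₁) le_rfl))
  have hAY : A₁ ≤ normalizer (Y : Set G) :=
    CfsgLib.Coprime.le_normalizer_commutator_right Oa A₁
  refine (CfsgLib.CommGen.le_gen_aux _ G A₁ A₁ Y le_rfl hAY hcop (hFT Y hYodd) hYA rfl).trans
    (iSup₂_le fun B₀ hB₀ => ?_)
  obtain ⟨a', ha'B, ha'1⟩ : ∃ a' ∈ B₀, a' ≠ 1 := by
    by_contra hcon
    push Not at hcon
    obtain ⟨-, x, hx, hgen⟩ := hB₀
    rw [(eq_bot_iff_forall B₀).mpr hcon, bot_sup_eq] at hgen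
    have h4 := h.2.2.1
    rw [← hgen, Nat.card_zpowers] at h4
    have := Nat.le_of_dvd two_pos (orderOf_dvd_of_pow_eq_one (hA₁.2 x hx))
    omega
  have ha'A : a' ∈ A₁ := hB₀.1 ha'B
  set C' := centralizer ({a'} : Set G) with hC'
  have hCC' : C ≤ C' := centralizer_le (Set.singleton_subset_iff.mpr ha'A)
  set T := A₁.subgroupOf C' with hT
  have hTp : IsPGroup 2 T := isPGroup_subgroupOf hA₁ C'
  have hA₁C' : A₁ ≤ C' := (le_sup_left.trans hAC).trans hCC'
  let φ : C →* ↥C' ⧸ Cfsg.pPrimeCore 2 ↥C' := (quo C').comp (inclusion hCC')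
  have hker : φ.ker ≤ Cfsg.pPrimeCore 2 ↥C := fun x hx =>
    CfsgLib.PCore.comap_pPrimeCore_le (inclusion hCC') (inclusion_injective hCC') (x := x)
      ((QuotientGroup.eq_one_iff (inclusion hCC' x)).mp (MonoidHom.mem_ker.mp hx))
  have hCT : C.subgroupOf C' = centralizer (T : Set C') := by
    ext x
    simp only [mem_subgroupOf, hC, mem_centralizer_iff]
    constructor
    · exact fun hx t ht => Subtype.ext (hx t ht)
    · exact fun hx t ht => congrArg Subtype.val (hx ⟨t, hA₁C' ht⟩ ht)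
  -- the image of `L'` is in the layer
  have hlayer : L'.map φ ≤ Cfsg.layer _ := by
    let e : C ≃* ↥(centralizer (T : Set C')) :=
      (subgroupOfEquivOfLe hCC').symm.trans (MulEquiv.subgroupCongr hCT)
    have hL'' : Cfsg.IsPComponent 2 (L'.map e.toMonoidHom) := by
      refine CfsgLib.Tech46.BBalance.isPComponent_map e.surjective hL' fun hle => ?_
      have h2 := pComponent_dvd_card hL'
      rw [← card_map_of_injective (K := L') (f := e.toMonoidHom) e.injective] at h2
      exact CfsgLib.PCore.not_dvd_card_pPrimeCore (h2.trans (card_dvd_of_le hle))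
    have h1 : (L'.map e.toMonoidHom).map (centralizer (T : Set C')).subtype ≤ Cfsg.pLayer 2 ↥C' :=
      (map_mono (pComponent_le_pLayer hL'')).trans
        (CfsgLib.LBalance.map_pLayer_centralizer_le_two hTp)
    rw [← map_pLayer]
    refine le_trans ?_ (map_mono h1)
    rintro _ ⟨x, hx, rfl⟩
    exact ⟨_, ⟨_, ⟨x, hx, rfl⟩, rfl⟩, rfl⟩
  -- lifting the components centralised by `A₁`
  have hrange : ∀ F : Subgroup (↥C' ⧸ Cfsg.pPrimeCore 2 ↥C'),
      T.map (quo C') ≤ centralizer (F : Set _) → F ≤ φ.range := by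
    intro F hF q hq
    obtain ⟨x, hx, rfl⟩ := le_range_of_fixed hTp hF hq
    exact ⟨⟨x, (hCT.ge hx : _)⟩, rfl⟩
  by_cases hex : ∃ F : Subgroup (↥C' ⧸ Cfsg.pPrimeCore 2 ↥C'), Cfsg.IsComponent F ∧
      T.map (quo C') ≤ centralizer (F : Set _) ∧ L ≤ (F.comap φ).map (quo C)
  · obtain ⟨F, hF, hFT, hLF⟩ := hex
    have hL'F : L' ≤ F.comap φ := by
      refine (pComponent_le_pElemClosure hL').trans ((pElemClosure_mono ?_).trans
        (pElemClosure_le_of_coprime (hF.1.comap φ)
          ((relIndex_dvd_card_of_le_sup le_sup_left le_rfl |> fun h =>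
            CfsgLib.PCore.pPrimeCore_coprime.coprime_dvd_left h) :
              ((F.comap φ).relIndex (F.comap φ ⊔ Cfsg.pPrimeCore 2 ↥C)).Coprime 2)))
      rw [← QuotientGroup.ker_mk' (Cfsg.pPrimeCore 2 ↥C), ← comap_map_eq, ← map_le_iff_le_comap]
      exact hLL'.le.trans hLF
    rintro v hv
    obtain ⟨⟨hvY, hvC⟩, hv2⟩ := hv
    refine ⟨⟨v, hvC⟩, ?_, rfl⟩
    have hV0 : Y ⊓ centralizer (B₀ : Set G) ≤ C' :=
      inf_le_right.trans (centralizer_le (Set.singleton_subset_iff.mpr ha'B))
    have haC' : a ∈ C' := hCC' (hAC ha)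
    have hord : orderOf (⟨a, haC'⟩ : C') = 2 := by rw [← Subgroup.orderOf_coe]; exact hao
    have hVle : (Y ⊓ centralizer (B₀ : Set G)).subgroupOf C' ≤
        Cfsg.centralizerPPrimeCore 2 (⟨a, haC'⟩ : C') :=
      (comap_mono (f := C'.subtype)
        ((inf_le_left : Y ⊓ centralizer (B₀ : Set G) ≤ Y).trans hYO)).trans
        (centralizerPPrimeCore_subgroupOf_le C' (⟨a, haC'⟩ : C'))
    have hN := map_core_normalizes hord hF hVle
    have hmem : φ ⟨v, hvC⟩ ∈ centralizer (F : Set _) := by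
      refine commutator_le_centralizer hN hFT ?_
      rw [← map_commutator]
      refine ⟨⟨v, hCC' hvC⟩, ?_, rfl⟩
      rw [← subgroupOf_commutator hV0 hA₁C']
      exact hv2
    show quo C ⟨v, hvC⟩ ∈ centralizer (L : Set _)
    rw [mem_centralizer_iff]
    intro q hq
    rw [← hLL'] at hq
    obtain ⟨l, hl, rfl⟩ := hq
    rw [← commutatorElement_eq_one_iff_mul_comm, ← map_commutatorElement]
    refine (QuotientGroup.eq_one_iff _).mpr (hker ?_)
    rw [MonoidHom.mem_ker, map_commutatorElement, commutatorElement_eq_one_iff_mul_comm]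
    exact mem_centralizer_iff.mp hmem _ (hL'F hl)
  exfalso
  push Not at hex
  -- `L'` centralises the components centralised by `A₁`
  set H := L'.map φ with hH
  set P₁ := sSup {F : Subgroup (↥C' ⧸ Cfsg.pPrimeCore 2 ↥C') |
    Cfsg.IsComponent F ∧ T.map (quo C') ≤ centralizer (F : Set _)} with hP₁
  set P₂ := sSup {F : Subgroup (↥C' ⧸ Cfsg.pPrimeCore 2 ↥C') |
    Cfsg.IsComponent F ∧ ¬ T.map (quo C') ≤ centralizer (F : Set _)} with hP₂
  have hHP₁ : H ≤ centralizer (P₁ : Set _) := by
    refine le_centralizer_iff.mp (sSup_le fun F hF => ?_)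
    obtain ⟨hF, hFT⟩ := hF
    have hFmap : (F.comap φ).map φ = F := by rw [map_comap_eq, inf_eq_right.mpr (hrange F hFT)]
    have hbot : ⁅L, (F.comap φ).map (quo C)⁆ = ⊥ :=
      (le_or_commutator_eq_bot hL
        ((hF.1.comap φ).map (QuotientGroup.mk'_surjective _))).resolve_left (hex F hF hFT)
    refine le_centralizer_of_commutator_eq_bot (odd_normalized (R := (Cfsg.pPrimeCore 2 ↥C).map φ)
      quo_core_eq_bot hF (hlayer.trans (layer_le_normalizer_component hF)) ?_ ?_ ?_)
    · exact fun h2 => CfsgLib.PCore.not_dvd_card_pPrimeCore (h2.trans (card_map_dvd _ _))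
    · refine (hrange F hFT).trans ?_
      rw [MonoidHom.range_eq_map]
      exact (map_mono (normalizer_eq_top (Cfsg.pPrimeCore 2 ↥C)).ge).trans (le_normalizer_map φ)
    · rw [← hLL', ← map_commutator, Subgroup.map_eq_bot_iff, QuotientGroup.ker_mk'] at hbot
      rw [← hFmap, hH, ← map_commutator]
      refine map_mono ?_
      rw [commutator_comm]
      exact hbot
  have hP12 : P₁ ≤ centralizer (P₂ : Set _) := by
    refine sSup_le fun F hF => le_centralizer_iff.mp (sSup_le fun F' hF' => ?_)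
    exact le_centralizer_of_commutator_eq_bot
      (commutator_components_eq_bot hF'.1 hF.1 fun e => hF'.2 (e ▸ hF.2))
  have hHP : H ≤ P₁ ⊔ P₂ := hlayer.trans (sSup_le fun F hF => by
    by_cases hFT : T.map (quo C') ≤ centralizer (F : Set _)
    · exact le_sup_of_le_left (le_sSup ⟨hF, hFT⟩)
    · exact le_sup_of_le_right (le_sSup ⟨hF, hFT⟩))
  have hP₂c : P₂ ≤ centralizer ((A₂.subgroupOf C').map (quo C') : Set _) :=
    sSup_le fun F hF => le_centralizer_iff.mp
      ((central_or h (mem_sup_left ha'A) ha'1 hF.1).resolve_left hF.2)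
  have hperf : ⁅H, H⁆ = H := by
    rw [hH, ← map_commutator, pComponent_commutator_self hL']
  have hH₂ : H ≤ centralizer ((A₂.subgroupOf C').map (quo C') : Set _) := by
    refine hperf.ge.trans (le_trans ?_ hP₂c)
    rw [commutator_le]
    intro x hx y hy
    obtain ⟨p, hp, q, hq, rfl⟩ := CfsgLib.Coprime.exists_mul_of_mem_sup
      (hP12.trans (centralizer_le_normalizer _)) (hHP hx)
    obtain ⟨r, hr, s, hs, rfl⟩ := CfsgLib.Coprime.exists_mul_of_mem_sup
      (hP12.trans (centralizer_le_normalizer _)) (hHP hy)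
    have hpq : ∀ z ∈ P₁, ∀ w ∈ P₂, z * w = w * z := fun z hz w hw =>
      (mem_centralizer_iff.mp (hP12 hz) w hw).symm
    have hc : ∀ z ∈ P₁, Commute p z ∧ Commute r z := fun z hz => by
      have h1 := mem_centralizer_iff.mp (hHP₁ hx) z hz
      have h2 := mem_centralizer_iff.mp (hHP₁ hy) z hz
      constructor
      · have h3 : Commute (p * q * q⁻¹) z :=
          (show Commute (p * q) z from h1.symm).mul_left (show Commute q z from (hpq z hz q hq).symm).inv_left
        rwa [mul_inv_cancel_right] at h3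
      · have h3 : Commute (r * s * s⁻¹) z :=
          (show Commute (r * s) z from h2.symm).mul_left (show Commute s z from (hpq z hz s hs).symm).inv_left
        rwa [mul_inv_cancel_right] at h3
    have e : ⁅p * q, r * s⁆ = ⁅q, s⁆ := by
      have hpr : Commute p r := (hc r hr).1
      have hps : Commute p s := hpq p hp s hs
      have hqr : Commute q r := (hpq r hr q hq).symm
      have hpq' : Commute p q := hpq p hp q hq
      have hrs : Commute r s := hpq r hr s hs
      have hpqs : Commute p (q * s * q⁻¹) := (hpq'.mul_right hps).mul_right hpq'.inv_right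
      rw [commutatorElement_def, commutatorElement_def, mul_inv_rev, mul_inv_rev]
      calc p * q * (r * s) * (q⁻¹ * p⁻¹) * (s⁻¹ * r⁻¹)
          = p * (q * r) * s * q⁻¹ * p⁻¹ * s⁻¹ * r⁻¹ := by group
        _ = p * r * (q * s * q⁻¹) * p⁻¹ * s⁻¹ * r⁻¹ := by rw [hqr.eq]; group
        _ = r * (p * (q * s * q⁻¹)) * p⁻¹ * s⁻¹ * r⁻¹ := by rw [hpr.eq]; group
        _ = r * (q * s * q⁻¹ * s⁻¹) * r⁻¹ := by rw [hpqs.eq]; group
        _ = q * s * q⁻¹ * s⁻¹ := by
          rw [((hqr.symm.mul_right hrs).mul_right hqr.symm.inv_right |>.mul_right hrs.inv_right).eq,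
            mul_inv_cancel_right]
    rw [e, commutatorElement_def]
    exact mul_mem (mul_mem (mul_mem hq hs) (inv_mem hq)) (inv_mem hs)
  have hH₁ : H ≤ centralizer (T.map (quo C') : Set _) := by
    rw [le_centralizer_iff]
    rintro _ ⟨t, ht, rfl⟩
    rw [mem_centralizer_iff]
    rintro _ ⟨l, -, rfl⟩
    show quo C' (inclusion hCC' l) * quo C' t = quo C' t * quo C' (inclusion hCC' l)
    rw [← map_mul, ← map_mul]
    refine congrArg _ (Subtype.ext ?_)
    exact (mem_centralizer_iff.mp l.2 t ht).symm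
  obtain ⟨a₁, ha₁, a₂, ha₂, haeq⟩ := CfsgLib.Coprime.exists_mul_of_mem_sup
    (show A₁ ≤ normalizer (A₂ : Set G) from fun x hx => centralizer_le_normalizer _
      (mem_centralizer_iff.mpr fun y hy => commute_mem hA (mem_sup_right hy) (mem_sup_left hx))) ha
  have hLc : L ≤ centralizer (zpowers (quo C aC) : Set _) := by
    rw [← centralizer_singleton_eq, ← hLL']
    rintro _ ⟨l, hl, rfl⟩
    rw [mem_centralizer_singleton_iff, ← commutatorElement_eq_one_iff_mul_comm, ← map_commutatorElement]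
    refine (QuotientGroup.eq_one_iff _).mpr (hker ?_)
    rw [MonoidHom.mem_ker, map_commutatorElement, commutatorElement_eq_one_iff_mul_comm]
    have h2C : a₂ ∈ C' := hCC' (hAC (mem_sup_right ha₂))
    have e : φ aC = quo C' ⟨a₁, hA₁C' ha₁⟩ * quo C' ⟨a₂, h2C⟩ := by
      rw [← map_mul]
      exact congrArg (quo C') (Subtype.ext haeq)
    rw [e]
    have c1 : Commute (φ l) (quo C' ⟨a₁, hA₁C' ha₁⟩) :=
      (mem_centralizer_iff.mp (hH₁ (mem_map_of_mem φ hl)) _ ⟨_, ha₁, rfl⟩).symm
    have c2 : Commute (φ l) (quo C' ⟨a₂, h2C⟩) :=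
      (mem_centralizer_iff.mp (hH₂ (mem_map_of_mem φ hl)) _ ⟨_, ha₂, rfl⟩).symm
    exact (c1.mul_right c2).eq
  exact component_ne_bot hL (hne ▸ commutator_eq_bot_iff_le_centralizer.mpr hLc)

theorem part_le {A₁ A : Subgroup G} (hA : Cfsg.IsElementaryAbelian 2 A) (h₁ : A₁ ≤ A) {a : G}
    (ha : a ∈ A) : part A₁ a ≤ Cfsg.centralizerPPrimeCore 2 a :=
  sup_le (CfsgLib.Coprime.commutator_le_of_normalizes (h₁.trans (le_normalizer_core hA ha))) inf_le_left

theorem part_centralizer_le (hFT : OddSolvable.{u}) {A₁ A₂ : Subgroup G}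
    (h : Cfsg.IsCoreSeparated A₁ A₂) {a : G} (ha : a ∈ A₁ ⊔ A₂) (ha1 : a ≠ 1) :
    part A₁ a ⊓ centralizer (A₁ : Set G) ≤ centralizerCore 2 (A₁ : Set G) := by
  rintro y ⟨hy, hyc⟩
  have hy' : y ∈ (Cfsg.centralizerPPrimeCore 2 a ⊓ centralizerCore 2 (A₁ : Set G)) ⊔
      ⁅Cfsg.centralizerPPrimeCore 2 a, A₁⁆ := by rw [sup_comm]; exact hy
  obtain ⟨v, hv, w, hw, rfl⟩ := CfsgLib.Coprime.exists_mul_of_mem_sup
    (inf_le_left.trans (CfsgLib.Coprime.le_normalizer_commutator_left _ _)) hy'
  have hwc : w ∈ centralizer (A₁ : Set G) := by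
    have := mul_mem (inv_mem (centralizerCore_le_centralizer _ hv.2)) hyc
    rwa [inv_mul_cancel_left] at this
  exact mul_mem hv.2 (fixed_le_core hFT h ha ha1 ⟨hw, hwc⟩)

/-- Balance, with respect to one of the two subgroups. -/
theorem inf_centralizer_le (hFT : OddSolvable.{u}) {A₁ A₂ : Subgroup G}
    (h : Cfsg.IsCoreSeparated A₁ A₂) {a b : G} (ha : a ∈ A₁ ⊔ A₂) (ha1 : a ≠ 1)
    (hb : b ∈ A₁ ⊔ A₂) (hb1 : b ≠ 1) :
    part A₁ a ⊓ part A₂ a ⊓ centralizer ({b} : Set G) ≤ part A₁ b := by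
  have h' := isCoreSeparated_symm h
  have hA := elemAb_four h
  set A := A₁ ⊔ A₂
  set C := centralizer ({b} : Set G)
  set X := part A₁ a ⊓ part A₂ a ⊓ C with hX
  have hAC : A ≤ C := le_centralizer_singleton hA hb
  have hXC : X ≤ C := inf_le_right
  have hXO : X ≤ Cfsg.centralizerPPrimeCore 2 a :=
    inf_le_left.trans (inf_le_left.trans (part_le hA le_sup_left ha))
  have hAX : A ≤ normalizer (X : Set G) := by
    have hp : ∀ B : Subgroup G, B ≤ A → A ≤ normalizer (part B a : Set G) := fun B hB => by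
      refine (le_inf ?_ ?_).trans (normalizer_inf_normalizer_le_normalizer_sup _ _)
      · exact CfsgLib.CommGen.le_normalizer_commutator (le_normalizer_core hA ha)
          fun x hx => centralizer_le_normalizer _
            (mem_centralizer_iff.mpr fun y hy => commute_mem hA (hB hy) hx)
      · exact (le_inf (le_normalizer_core hA ha) (le_normalizer_fourCore hA hB)).trans
          inf_normalizer_le_normalizer_inf
    exact (le_inf ((le_inf (hp _ le_sup_left) (hp _ le_sup_right)).trans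
      inf_normalizer_le_normalizer_inf) (hAC.trans le_normalizer)).trans inf_normalizer_le_normalizer_inf
  have hdec : ∀ B : Subgroup G, Cfsg.IsElementaryAbelian 2 B → B ≤ A →
      X ≤ ⁅X, B⁆ ⊔ (X ⊓ centralizer (B : Set G)) := fun B hB hBA => by
    haveI := hB.1
    exact (CfsgLib.Coprime.commutator_sup_centralizer B X (hBA.trans hAX) (coprime_core hB hXO)
      (Or.inl (CfsgLib.CommGen.solvable_of_le (A := B) le_rfl))).ge
  have hao : orderOf (⟨a, hAC ha⟩ : C) = 2 := by
    rw [← Subgroup.orderOf_coe]; exact orderOf_mem hA ha ha1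
  -- `X ≤ O(C(b))`
  have hXb : X ≤ Cfsg.centralizerPPrimeCore 2 b := by
    refine le_core (hAC ha) (orderOf_mem hA ha ha1) hXC hXO fun L hL => ?_
    have hXle : X.subgroupOf C ≤ Cfsg.centralizerPPrimeCore 2 (⟨a, hAC ha⟩ : C) :=
      (comap_mono (f := C.subtype) hXO).trans
        (centralizerPPrimeCore_subgroupOf_le C (⟨a, hAC ha⟩ : C))
    have hN := map_core_normalizes hao hL hXle
    rw [commutator_comm]
    refine commutator_eq_bot_iff_le_centralizer.mpr ?_
    have key : ∀ B : Subgroup G, Cfsg.IsElementaryAbelian 2 B → B ≤ A →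
        (X ⊓ centralizer (B : Set G) ≤ centralizerCore 2 (B : Set G)) →
        (B.subgroupOf C).map (quo C) ≤ centralizer (L : Set _) →
        (X.subgroupOf C).map (quo C) ≤ centralizer (L : Set _) := by
      intro B hB hBA hfix hBL
      have hBC : B ≤ C := hBA.trans hAC
      refine (map_mono (comap_mono (hdec B hB hBA))).trans ?_
      rw [← subgroupOf, subgroupOf_sup ((commutator_mono hXC hBC).trans (commutator_le_self C))
        (inf_le_left.trans hXC), Subgroup.map_sup, sup_le_iff, subgroupOf_commutator hXC hBC,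
        map_commutator]
      refine ⟨commutator_le_centralizer hN hBL, le_centralizer_of_commutator_eq_bot ?_⟩
      rw [commutator_comm]
      exact core_commutes hL (isPGroup_subgroupOf hB C) hBL
        ((comap_mono hfix).trans (centralizerCore_subgroupOf_le C B hBC))
        ((map_mono (comap_mono inf_le_left)).trans hN)
    rcases central_or h hb hb1 hL with hc | hc
    · exact key A₁ h.1 le_sup_left ((inf_le_inf_right _ (inf_le_left.trans inf_le_left)).trans
        (part_centralizer_le hFT h ha ha1)) hc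
    · exact key A₂ h.2.1 le_sup_right ((inf_le_inf_right _ (inf_le_left.trans inf_le_right)).trans
        (part_centralizer_le hFT h' (by rwa [sup_comm]) ha1)) hc
  refine (hdec A₁ h.1 le_sup_left).trans (sup_le_sup (commutator_mono hXb le_rfl) (le_inf ?_ ?_))
  · exact inf_le_left.trans hXb
  · exact (inf_le_inf_right _ (inf_le_left.trans inf_le_left)).trans (part_centralizer_le hFT h ha ha1)

theorem isSignalizerFunctor (hFT : OddSolvable.{u}) (A₁ A₂ : Subgroup G)
    (h : Cfsg.IsCoreSeparated A₁ A₂) :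
    Cfsg.IsSignalizerFunctor 2 (A₁ ⊔ A₂) (fun a => part A₁ a ⊓ part A₂ a) := by
  have hA := elemAb_four h
  refine ⟨fun a ha _ => inf_le_left.trans ((part_le hA le_sup_left ha).trans (map_subtype_le _)),
    fun a ha _ h2 => ?_, fun a ha _ c hc x hx => ?_, fun a ha ha1 b hb hb1 => ?_⟩
  · exact Nat.prime_two.coprime_iff_not_dvd.mp
      (card_centralizerCore_coprime (p := 2) ({a} : Set G)).symm
      (h2.trans (card_dvd_of_le (inf_le_left.trans (part_le hA le_sup_left ha))))
  · have hp : ∀ B : Subgroup G, B ≤ A₁ ⊔ A₂ → A₁ ⊔ A₂ ≤ normalizer (part B a : Set G) := fun B hB => by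
      refine (le_inf ?_ ?_).trans (normalizer_inf_normalizer_le_normalizer_sup _ _)
      · exact CfsgLib.CommGen.le_normalizer_commutator (le_normalizer_core hA ha)
          fun z hz => centralizer_le_normalizer _
            (mem_centralizer_iff.mpr fun y hy => commute_mem hA (hB hy) hz)
      · exact (le_inf (le_normalizer_core hA ha) (le_normalizer_fourCore hA hB)).trans
          inf_normalizer_le_normalizer_inf
    exact ⟨(mem_normalizer_iff.mp (hp _ le_sup_left hc) x).mp hx.1,
      (mem_normalizer_iff.mp (hp _ le_sup_right hc) x).mp hx.2⟩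
  · refine le_inf (inf_centralizer_le hFT h ha ha1 hb hb1) ?_
    refine le_trans ?_ (inf_centralizer_le hFT (isCoreSeparated_symm h)
      (by rwa [sup_comm]) ha1 (by rwa [sup_comm]) hb1)
    exact le_inf (le_inf (inf_le_left.trans inf_le_right) (inf_le_left.trans inf_le_left)) inf_le_right

end CfsgLib.FTCons.GoldFunctor
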