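import Cfsg.Agent.Lib.FTCons.Basic
import Cfsg.Agent.Lib.FTCons.CyclicInter
import Cfsg.Agent.S3305

/-!
Solvable normal subgroups of non-solvable groups with cyclic intersections of Sylow 2-subgroups,
given that groups of odd order are solvable.
-/

set_option autoImplicit false

namespace CfsgLib.FTCons

open Cfsg Subgroup CyclicInter

universe u

theorem OddSolvable.solvable_of_subsingleton_sylow (hFT : OddSolvable.{u}) {G : Type u} [Group G]
    [Finite G] [Subsingleton (Sylow 2 G)] : Group.IsSolvable G := by
  obtain ⟨S⟩ := (inferInstance : Nonempty (Sylow 2 G))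
  have hn : (S : Subgroup G).Normal := Sylow.normal_of_subsingleton S
  have hQ : Group.IsSolvable (G ⧸ (S : Subgroup G)) := by
    refine hFT _ ?_
    rw [← Subgroup.index_eq_card, ← Nat.not_even_iff_odd, even_iff_two_dvd]
    exact S.not_dvd_index
  have hS : Group.IsSolvable ↥(S : Subgroup G) := by
    haveI := S.isPGroup'.isNilpotent; infer_instance
  exact solvable_of_ker_le_range (S : Subgroup G).subtype (QuotientGroup.mk' (S : Subgroup G))
    (by rw [QuotientGroup.ker_mk', Subgroup.range_subtype])

theorem setup_quotient_oddCore (hFT : OddSolvable.{u}) {G : Type u} [Group G] [Finite G]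
    (hns : ¬ Group.IsSolvable G)
    (hC : ∀ S T : Sylow 2 G, S ≠ T → IsCyclic ↥((S : Subgroup G) ⊓ (T : Subgroup G))) :
    Setup (G ⧸ oddCore G) := by
  refine ⟨Cfsg.Agent.S3305.result hC (oddCore G), fun S => ?_,
    CfsgLib.InvChar.oddCore_quotient_oddCore⟩
  by_contra hno
  push Not at hno
  haveI : Subsingleton (Sylow 2 (G ⧸ oddCore G)) :=
    ⟨fun a b => (hno a).trans (hno b).symm⟩
  have hQ := hFT.solvable_of_subsingleton_sylow (G := G ⧸ oddCore G)
  have hO : Group.IsSolvable ↥(oddCore G) := by
    refine hFT _ ?_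
    rw [← Nat.not_even_iff_odd, even_iff_two_dvd]
    exact CfsgLib.PCore.not_dvd_card_pPrimeCore
  exact hns (solvable_of_ker_le_range (oddCore G).subtype (QuotientGroup.mk' (oddCore G))
    (by rw [QuotientGroup.ker_mk', Subgroup.range_subtype]))

/-- A solvable normal subgroup lies in the central cyclic 2-core. -/
theorem solvable_normal_le_pCore {G : Type u} [Group G] [Finite G] (h : Setup G)
    (M : Subgroup G) [M.Normal] [Group.IsSolvable ↥M] : M ≤ pCore 2 G := by
  haveI : IsCyclic ↥(pCore 2 G) := h.cyclic_pCore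
  refine CfsgLib.PCore.le_pCore inferInstance ?_
  refine CfsgLib.InvChar.isPGroup_two_of_odd_centralize
    (CfsgLib.PCore.pPrimeCore_eq_bot_of_normal M h.core) fun g hg x hx => Subtype.ext ?_
  have hxV : (x : G) ∈ pCore 2 G := by
    have := (CfsgLib.PCore.map_pCore_subtype_of_normal (p := 2) M).le
      (Subgroup.mem_map_of_mem M.subtype hx)
    exact this.2
  exact (mem_cV.1 (h.odd_mem_cV (show Odd (orderOf (g : G)) by rwa [Subgroup.orderOf_coe]))
    (x : G) hxV).symm

/-- The statement S3306 modulo solvability of groups of odd order. -/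
theorem solvable_normal_image (hFT : OddSolvable.{u}) {G : Type u} [Group G] [Finite G]
    (hns : ¬ Group.IsSolvable G)
    (hC : ∀ S T : Sylow 2 G, S ≠ T → IsCyclic ↥((S : Subgroup G) ⊓ (T : Subgroup G)))
    (N : Subgroup G) [N.Normal] (hN : Group.IsSolvable ↥N) :
    IsCyclic ↥(N.map (QuotientGroup.mk' (oddCore G))) ∧
      IsPGroup 2 ↥(N.map (QuotientGroup.mk' (oddCore G))) ∧
      N.map (QuotientGroup.mk' (oddCore G)) ≤ Subgroup.center (G ⧸ oddCore G) := by
  have h := setup_quotient_oddCore hFT hns hC
  haveI : (N.map (QuotientGroup.mk' (oddCore G))).Normal :=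
    Subgroup.Normal.map inferInstance _ (QuotientGroup.mk'_surjective _)
  haveI : Group.IsSolvable ↥(N.map (QuotientGroup.mk' (oddCore G))) := by
    haveI := hN
    exact solvable_of_surjective (MonoidHom.subgroupMap_surjective _ N)
  have hle := solvable_normal_le_pCore h (N.map (QuotientGroup.mk' (oddCore G)))
  haveI := h.cyclic_pCore
  refine ⟨isCyclic_of_injective (Subgroup.inclusion hle) (Subgroup.inclusion_injective _),
    CfsgLib.PCore.pCore_isPGroup.to_le hle, fun x hx => Subgroup.mem_center_iff.2 fun g => ?_⟩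
  exact (mem_cV.1 (h.cV_eq_top ▸ Subgroup.mem_top g) x (hle hx)).symm

end CfsgLib.FTCons
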