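import Mathlib
import Cfsg.Agent.Lib.FTCons.Basic
import Cfsg.Agent.Lib.FTCons.ClassTwoMain
import Cfsg.Agent.Lib.Transfer.Hall
import Cfsg.Agent.Lib.Solvable.NilpotentSubgroups
import Cfsg.Agent.Lib.Coprime.Action
import Cfsg.Agent.Lib.Coprime85.Invariant
import Cfsg.Agent.Lib.Structure.NilpotentMaximal
import Cfsg.Agent.Lib.Frobenius.ZJComplement
import Cfsg.Agent.Lib.PLocal.Thompson

/-!
Coprime action of `A` on `G` with a nilpotent maximal invariant subgroup `M` whose Sylow
2-subgroup has class at most two: `G` is solvable, given the odd order theorem (S4038).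
-/

set_option autoImplicit false

namespace CfsgLib.FTCons.MaxInvariant

open scoped commutatorElement

universe u v

variable {G : Type u} [Group G] [Finite G] {A : Type v} [Group A] [Finite A]

/-- The 2-elements of `M` have central commutators among themselves. -/
def TwoClass (M : Subgroup G) : Prop :=
  ∀ a ∈ M, ∀ b ∈ M, ∀ c ∈ M, (∃ k, orderOf a = 2 ^ k) → (∃ k, orderOf b = 2 ^ k) →
    (∃ k, orderOf c = 2 ^ k) → ⁅a, b⁆ * c = c * ⁅a, b⁆

omit [Finite G] [Finite A] in
theorem apply_inv_apply (φ : A →* MulAut G) (a : A) (x : G) : φ a (φ a⁻¹ x) = x := by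
  rw [← MulAut.mul_apply, ← map_mul, mul_inv_cancel, map_one]; rfl

omit [Finite G] [Finite A] in
theorem inv_apply_apply (φ : A →* MulAut G) (a : A) (x : G) : φ a⁻¹ (φ a x) = x := by
  rw [← MulAut.mul_apply, ← map_mul, inv_mul_cancel, map_one]; rfl

/-- A `p`-element of a quotient of a subgroup lifts to a `p`-element of the subgroup. -/
theorem exists_two_lift (N : Subgroup G) [N.Normal] {x : G} {k : ℕ}
    (hx : orderOf (x : G ⧸ N) = 2 ^ k) :
    ∃ y ∈ Subgroup.zpowers x, (y : G ⧸ N) = (x : G ⧸ N) ∧ ∃ j, orderOf y = 2 ^ j := by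
  obtain ⟨b, m, hm, hoa⟩ : ∃ b m, ¬ 2 ∣ m ∧ orderOf x = 2 ^ b * m :=
    ⟨_, _, Nat.not_dvd_ordCompl Nat.prime_two (orderOf_pos x).ne',
      (Nat.ordProj_mul_ordCompl_eq_self (orderOf x) 2).symm⟩
  obtain ⟨i, hi⟩ : ∃ i, ((x : G ⧸ N) ^ m) ^ i = (x : G ⧸ N) :=
    exists_pow_eq_self_of_coprime (by
      rw [hx]; exact (Nat.Coprime.pow_right k (Nat.Coprime.symm
        ((Nat.prime_two.coprime_iff_not_dvd).2 hm))))
  refine ⟨(x ^ m) ^ i, Subgroup.pow_mem _ (Subgroup.pow_mem _ (Subgroup.mem_zpowers x) _) _,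
    by rw [QuotientGroup.mk_pow, QuotientGroup.mk_pow, hi], ?_⟩
  have h : ((x ^ m) ^ i) ^ 2 ^ b = 1 := by
    rw [← pow_mul, ← pow_mul, show m * (i * 2 ^ b) = 2 ^ b * m * i by ring, ← hoa, pow_mul,
      pow_orderOf_eq_one, one_pow]
  obtain ⟨j, -, hj⟩ := (Nat.dvd_prime_pow Nat.prime_two).1 (orderOf_dvd_of_pow_eq_one h)
  exact ⟨j, hj⟩

omit [Finite G] [Finite A] in
theorem conj_inl (φ : A →* MulAut G) (x : G ⋊[φ] A) (k : G) :
    x * SemidirectProduct.inl k * x⁻¹ =
      SemidirectProduct.inl (x.left * φ x.right k * x.left⁻¹) := by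
  ext <;> simp [mul_assoc]

section Main

variable (φ : A →* MulAut G) {M : Subgroup G}
  (hMinv : ∀ a : A, ∀ m : G, m ∈ M → φ a m ∈ M)
  (hMmax : ∀ H : Subgroup G, M ≤ H → H ≠ ⊤ → (∀ a : A, ∀ h : G, h ∈ H → φ a h ∈ H) → H = M)
  (hfree : ∀ N : Subgroup G, N.Normal → N ≤ M → (∀ a : A, ∀ x ∈ N, φ a x ∈ N) → N = ⊥)

omit [Finite G] [Finite A] in
theorem normalizer_invariant {U : Subgroup G} (hU : ∀ a : A, ∀ x ∈ U, φ a x ∈ U) (a : A) {h : G}
    (hh : h ∈ Subgroup.normalizer (U : Set G)) :
    φ a h ∈ Subgroup.normalizer (U : Set G) := by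
  rw [Subgroup.mem_normalizer_iff] at hh ⊢
  intro x
  have hiff : ∀ y, φ a y ∈ U ↔ y ∈ U := fun y =>
    ⟨fun h' => by simpa [inv_apply_apply] using hU a⁻¹ _ h', hU a y⟩
  obtain ⟨y, rfl⟩ : ∃ y, φ a y = x := ⟨φ a⁻¹ x, apply_inv_apply φ a x⟩
  rw [hiff, ← map_inv, ← map_mul, ← map_mul, hiff]
  exact hh y

include hMmax hfree in
omit [Finite G] [Finite A] in
theorem normalizer_eq {U : Subgroup G} (hU : U ≠ ⊥) (hUM : U ≤ M)
    (hUinv : ∀ a : A, ∀ x ∈ U, φ a x ∈ U) (hn : M ≤ Subgroup.normalizer (U : Set G)) :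
    Subgroup.normalizer (U : Set G) = M := by
  refine hMmax _ hn (fun h => hU (hfree U ?_ hUM hUinv)) fun a h hh =>
    normalizer_invariant φ hUinv a hh
  exact Subgroup.normalizer_eq_top_iff.1 h

omit [Finite A] in
theorem mem_sylow_of_orderOf (hnil : Group.IsNilpotent M) {p : ℕ} [Fact p.Prime] (S : Sylow p M)
    {x : M} {k : ℕ} (hx : orderOf x = p ^ k) : x ∈ (S : Subgroup M) := by
  have h3 : ∀ (p : ℕ) (_ : Fact p.Prime) (P : Sylow p M), (P : Subgroup M).Normal :=
    ((Group.isNilpotent_of_finite_tfae (G := M)).out 0 3).1 hnil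
  haveI : (S : Subgroup M).Normal := h3 p inferInstance S
  have hz : IsPGroup p (Subgroup.zpowers x) :=
    IsPGroup.of_card (n := k) (by rw [Nat.card_zpowers, hx])
  have := S.is_maximal' (IsPGroup.to_sup_of_normal_left S.2 hz) le_sup_left
  exact this ▸ Subgroup.mem_sup_right (Subgroup.mem_zpowers x)

include hMinv hMmax hfree in
omit [Finite A] in
/-- The Sylow subgroup of `M` is an invariant Sylow subgroup of `G`, normalised by `M`. -/
theorem exists_sylow_le (hnil : Group.IsNilpotent M) {p : ℕ} [hp : Fact p.Prime]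
    (hd : p ∣ Nat.card M) :
    ∃ P : Sylow p G, (P : Subgroup G) ≤ M ∧ (∀ a : A, ∀ x ∈ (P : Subgroup G), φ a x ∈ (P : Subgroup G)) ∧
      M ≤ Subgroup.normalizer ((P : Subgroup G) : Set G) := by
  obtain ⟨S⟩ : Nonempty (Sylow p M) := inferInstance
  set S' := (S : Subgroup M).map M.subtype with hS'
  have hne : S' ≠ ⊥ := by
    rw [hS', Ne, Subgroup.map_eq_bot_iff_of_injective _ M.subtype_injective]
    exact S.ne_bot_of_dvd_card hd
  have hMn : M ≤ Subgroup.normalizer (S' : Set G) := by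
    intro x hx
    have h3 : ∀ (p : ℕ) (_ : Fact p.Prime) (P : Sylow p M), (P : Subgroup M).Normal :=
      ((Group.isNilpotent_of_finite_tfae (G := M)).out 0 3).1 hnil
    apply CfsgLib.FTCons.ClassTwoBad.mem_normalizer_of_forall
    rintro _ ⟨y, hy, rfl⟩
    exact ⟨⟨x, hx⟩ * y * ⟨x, hx⟩⁻¹, (h3 p inferInstance S).conj_mem y hy _, rfl⟩
  have hinv : ∀ a : A, ∀ x ∈ S', φ a x ∈ S' := by
    rintro a _ ⟨y, hy, rfl⟩
    obtain ⟨k, hk⟩ := IsPGroup.iff_orderOf.1 S.2 ⟨y, hy⟩
    rw [Subgroup.orderOf_mk] at hk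
    refine ⟨⟨φ a y, hMinv a _ y.2⟩, mem_sylow_of_orderOf hnil S (k := k) ?_, rfl⟩
    rw [Subgroup.orderOf_mk, MulEquiv.orderOf_eq]
    rw [← Subgroup.orderOf_coe] at hk
    exact hk
  have hN := normalizer_eq φ hMmax hfree hne (Subgroup.map_subtype_le _) hinv hMn
  obtain ⟨P, hP⟩ := (S.2.map M.subtype).exists_le_sylow
  suffices h : S' = P by exact ⟨P, h ▸ Subgroup.map_subtype_le _, h ▸ hinv, h ▸ hMn⟩
  by_contra hne'
  have hlt : (S'.subgroupOf P) < ⊤ := lt_top_iff_ne_top.2 fun h =>
    hne' (le_antisymm hP (Subgroup.subgroupOf_eq_top.1 h))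
  have hPnil := P.2.isNilpotent
  obtain ⟨x, hxN, hx⟩ := SetLike.exists_of_lt (normalizerCondition_of_isNilpotent (G := P) _ hlt)
  have hxM : (x : G) ∈ M := by
    rw [← hN]
    apply CfsgLib.FTCons.ClassTwoBad.mem_normalizer_of_forall
    intro y hy
    exact (Subgroup.mem_normalizer_iff.1 hxN ⟨y, hP hy⟩).1 hy
  obtain ⟨k, hk⟩ := IsPGroup.iff_orderOf.1 P.2 x
  exact hx ⟨⟨x, hxM⟩, mem_sylow_of_orderOf hnil S (k := k)
    (by rw [Subgroup.orderOf_mk, Subgroup.orderOf_coe]; exact hk), rfl⟩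

include hMinv hMmax hfree in
theorem npc (hnil : Group.IsNilpotent M) (h2 : TwoClass M)
    (hcop : (Nat.card A).Coprime (Nat.card G)) {p : ℕ} [hp : Fact p.Prime] (hd : p ∣ Nat.card M) :
    Cfsg.HasNormalPComplement p G := by
  obtain ⟨P, hPM, hPinv, hMP⟩ := exists_sylow_le φ hMinv hMmax hfree hnil hd
  by_cases hp2 : p = 2
  · subst hp2
    have hA : Odd (Nat.card A) := by
      rw [← Nat.not_even_iff_odd]
      intro hA
      exact absurd (Nat.eq_one_of_dvd_coprimes hcop hA.two_dvd
        (hd.trans (Subgroup.card_subgroup_dvd_card M))) (by norm_num)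
    have hel : ∀ a ∈ (P : Subgroup G), ∃ k, orderOf a = 2 ^ k := fun a ha => by
      obtain ⟨k, hk⟩ := IsPGroup.iff_orderOf.1 P.2 ⟨a, ha⟩
      exact ⟨k, by rw [← hk, Subgroup.orderOf_mk]⟩
    have h2P : CfsgLib.FTCons.ClassTwoBad.ClassTwo (P : Subgroup G) := fun a ha b hb c hc =>
      h2 a (hPM ha) b (hPM hb) c (hPM hc) (hel a ha) (hel b hb) (hel c hc)
    refine CfsgLib.Transfer.hasNormalPComplement_of_frobeniusCond
      (CfsgLib.FTCons.ClassTwoBad.frobeniusCond_of_class_two hA φ P hPinv h2P ?_)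
    intro X hX hXP hXinv hXn g hg hgo s hs
    have hcomm : ∀ m ∈ M, (orderOf m).Coprime 2 → ∀ s ∈ (P : Subgroup G), m * s = s * m := by
      intro m hm hmo s hs
      obtain ⟨k, hk⟩ := hel s hs
      exact congrArg Subtype.val (CfsgLib.NilpotentSubgroups.commute_of_orderOf_coprime
        (N := M) (x := ⟨m, hm⟩) (y := ⟨s, hPM hs⟩)
        (by rw [Subgroup.orderOf_mk, Subgroup.orderOf_mk, hk]; exact hmo.pow_right k)).eq
    have hMX : M ≤ Subgroup.normalizer (X : Set G) := by
      intro m hm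
      apply CfsgLib.FTCons.ClassTwoBad.mem_normalizer_of_forall
      intro x hx
      obtain ⟨b, m', hm', hoa⟩ : ∃ b m', ¬ 2 ∣ m' ∧ orderOf m = 2 ^ b * m' :=
        ⟨_, _, Nat.not_dvd_ordCompl Nat.prime_two (orderOf_pos m).ne',
          (Nat.ordProj_mul_ordCompl_eq_self (orderOf m) 2).symm⟩
      obtain ⟨i, j, hij⟩ : ∃ i j : ℤ, 1 = (2 ^ b : ℕ) * i + (m' : ℤ) * j := by
        have hcp : Nat.Coprime (2 ^ b) m' := ((Nat.prime_two.coprime_iff_not_dvd).2 hm').pow_left b
        exact ⟨Nat.gcdA (2 ^ b) m', Nat.gcdB (2 ^ b) m', by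
          rw [← Nat.gcd_eq_gcd_ab, hcp.gcd_eq_one]; rfl⟩
      set u := m ^ (((2 ^ b : ℕ) : ℤ) * i) with hu
      set w := m ^ ((m' : ℤ) * j) with hw
      have hmuw : m = w * u := by rw [hu, hw, ← zpow_add, add_comm, ← hij, zpow_one]
      have hord : ((orderOf m : ℕ) : ℤ) = ((2 ^ b : ℕ) : ℤ) * m' := by rw [hoa]; push_cast; ring
      have huo : (orderOf u).Coprime 2 := by
        refine Nat.Coprime.coprime_dvd_left (k := m') (orderOf_dvd_of_pow_eq_one ?_)
          ((Nat.prime_two.coprime_iff_not_dvd).2 hm').symm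
        rw [hu, ← zpow_natCast, ← zpow_mul,
          show ((2 ^ b : ℕ) : ℤ) * i * m' = ((orderOf m : ℕ) : ℤ) * i by rw [hord]; ring,
          zpow_mul, zpow_natCast, pow_orderOf_eq_one, one_zpow]
      have hwP : w ∈ (P : Subgroup G) := by
        have hwN : w ∈ Subgroup.normalizer ((P : Subgroup G) : Set G) :=
          hMP (M.zpow_mem hm _)
        have hwp : IsPGroup 2 (Subgroup.zpowers w) := by
          obtain ⟨k, -, hk⟩ := (Nat.dvd_prime_pow Nat.prime_two).1
            (orderOf_dvd_of_pow_eq_one (n := 2 ^ b) (x := w) (by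
              rw [hw, ← zpow_natCast, ← zpow_mul,
                show (m' : ℤ) * j * ((2 ^ b : ℕ) : ℤ) = ((orderOf m : ℕ) : ℤ) * j by rw [hord]; ring,
                zpow_mul, zpow_natCast, pow_orderOf_eq_one, one_zpow]))
          exact IsPGroup.of_card (n := k) (by rw [Nat.card_zpowers, hk])
        have := hwp.inf_normalizer_sylow P
        exact ((Subgroup.mem_inf (p := Subgroup.zpowers w)).1
          (this ▸ ⟨Subgroup.mem_zpowers w, hwN⟩)).2
      have hux : u * x * u⁻¹ = x := by
        rw [hcomm u (M.zpow_mem hm _) huo x (hXP hx), mul_inv_cancel_right]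
      rw [hmuw, show w * u * x * (w * u)⁻¹ = w * (u * x * u⁻¹) * w⁻¹ by group, hux]
      exact hXn w hwP x hx
    have hgM : g ∈ M := by
      rw [← normalizer_eq φ hMmax hfree hX (hXP.trans hPM) hXinv hMX]
      exact CfsgLib.FTCons.ClassTwoBad.mem_normalizer_of_forall hg
    exact hcomm g hgM hgo s hs
  · refine CfsgLib.Frobenius.ZJComp.hasNormalPComplement_of_centerThompsonAOf hp2 P ?_
    rw [CfsgLib.PLocal.centerThompsonAOf_eq]
    have hJ : CfsgLib.PLocal.centerJ 0 (P : Subgroup G) ≠ ⊥ :=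
      CfsgLib.PLocal.centerJ_zero_ne_bot P.isPGroup'
        (P.ne_bot_of_dvd_card (hd.trans (Subgroup.card_subgroup_dvd_card M)))
    have hJinv : ∀ a : A, ∀ x ∈ CfsgLib.PLocal.centerJ 0 (P : Subgroup G),
        φ a x ∈ CfsgLib.PLocal.centerJ 0 (P : Subgroup G) := by
      intro a x hx
      have hPa : (P : Subgroup G).map (φ a).toMonoidHom = (P : Subgroup G) := by
        ext y
        rw [Subgroup.mem_map_equiv]
        exact ⟨fun h => by simpa using hPinv a _ h, fun h => by
          have := hPinv a⁻¹ y h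
          rwa [map_inv] at this⟩
      have h := CfsgLib.PLocal.centerJ_map (e := 0) (f := (φ a).toMonoidHom) (φ a).injective
        (P : Subgroup G)
      rw [hPa] at h
      rw [h]
      exact ⟨x, hx, rfl⟩
    rw [normalizer_eq φ hMmax hfree hJ ((CfsgLib.PLocal.centerJ_le 0 _).trans hPM) hJinv
      (hMP.trans (CfsgLib.PLocal.normalizer_le_normalizer_centerJ 0 _))]
    exact CfsgLib.NilpotentMaximal.hasNormalPComplement_of_isNilpotent p

include hMinv hMmax hfree in
theorem solvable_of_free (hA : Group.IsSolvable A) (hcop : (Nat.card A).Coprime (Nat.card G))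
    (hnil : Group.IsNilpotent M) (h2 : TwoClass M) : Group.IsSolvable G := by
  have hHall : (Nat.card M).Coprime M.index := by
    refine Nat.coprime_of_dvd fun p hp hd1 hd2 => ?_
    have := Fact.mk hp
    obtain ⟨P, hP, -⟩ := exists_sylow_le φ hMinv hMmax hfree hnil hd1
    exact P.not_dvd_index (hd2.trans (Subgroup.index_dvd_of_le hP))
  obtain ⟨K, hK, hc⟩ := CfsgLib.Transfer.exists_normal_complement_of_forall M hHall
    (fun p hp hd => haveI := Fact.mk hp; npc φ hMinv hMmax hfree hnil h2 hcop hd)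
  haveI := hK
  have hKM : (Nat.card M).Coprime (Nat.card K) := by
    rw [← hc.index_eq_card]; exact hHall
  have hKinv : ∀ a : A, ∀ x ∈ K, φ a x ∈ K := by
    intro a x hx
    rw [← QuotientGroup.eq_one_iff (N := K), ← orderOf_eq_one_iff]
    refine Nat.eq_one_of_dvd_coprimes hKM.symm ?_ ?_
    · refine (orderOf_map_dvd (QuotientGroup.mk' K) _).trans ?_
      rw [MulEquiv.orderOf_eq]
      exact Subgroup.orderOf_dvd_natCard K hx
    · rw [← hc.symm.index_eq_card, Subgroup.index_eq_card]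
      exact orderOf_dvd_natCard _
  -- the operators `M ⋊ A`
  let Γ := G ⋊[φ] A
  haveI : Finite Γ := Finite.of_equiv (G × A) SemidirectProduct.equivProd.symm
  let B : Subgroup Γ :=
    { carrier := {x | x.left ∈ M}
      one_mem' := M.one_mem
      mul_mem' := fun {x y} hx hy => M.mul_mem hx (hMinv _ _ hy)
      inv_mem' := fun {x} hx => hMinv _ _ (M.inv_mem hx) }
  let i : G →* Γ := SemidirectProduct.inl
  have hBK : B ≤ Subgroup.normalizer (K.map i : Set Γ) := by
    intro x hx
    apply CfsgLib.FTCons.ClassTwoBad.mem_normalizer_of_forall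
    rintro _ ⟨k, hk, rfl⟩
    refine ⟨x.left * φ x.right k * x.left⁻¹, hK.conj_mem _ (hKinv _ k hk) _, ?_⟩
    exact (conj_inl φ x k).symm
  have hcardB : Nat.card B = Nat.card M * Nat.card A := by
    rw [← Nat.card_prod]
    exact Nat.card_congr
      { toFun := fun x => (⟨(x : Γ).left, x.2⟩, (x : Γ).right)
        invFun := fun y => ⟨⟨y.1, y.2⟩, y.1.2⟩
        left_inv := fun x => by ext <;> rfl
        right_inv := fun y => by ext <;> rfl }
  have hcardK : Nat.card (K.map i) = Nat.card K :=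
    Subgroup.card_map_of_injective SemidirectProduct.inl_injective
  have hcopB : (Nat.card B).Coprime (Nat.card (K.map i)) := by
    rw [hcardB, hcardK]
    exact Nat.Coprime.mul_left hKM (hcop.coprime_dvd_right (Subgroup.card_subgroup_dvd_card K))
  have hBsol : Group.IsSolvable B := by
    haveI := hnil
    haveI := hA
    let f : M →* B :=
      { toFun := fun m => ⟨i m, m.2⟩
        map_one' := Subtype.ext (map_one i)
        map_mul' := fun m n => Subtype.ext (map_mul i (m : G) n) }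
    refine Group.isSolvable_of_ker_le_range f (SemidirectProduct.rightHom.comp B.subtype) ?_
    intro x hx
    refine ⟨⟨(x : Γ).left, x.2⟩, Subtype.ext ?_⟩
    ext
    · rfl
    · exact hx.symm
  have hKnil : Group.IsNilpotent K := by
    refine (Group.isNilpotent_of_finite_tfae.out 0 3).2 ?_
    intro q hq P0
    haveI := hq
    obtain ⟨Q, hQ⟩ := CfsgLib.Coprime.exists_invariant_sylow B (K.map i) hBK hcopB (Or.inl hBsol) q
    set Q1 := ((Q : Subgroup (K.map i)).map (K.map i).subtype).comap i with hQ1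
    have hQK : Q1 ≤ K := by
      rintro x ⟨y, -, hy⟩
      obtain ⟨k, hk, hki⟩ := y.2
      have : k = x := SemidirectProduct.inl_injective (hki.trans hy)
      exact this ▸ hk
    have hQinv : ∀ a : A, ∀ x ∈ Q1, φ a x ∈ Q1 := by
      intro a x hx
      have hb : (SemidirectProduct.inr a : Γ) ∈ B := M.one_mem
      have h := CfsgLib.Coprime.mem_normalizer_conj (hQ hb) hx
      show i (φ a x) ∈ (Q : Subgroup (K.map i)).map (K.map i).subtype
      rwa [show i (φ a x) = SemidirectProduct.inr a * i x * (SemidirectProduct.inr a)⁻¹ by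
        rw [← map_inv]; exact SemidirectProduct.inl_aut (φ := φ) a x]
    have hQM : M ≤ Subgroup.normalizer (Q1 : Set G) := by
      intro m hm
      apply CfsgLib.FTCons.ClassTwoBad.mem_normalizer_of_forall
      intro x hx
      have h := CfsgLib.Coprime.mem_normalizer_conj (hQ (show i m ∈ B from hm)) hx
      show i (m * x * m⁻¹) ∈ (Q : Subgroup (K.map i)).map (K.map i).subtype
      rwa [map_mul, map_mul, map_inv]
    let eK : K ≃* (K.map i : Subgroup Γ) := K.equivMapOfInjective i SemidirectProduct.inl_injective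
    have hQeq : (Q : Subgroup (K.map i)).comap eK.toMonoidHom = Q1.subgroupOf K := by
      ext k
      constructor
      · intro h; exact ⟨eK k, h, rfl⟩
      · rintro ⟨y, hy, hyk⟩
        have h : y = eK k := Subtype.ext hyk
        exact (h ▸ hy : eK k ∈ (Q : Subgroup (K.map i)))
    have hQn : Q1.Normal := by
      by_cases ht : Subgroup.normalizer (Q1 : Set G) = ⊤
      · exact Subgroup.normalizer_eq_top_iff.1 ht
      have hN := hMmax _ hQM ht (fun a h hh => normalizer_invariant φ hQinv a hh)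
      have hb : Q1 = ⊥ := by
        rw [← le_bot_iff, ← disjoint_iff.1 hc.disjoint]
        exact le_inf hQK (Subgroup.le_normalizer.trans hN.le)
      rw [hb]; infer_instance
    haveI hQ2n : (Q : Subgroup (K.map i)).Normal := by
      have h : ((Q : Subgroup (K.map i)).comap eK.toMonoidHom).Normal := hQeq ▸ hQn.subgroupOf K
      rw [← Subgroup.map_comap_eq_self_of_surjective (f := eK.toMonoidHom) eK.surjective
        (Q : Subgroup (K.map i))]
      exact h.map _ eK.surjective
    let P1 : Sylow q K := Sylow.comapOfInjective Q eK.toMonoidHom eK.injective (by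
      rw [MonoidHom.range_eq_top.2 eK.surjective]; exact le_top)
    have hP1 : (P1 : Subgroup K).Normal :=
      show ((Q : Subgroup (K.map i)).comap eK.toMonoidHom).Normal from hQ2n.comap _
    have := Sylow.unique_of_normal P1 hP1
    rwa [Subsingleton.elim P0 P1]
  have : Group.IsSolvable K := inferInstance
  haveI := hnil
  have hq : Group.IsSolvable (G ⧸ K) := Group.isSolvable_of_surjective
    (f := (QuotientGroup.mk' K).comp M.subtype) (by
      intro x
      obtain ⟨g, rfl⟩ := QuotientGroup.mk_surjective x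
      obtain ⟨⟨k, m⟩, rfl⟩ := hc.surjective g
      refine ⟨m, ?_⟩
      simp only [MonoidHom.comp_apply, Subgroup.coe_subtype, QuotientGroup.mk'_apply,
        QuotientGroup.mk_mul, (QuotientGroup.eq_one_iff (k : G)).2 k.2, one_mul])
  exact (Group.isSolvable_iff_subgroup_quotient K).2 ⟨inferInstance, hq⟩

end Main

theorem solvable_aux (hFT : OddSolvable.{u}) (hA : Group.IsSolvable A) :
    ∀ (n : ℕ) (G : Type u) [Group G] [Finite G], Nat.card G = n → ∀ (φ : A →* MulAut G),
    (Nat.card A).Coprime (Nat.card G) → ∀ M : Subgroup G, M ≠ ⊤ →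
    (∀ a : A, ∀ m : G, m ∈ M → φ a m ∈ M) →
    (∀ H : Subgroup G, M ≤ H → H ≠ ⊤ → (∀ a : A, ∀ h : G, h ∈ H → φ a h ∈ H) → H = M) →
    Group.IsNilpotent M → TwoClass M → Group.IsSolvable G := by
  intro n
  induction n using Nat.strong_induction_on with
  | _ n ih =>
    intro G _ _ hn φ hcop M hMtop hMinv hMmax hnil h2
    by_cases hN : ∃ N : Subgroup G, N.Normal ∧ N ≤ M ∧ (∀ a : A, ∀ x ∈ N, φ a x ∈ N) ∧ N ≠ ⊥
    · obtain ⟨N, hNn, hNM, hNinv, hNe⟩ := hN
      haveI := hNn
      haveI := hnil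
      have : Group.IsSolvable N :=
        Group.isSolvable_of_isSolvable_injective (Subgroup.inclusion_injective hNM)
      have hNmap : ∀ a : A, N.map (φ a).toMonoidHom = N := fun a => by
        ext y
        rw [Subgroup.mem_map_equiv]
        exact ⟨fun h => by simpa using hNinv a _ h, fun h => by
          have := hNinv a⁻¹ y h
          rwa [map_inv] at this⟩
      let ψ : A →* MulAut (G ⧸ N) :=
        { toFun := fun a => QuotientGroup.congr N N (φ a) (hNmap a)
          map_one' := by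
            apply MulEquiv.ext
            intro x
            obtain ⟨g, rfl⟩ := QuotientGroup.mk_surjective x
            show ((φ 1 g : G) : G ⧸ N) = _
            rw [map_one]; rfl
          map_mul' := fun a b => by
            apply MulEquiv.ext
            intro x
            obtain ⟨g, rfl⟩ := QuotientGroup.mk_surjective x
            show ((φ (a * b) g : G) : G ⧸ N) = ((φ a (φ b g) : G) : G ⧸ N)
            rw [map_mul]; rfl }
      have hcard : Nat.card (G ⧸ N) < n := by
        rw [← hn, Subgroup.card_eq_card_quotient_mul_card_subgroup N]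
        exact lt_mul_of_one_lt_right Nat.card_pos (Subgroup.one_lt_card_iff_ne_bot N |>.2 hNe)
      have hback : (M.map (QuotientGroup.mk' N)).comap (QuotientGroup.mk' N) = M :=
        Subgroup.comap_map_eq_self (by rwa [QuotientGroup.ker_mk'])
      have : Group.IsSolvable (G ⧸ N) := by
        refine ih _ hcard (G ⧸ N) rfl ψ ?_ (M.map (QuotientGroup.mk' N)) ?_ ?_ ?_
          (Group.nilpotent_of_surjective _ ((QuotientGroup.mk' N).subgroupMap_surjective M)) ?_
        · exact hcop.coprime_dvd_right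
            ⟨_, Subgroup.card_eq_card_quotient_mul_card_subgroup N⟩
        · intro h
          rw [h, Subgroup.comap_top] at hback
          exact hMtop hback.symm
        · rintro a _ ⟨m, hm, rfl⟩
          exact ⟨φ a m, hMinv a m hm, rfl⟩
        · intro H hH hHtop hHinv
          have h1 : H.comap (QuotientGroup.mk' N) = M := by
            refine hMmax _ (hback.ge.trans (Subgroup.comap_mono hH)) (fun h => hHtop ?_)
              (fun a h hh => hHinv a _ hh)
            rw [← Subgroup.map_comap_eq_self_of_surjective (QuotientGroup.mk'_surjective N) H, h,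
              Subgroup.map_top_of_surjective _ (QuotientGroup.mk'_surjective N)]
          rw [← Subgroup.map_comap_eq_self_of_surjective (QuotientGroup.mk'_surjective N) H, h1]
        · rintro _ ⟨a, ha, rfl⟩ _ ⟨b, hb, rfl⟩ _ ⟨c, hc, rfl⟩ ⟨ka, hka⟩ ⟨kb, hkb⟩ ⟨kc, hkc⟩
          obtain ⟨a', ha', hae, hao⟩ := exists_two_lift N (x := a) hka
          obtain ⟨b', hb', hbe, hbo⟩ := exists_two_lift N (x := b) hkb
          obtain ⟨c', hc', hce, hco⟩ := exists_two_lift N (x := c) hkc
          simp only [QuotientGroup.mk'_apply]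
          rw [← hae, ← hbe, ← hce]
          show ⁅QuotientGroup.mk' N a', QuotientGroup.mk' N b'⁆ * QuotientGroup.mk' N c' = _
          rw [← map_commutatorElement, ← map_mul,
            h2 a' (Subgroup.zpowers_le.2 ha ha') b' (Subgroup.zpowers_le.2 hb hb')
              c' (Subgroup.zpowers_le.2 hc hc') hao hbo hco, map_mul]
          rfl
      exact (Group.isSolvable_iff_subgroup_quotient N).2 ⟨inferInstance, this⟩
    push Not at hN
    by_cases hM : M = ⊥
    · subst hM
      by_cases h1 : Nat.card G = 1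
      · haveI : Subsingleton G := (Nat.card_eq_one_iff_unique.1 h1).1
        infer_instance
      obtain ⟨p, hp, hpd⟩ := Nat.exists_prime_and_dvd h1
      haveI := Fact.mk hp
      letI : MulDistribMulAction A G := MulDistribMulAction.compHom G φ
      obtain ⟨P, hP⟩ := CfsgLib.Coprime85.exists_invariant_sylow hcop (Or.inl hA) p
      have hPtop : (P : Subgroup G) = ⊤ := by
        by_contra h
        exact P.ne_bot_of_dvd_card hpd (hMmax _ bot_le h fun a x hx => hP a x hx)
      have hG : IsPGroup p G := by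
        have h : IsPGroup p (⊤ : Subgroup G) := hPtop ▸ P.2
        exact h.of_equiv Subgroup.topEquiv
      haveI := hG.isNilpotent
      infer_instance
    exact solvable_of_free φ hMinv hMmax hN hA hcop hnil h2

/-- Coprime action with a nilpotent maximal invariant subgroup of 2-class at most two. -/
theorem isSolvable (hFT : OddSolvable.{u}) (hFT' : OddSolvable.{v}) (φ : A →* MulAut G)
    (hcop : (Nat.card A).Coprime (Nat.card G))
    (M : Subgroup G) (hMtop : M ≠ ⊤) (hMinv : ∀ a : A, ∀ m : G, m ∈ M → φ a m ∈ M)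
    (hMmax : ∀ H : Subgroup G, M ≤ H → H ≠ ⊤ → (∀ a : A, ∀ h : G, h ∈ H → φ a h ∈ H) → H = M)
    (hnil : Group.IsNilpotent M)
    (h2 : ∀ S : Sylow 2 ↥M, Group.nilpotencyClass ↥(S : Subgroup ↥M) ≤ 2) :
    Group.IsSolvable G := by
  by_cases hodd : Odd (Nat.card G)
  · exact hFT G hodd
  have hA : Group.IsSolvable A := by
    refine hFT' A ?_
    rw [← Nat.not_even_iff_odd]
    intro hAe
    exact absurd (Nat.eq_one_of_dvd_coprimes hcop hAe.two_dvd
      (Nat.not_odd_iff_even.1 hodd).two_dvd) (by norm_num)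
  refine solvable_aux hFT hA _ G rfl φ hcop M hMtop hMinv hMmax hnil ?_
  intro a ha b hb c hc ⟨ka, hka⟩ ⟨kb, hkb⟩ ⟨kc, hkc⟩
  obtain ⟨S⟩ : Nonempty (Sylow 2 M) := inferInstance
  haveI := S.2.isNilpotent
  have hm : ∀ x (hx : x ∈ M) k, orderOf x = 2 ^ k → (⟨x, hx⟩ : M) ∈ (S : Subgroup M) :=
    fun x hx k hk => mem_sylow_of_orderOf hnil S (k := k) (by rw [Subgroup.orderOf_mk, hk])
  have h22 : Subgroup.upperCentralSeries (S : Subgroup M) 2 = ⊤ :=
    Subgroup.upperCentralSeries_eq_top_iff_nilpotencyClass_le.2 (h2 S)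
  obtain ⟨a', ha'⟩ : ∃ a' : (S : Subgroup M), ((a' : M) : G) = a := ⟨⟨_, hm a ha _ hka⟩, rfl⟩
  obtain ⟨b', hb'⟩ : ∃ b' : (S : Subgroup M), ((b' : M) : G) = b := ⟨⟨_, hm b hb _ hkb⟩, rfl⟩
  obtain ⟨c', hc'⟩ : ∃ c' : (S : Subgroup M), ((c' : M) : G) = c := ⟨⟨_, hm c hc _ hkc⟩, rfl⟩
  have h := (h22 ▸ Subgroup.mem_top a' : a' ∈ Subgroup.upperCentralSeries (S : Subgroup M) 2)
  have h1 := Subgroup.mem_upperCentralSeries_succ_iff.1 h b'
  rw [Subgroup.upperCentralSeries_one, Subgroup.mem_center_iff] at h1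
  have h3 := congrArg (fun x : (S : Subgroup M) => ((x : M) : G)) (h1 c')
  simp only [commutatorElement_def, Subgroup.coe_mul, Subgroup.coe_inv, ha', hb', hc'] at h3
  rw [commutatorElement_def]
  exact h3.symm

end CfsgLib.FTCons.MaxInvariant
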