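import Mathlib
import Cfsg.Agent.Lib.FTCons.Basic
import Cfsg.Agent.Lib.FTCons.NilpotentMaxInvariant
import Cfsg.Agent.Lib.Structure.Radicals
import Cfsg.Agent.Lib.Structure.Subnormal

/-!
Coprime action with all proper invariant subgroups nilpotent (S4240), given the odd order theorem.
-/

set_option autoImplicit false

namespace CfsgLib.FTCons.InvariantNilpotent

open CfsgLib.FTCons.MaxInvariant
open scoped commutatorElement

universe u v

variable {A : Type v} [Group A] [Finite A]

/-- All proper invariant subgroups are nilpotent. -/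
def Hyp {G : Type u} [Group G] (φ : A →* MulAut G) : Prop :=
  ∀ H : Subgroup G, H ≠ ⊤ → (∀ a : A, ∀ x ∈ H, φ a x ∈ H) → Group.IsNilpotent H

theorem nilpotent_of_le {G : Type u} [Group G] {H M : Subgroup G} (hle : H ≤ M)
    (hM : Group.IsNilpotent M) : Group.IsNilpotent H := by
  haveI := hM
  exact Subgroup.isNilpotent_of_ker_le_center (Subgroup.inclusion hle)
    (by rw [(Subgroup.inclusion hle).ker_eq_bot (Subgroup.inclusion_injective hle)]; exact bot_le)

variable {G : Type u} [Group G] [Finite G]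

/-- The hypothesis on maximal invariant subgroups gives it for all proper ones. -/
theorem hyp_of_maximal (φ : A →* MulAut G)
    (hmax : ∀ H : Subgroup G, H ≠ ⊤ → (∀ a : A, ∀ x ∈ H, φ a x ∈ H) →
      (∀ K : Subgroup G, H < K → (∀ a : A, ∀ x ∈ K, φ a x ∈ K) → K = ⊤) → Group.IsNilpotent H) :
    Hyp φ := by
  intro H hH hinv
  obtain ⟨M, hle, hM⟩ := (Set.toFinite {M : Subgroup G | M ≠ ⊤ ∧ ∀ a : A, ∀ x ∈ M, φ a x ∈ M}).exists_le_maximal
    (a := H) ⟨hH, hinv⟩
  refine nilpotent_of_le hle (hmax M hM.prop.1 hM.prop.2 fun K hK hKinv => ?_)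
  by_contra hKtop
  exact hK.not_ge (hM.le_of_ge ⟨hKtop, hKinv⟩ hK.le)

omit [Finite G] [Finite A] in
theorem map_eq_of_invariant (φ : A →* MulAut G) {N : Subgroup G}
    (hN : ∀ a : A, ∀ x ∈ N, φ a x ∈ N) (a : A) : N.map (φ a).toMonoidHom = N := by
  ext y
  rw [Subgroup.mem_map_equiv]
  exact ⟨fun h => by simpa using hN a _ h, fun h => by
    have := hN a⁻¹ y h
    rwa [map_inv] at this⟩

/-- An invariant Sylow subgroup. -/
theorem exists_sylow (φ : A →* MulAut G) (hcop : (Nat.card A).Coprime (Nat.card G))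
    (hsol : Group.IsSolvable A ∨ Group.IsSolvable G) (p : ℕ) [Fact p.Prime] :
    ∃ P : Sylow p G, ∀ a : A, ∀ x ∈ (P : Subgroup G), φ a x ∈ (P : Subgroup G) := by
  letI : MulDistribMulAction A G := MulDistribMulAction.compHom G φ
  exact CfsgLib.Coprime85.exists_invariant_sylow hcop hsol p

theorem solvable_aux (hA : Group.IsSolvable A) :
    ∀ (n : ℕ) (G : Type u) [Group G] [Finite G], Nat.card G = n → ∀ (φ : A →* MulAut G),
    (Nat.card A).Coprime (Nat.card G) → Hyp φ → Group.IsSolvable G := by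
  intro n
  induction n using Nat.strong_induction_on with
  | _ n ih =>
    intro G _ _ hn φ hcop h
    by_cases hN : ∃ N : Subgroup G, N.Normal ∧ N ≠ ⊥ ∧ N ≠ ⊤ ∧ ∀ a : A, ∀ x ∈ N, φ a x ∈ N
    · obtain ⟨N, hNn, hNe, hNt, hNinv⟩ := hN
      haveI := hNn
      haveI := h N hNt hNinv
      let ψ : A →* MulAut (G ⧸ N) :=
        { toFun := fun a => QuotientGroup.congr N N (φ a) (map_eq_of_invariant φ hNinv a)
          map_one' := by
            apply MulEquiv.ext
            intro x
            obtain ⟨g, rfl⟩ := QuotientGroup.mk_surjective x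
            show ((φ 1 g : G) : G ⧸ N) = _
            rw [map_one]; rfl
          map_mul' := fun a b => by
            apply MulEquiv.ext
            intro x
            obtain ⟨g, rfl⟩ := QuotientGroup.mk_surjective x
            show ((φ (a * b) g : G) : G ⧸ N) = ((φ a (φ b g) : G) : G ⧸ N)
            rw [map_mul]; rfl }
      have hcard : Nat.card (G ⧸ N) < n := by
        rw [← hn, Subgroup.card_eq_card_quotient_mul_card_subgroup N]
        exact lt_mul_of_one_lt_right Nat.card_pos (Subgroup.one_lt_card_iff_ne_bot N |>.2 hNe)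
      have : Group.IsSolvable (G ⧸ N) := by
        refine ih _ hcard (G ⧸ N) rfl ψ
          (hcop.coprime_dvd_right ⟨_, Subgroup.card_eq_card_quotient_mul_card_subgroup N⟩) ?_
        intro H hH hHinv
        have hne : H.comap (QuotientGroup.mk' N) ≠ ⊤ := fun e => hH (by
          rw [← Subgroup.map_comap_eq_self_of_surjective (QuotientGroup.mk'_surjective N) H, e,
            Subgroup.map_top_of_surjective _ (QuotientGroup.mk'_surjective N)])
        haveI := h _ hne (fun a x hx => hHinv a _ hx)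
        exact Group.nilpotent_of_surjective ((QuotientGroup.mk' N).subgroupComap H)
          (MonoidHom.subgroupComap_surjective_of_surjective _ H (QuotientGroup.mk'_surjective N))
      exact (Group.isSolvable_iff_subgroup_quotient N).2 ⟨inferInstance, this⟩
    push Not at hN
    by_cases hodd : ∃ p, p.Prime ∧ p ≠ 2 ∧ p ∣ Nat.card G
    · obtain ⟨p, hp, hp2, hpd⟩ := hodd
      haveI := Fact.mk hp
      obtain ⟨P, hP⟩ := exists_sylow φ hcop (Or.inl hA) p
      by_cases hPtop : (P : Subgroup G) = ⊤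
      · have hG : IsPGroup p G := by
          have h : IsPGroup p (⊤ : Subgroup G) := hPtop ▸ P.2
          exact h.of_equiv Subgroup.topEquiv
        haveI := hG.isNilpotent
        infer_instance
      exfalso
      have hPne := P.ne_bot_of_dvd_card hpd
      have hJ : CfsgLib.PLocal.centerJ 0 (P : Subgroup G) ≠ ⊥ :=
        CfsgLib.PLocal.centerJ_zero_ne_bot P.isPGroup' hPne
      have hJinv : ∀ a : A, ∀ x ∈ CfsgLib.PLocal.centerJ 0 (P : Subgroup G),
          φ a x ∈ CfsgLib.PLocal.centerJ 0 (P : Subgroup G) := by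
        intro a x hx
        have h := CfsgLib.PLocal.centerJ_map (e := 0) (f := (φ a).toMonoidHom) (φ a).injective
          (P : Subgroup G)
        rw [map_eq_of_invariant φ hP a] at h
        rw [h]
        exact ⟨x, hx, rfl⟩
      have hNtop : Subgroup.normalizer (CfsgLib.PLocal.centerJ 0 (P : Subgroup G) : Set G) ≠ ⊤ := by
        intro e
        obtain ⟨a, x, hx, hne⟩ := hN _ (Subgroup.normalizer_eq_top_iff.1 e) hJ
          (fun e' => hPtop (top_le_iff.1 (e' ▸ CfsgLib.PLocal.centerJ_le 0 _)))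
        exact hne (hJinv a x hx)
      haveI := h _ hNtop (fun a g hg => normalizer_invariant φ hJinv a hg)
      obtain ⟨P', K, hKn, hK⟩ : Cfsg.HasNormalPComplement p G := by
        refine CfsgLib.Frobenius.ZJComp.hasNormalPComplement_of_centerThompsonAOf hp2 P ?_
        rw [CfsgLib.PLocal.centerThompsonAOf_eq]
        exact CfsgLib.NilpotentMaximal.hasNormalPComplement_of_isNilpotent p
      haveI := hKn
      have hKp : ¬ p ∣ Nat.card K := by rw [← hK.index_eq_card]; exact P'.not_dvd_index
      have hKinv : ∀ a : A, ∀ x ∈ K, φ a x ∈ K := by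
        intro a x hx
        rw [← QuotientGroup.eq_one_iff (N := K), ← orderOf_eq_one_iff]
        obtain ⟨k, hk⟩ := P'.isPGroup'.exists_card_eq
        refine Nat.eq_one_of_dvd_coprimes
          (a := Nat.card K) (b := p ^ k) ((hp.coprime_iff_not_dvd.2 hKp).pow_left k).symm ?_ ?_
        · refine (orderOf_map_dvd (QuotientGroup.mk' K) _).trans ?_
          rw [MulEquiv.orderOf_eq]
          exact Subgroup.orderOf_dvd_natCard K hx
        · rw [← hk, ← hK.symm.index_eq_card, Subgroup.index_eq_card]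
          exact orderOf_dvd_natCard _
      by_cases hKb : K = ⊥
      · rw [hKb, Subgroup.isComplement'_bot_left] at hK
        apply hPtop
        rw [← Subgroup.card_eq_iff_eq_top, P.card_eq_multiplicity, ← P'.card_eq_multiplicity, hK,
          Subgroup.card_top]
      · obtain ⟨a, x, hx, hne⟩ := hN K hKn hKb (fun e => hKp (by rwa [e, Subgroup.card_top]))
        exact hne (hKinv a x hx)
    · push Not at hodd
      have hG : IsPGroup 2 G := IsPGroup.of_card (n := (Nat.card G).factorization 2)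
        (Nat.eq_of_factorization_eq Nat.card_pos.ne' (pow_ne_zero _ two_ne_zero) fun q => by
          rw [Nat.prime_two.factorization_pow]
          by_cases hq2 : q = 2
          · subst hq2; simp
          rw [Finsupp.single_eq_of_ne hq2]
          by_cases hq : q.Prime
          · exact Nat.factorization_eq_zero_of_not_dvd (hodd q hq hq2)
          · exact Nat.factorization_eq_zero_of_not_prime _ hq)
      haveI := hG.isNilpotent
      infer_instance

theorem isSolvable (hFT : OddSolvable.{u}) (hFT' : OddSolvable.{v}) (φ : A →* MulAut G)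
    (hcop : (Nat.card A).Coprime (Nat.card G)) (h : Hyp φ) : Group.IsSolvable G := by
  by_cases hodd : Odd (Nat.card G)
  · exact hFT G hodd
  refine solvable_aux (hFT' A ?_) _ G rfl φ hcop h
  rw [← Nat.not_even_iff_odd]
  intro hAe
  exact absurd (Nat.eq_one_of_dvd_coprimes hcop hAe.two_dvd
    (Nat.not_odd_iff_even.1 hodd).two_dvd) (by norm_num)

/-- The structure of such a solvable non-nilpotent group. -/
theorem structure_of_hyp [Group.IsSolvable G] (φ : A →* MulAut G)
    (hcop : (Nat.card A).Coprime (Nat.card G)) (h : Hyp φ) (hG : ¬ Group.IsNilpotent G) :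
    (∃ p q a b : ℕ, p.Prime ∧ q.Prime ∧ p ≠ q ∧ Nat.card G = p ^ a * q ^ b) ∧
      ∃ (p : ℕ) (P : Sylow p G), p.Prime ∧ p ∣ Nat.card G ∧ (P : Subgroup G).Normal ∧
        ∀ a : A, ∀ x ∈ (P : Subgroup G), φ a x ∈ (P : Subgroup G) := by
  haveI : Nontrivial G := by
    by_contra hh
    rw [not_nontrivial_iff_subsingleton] at hh
    exact hG inferInstance
  have hD : commutator G ≠ ⊤ := (Group.IsSolvable.commutator_lt_top_of_nontrivial G).ne
  set N := commutator G with hN
  have hNinv : ∀ a : A, ∀ x ∈ N, φ a x ∈ N := by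
    intro a x hx
    have hc : N.Characteristic := by rw [hN]; infer_instance
    have := Subgroup.characteristic_iff_map_le.1 hc (φ a)
    exact this ⟨x, hx, rfl⟩
  have hNnil : Group.IsNilpotent N := h N hD hNinv
  -- the quotient is an r-group
  obtain ⟨r, hr, hrN⟩ : ∃ r, r.Prime ∧ IsPGroup r (G ⧸ N) := by
    have h1 : Nat.card (G ⧸ N) ≠ 1 := by
      rw [← Subgroup.index_eq_card]
      exact fun e => hD (Subgroup.index_eq_one.1 e)
    obtain ⟨r, hr, hrd⟩ := Nat.exists_prime_and_dvd h1
    haveI := Fact.mk hr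
    refine ⟨r, hr, ?_⟩
    obtain ⟨a, m, hm, hoa⟩ : ∃ a m, ¬ r ∣ m ∧ Nat.card (G ⧸ N) = r ^ a * m :=
      ⟨_, _, Nat.not_dvd_ordCompl hr Nat.card_pos.ne',
        (Nat.ordProj_mul_ordCompl_eq_self (Nat.card (G ⧸ N)) r).symm⟩
    have hQc : ∀ x y : G ⧸ N, x * y = y * x := by
      intro x y
      obtain ⟨x, rfl⟩ := QuotientGroup.mk_surjective x
      obtain ⟨y, rfl⟩ := QuotientGroup.mk_surjective y
      rw [← QuotientGroup.mk_mul, ← QuotientGroup.mk_mul, QuotientGroup.eq,
        show (x * y)⁻¹ * (y * x) = ⁅y⁻¹, x⁻¹⁆ by simp [commutatorElement_def, mul_assoc], hN]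
      exact Subgroup.commutator_mem_commutator (Subgroup.mem_top _) (Subgroup.mem_top _)
    let pre : ℕ → Subgroup G := fun k =>
      { carrier := {x | x ^ k ∈ N}
        one_mem' := by simp
        mul_mem' := fun {x y} hx hy => by
          simp only [Set.mem_ofPred_eq, ← QuotientGroup.eq_one_iff (N := N), QuotientGroup.mk_pow,
            QuotientGroup.mk_mul] at hx hy ⊢
          rw [Commute.mul_pow (hQc _ _), hx, hy, one_mul]
        inv_mem' := fun {x} hx => by simpa using hx }
    have hpre : ∀ k, ∀ a : A, ∀ x ∈ pre k, φ a x ∈ pre k := fun k a x hx => by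
      have := hNinv a _ hx
      show φ a x ^ k ∈ N
      rwa [← map_pow]
    have hpren : ∀ k, (pre k).Normal := fun k => ⟨fun x hx g => by
      show (g * x * g⁻¹) ^ k ∈ N
      rw [conj_pow]
      exact (inferInstance : N.Normal).conj_mem _ hx g⟩
    by_contra hnp
    have h2 : pre m ≠ ⊤ := by
      intro e
      obtain ⟨y, hy⟩ := exists_prime_orderOf_dvd_card' r hrd
      obtain ⟨x, rfl⟩ := QuotientGroup.mk_surjective y
      have hx : x ∈ pre m := e ▸ Subgroup.mem_top x
      have hx' : (x : G ⧸ N) ^ m = 1 := by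
        rw [← QuotientGroup.mk_pow, QuotientGroup.eq_one_iff]; exact hx
      exact hm (hy ▸ orderOf_dvd_of_pow_eq_one hx')
    have h3 : pre (r ^ a) ≠ ⊤ := by
      intro e
      apply hnp
      intro y
      obtain ⟨x, rfl⟩ := QuotientGroup.mk_surjective y
      refine ⟨a, ?_⟩
      rw [← QuotientGroup.mk_pow, QuotientGroup.eq_one_iff]
      exact (e ▸ Subgroup.mem_top x : x ∈ pre (r ^ a))
    have hsup : pre m ⊔ pre (r ^ a) = ⊤ := by
      rw [eq_top_iff]
      intro x _
      obtain ⟨i, j, hij⟩ : ∃ i j : ℤ, 1 = ((r ^ a : ℕ) : ℤ) * i + (m : ℤ) * j := by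
        have hcp : Nat.Coprime (r ^ a) m := (hr.coprime_iff_not_dvd.2 hm).pow_left a
        exact ⟨Nat.gcdA (r ^ a) m, Nat.gcdB (r ^ a) m, by
          rw [← Nat.gcd_eq_gcd_ab, hcp.gcd_eq_one]; rfl⟩
      have hall : x ^ (r ^ a * m) ∈ N := by
        rw [← QuotientGroup.eq_one_iff (N := N), QuotientGroup.mk_pow, ← hoa]
        exact pow_card_eq_one'
      rw [show x = x ^ (((r ^ a : ℕ) : ℤ) * i) * x ^ ((m : ℤ) * j) by rw [← zpow_add, ← hij, zpow_one]]
      refine Subgroup.mul_mem_sup ?_ ?_
      · show (x ^ (((r ^ a : ℕ) : ℤ) * i)) ^ m ∈ N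
        rw [← zpow_natCast, ← zpow_mul,
          show ((r ^ a : ℕ) : ℤ) * i * m = ((r ^ a * m : ℕ) : ℤ) * i by push_cast; ring,
          zpow_mul, zpow_natCast]
        exact N.zpow_mem hall i
      · show (x ^ ((m : ℤ) * j)) ^ (r ^ a) ∈ N
        rw [← zpow_natCast, ← zpow_mul,
          show (m : ℤ) * j * ((r ^ a : ℕ) : ℤ) = ((r ^ a * m : ℕ) : ℤ) * j by push_cast; ring,
          zpow_mul, zpow_natCast]
        exact N.zpow_mem hall j
    haveI := h _ h2 (hpre m)
    haveI := h _ h3 (hpre (r ^ a))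
    haveI := hpren m
    haveI := hpren (r ^ a)
    apply hG
    have : Group.IsNilpotent (pre m ⊔ pre (r ^ a) : Subgroup G) :=
      CfsgLib.Structure.isNilpotent_sup_of_le_normalizer Subgroup.le_normalizer_of_normal
        Subgroup.le_normalizer_of_normal
    rw [hsup] at this
    exact Group.nilpotent_of_mulEquiv Subgroup.topEquiv
  haveI := Fact.mk hr
  -- the other Sylow subgroups are normal
  have hnormS : ∀ (s : ℕ) [Fact s.Prime] (S : Sylow s G), s ≠ r →
      (S : Subgroup G).Normal ∧ ∀ a : A, ∀ x ∈ (S : Subgroup G), φ a x ∈ (S : Subgroup G) := by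
    intro s hs S hsr
    have hSN : (S : Subgroup G) ≤ N := by
      intro x hx
      rw [← QuotientGroup.eq_one_iff (N := N), ← orderOf_eq_one_iff]
      obtain ⟨i, hi⟩ := IsPGroup.iff_orderOf.1 S.2 ⟨x, hx⟩
      rw [Subgroup.orderOf_mk] at hi
      obtain ⟨j, hj⟩ := IsPGroup.iff_orderOf.1 hrN (x : G ⧸ N)
      exact Nat.eq_one_of_dvd_coprimes (((Nat.coprime_primes hs.out hr).2 hsr).pow i j)
        (hi ▸ orderOf_map_dvd (QuotientGroup.mk' N) x) hj.dvd
    have hmem : ∀ x ∈ (S : Subgroup G), ∀ y ∈ N, orderOf y = orderOf x → y ∈ (S : Subgroup G) := by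
      intro x hx y hy hord
      obtain ⟨i, hi⟩ := IsPGroup.iff_orderOf.1 S.2 ⟨x, hx⟩
      rw [Subgroup.orderOf_mk] at hi
      exact mem_sylow_of_orderOf hNnil (S.subtype hSN) (x := ⟨y, hy⟩) (k := i)
        (by rw [Subgroup.orderOf_mk, hord, hi])
    exact ⟨⟨fun x hx g => hmem x hx _ ((inferInstance : N.Normal).conj_mem x (hSN hx) g)
        (MulEquiv.orderOf_eq (MulAut.conj g) x)⟩,
      fun a x hx => hmem x hx _ (hNinv a x (hSN hx)) (MulEquiv.orderOf_eq (φ a) x)⟩
  obtain ⟨R, hR⟩ := exists_sylow φ hcop (Or.inr inferInstance) r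
  by_cases hex : ∃ (s : ℕ) (_ : Fact s.Prime) (S : Sylow s G), s ≠ r ∧
      (R : Subgroup G) ⊔ (S : Subgroup G) = ⊤
  · obtain ⟨s, hs, S, hsr, hsup⟩ := hex
    haveI := (hnormS s S hsr).1
    obtain ⟨i, hi⟩ := R.isPGroup'.exists_card_eq
    obtain ⟨j, hj⟩ := S.isPGroup'.exists_card_eq
    have hcard : Nat.card G = s ^ j * r ^ i := by
      refine Nat.dvd_antisymm ?_ ?_
      · have h1 := CfsgLib.Structure.card_top_dvd_of_sup_eq_top
          (by rw [sup_comm]; exact hsup : (S : Subgroup G) ⊔ (R : Subgroup G) = ⊤)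
        rwa [hi, hj] at h1
      · exact Nat.Coprime.mul_dvd_of_dvd_of_dvd (((Nat.coprime_primes hs.out hr).2 hsr).pow j i)
          (hj ▸ (S : Subgroup G).card_subgroup_dvd_card) (hi ▸ (R : Subgroup G).card_subgroup_dvd_card)
    refine ⟨⟨s, r, j, i, hs.out, hr, hsr, hcard⟩, s, S, hs.out, ?_, (hnormS s S hsr).1,
      (hnormS s S hsr).2⟩
    by_contra hsd
    apply hG
    have hj0 : j = 0 := by
      by_contra h0
      exact hsd (hcard ▸ (dvd_pow_self s h0).mul_right _)
    rw [hj0, pow_zero, one_mul] at hcard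
    exact (IsPGroup.of_card hcard).isNilpotent
  · exfalso
    push Not at hex
    have hRn : (R : Subgroup G).Normal := by
      rw [← Subgroup.normalizer_eq_top_iff, ← Subgroup.index_eq_one]
      by_contra hne
      obtain ⟨s, hs, hsd⟩ := Nat.exists_prime_and_dvd hne
      haveI := Fact.mk hs
      by_cases hsr : s = r
      · subst hsr
        exact R.not_dvd_index (hsd.trans (Subgroup.index_dvd_of_le Subgroup.le_normalizer))
      obtain ⟨S⟩ := (inferInstance : Nonempty (Sylow s G))
      obtain ⟨hSn, hSinv⟩ := hnormS s S hsr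
      haveI := hSn
      haveI := h _ (hex s ‹_› S hsr) (by
        intro a x hx
        have h1 : (R : Subgroup G) ⊔ (S : Subgroup G) ≤
            ((R : Subgroup G) ⊔ (S : Subgroup G)).comap (φ a).toMonoidHom :=
          sup_le (fun y hy => Subgroup.mem_sup_left (hR a y hy))
            (fun y hy => Subgroup.mem_sup_right (hSinv a y hy))
        exact h1 hx)
      refine S.not_dvd_index (hsd.trans (Subgroup.index_dvd_of_le fun x hx => ?_))
      apply CfsgLib.FTCons.ClassTwoBad.mem_normalizer_of_forall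
      intro y hy
      obtain ⟨i, hi⟩ := IsPGroup.iff_orderOf.1 S.2 ⟨x, hx⟩
      obtain ⟨j, hj⟩ := IsPGroup.iff_orderOf.1 R.2 ⟨y, hy⟩
      rw [Subgroup.orderOf_mk] at hi hj
      have hc := CfsgLib.NilpotentSubgroups.commute_of_orderOf_coprime
        (N := ((R : Subgroup G) ⊔ (S : Subgroup G) : Subgroup G))
        (x := ⟨x, Subgroup.mem_sup_right hx⟩) (y := ⟨y, Subgroup.mem_sup_left hy⟩)
        (by rw [Subgroup.orderOf_mk, Subgroup.orderOf_mk, hi, hj]
            exact ((Nat.coprime_primes hs hr).2 hsr).pow i j)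
      have hc' : x * y = y * x := congrArg Subtype.val hc.eq
      rwa [hc', mul_inv_cancel_right]
    apply hG
    refine (Group.isNilpotent_of_finite_tfae.out 0 3).2 ?_
    intro q hq Q
    by_cases hqr : q = r
    · subst hqr
      haveI := Sylow.unique_of_normal R hRn
      rwa [Subsingleton.elim Q R]
    · exact (hnormS q Q hqr).1

end CfsgLib.FTCons.InvariantNilpotent
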