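import Cfsg.Agent.Lib.FTCons.Basic
import Cfsg.Agent.Lib.RankTwoTypes.Simple

/-!
A non-cyclic finite simple group contains a Klein four-group, given that groups of odd order are solvable.
-/

set_option autoImplicit false

namespace CfsgLib.FTCons

open Cfsg

universe u

/-- The four-group generated by two commuting involutions. -/
theorem exists_isKleinFour_of_commute {G : Type*} [Group G] [Finite G] {a b : G}
    (ha : orderOf a = 2) (hb : orderOf b = 2) (hne : a ≠ b) (hc : Commute a b) :
    ∃ E : Subgroup G, IsKleinFour E := by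
  have haa : a * a = 1 := by rw [← pow_two, ← ha, pow_orderOf_eq_one]
  have hbb : b * b = 1 := by rw [← pow_two, ← hb, pow_orderOf_eq_one]
  have hba : b * a = a * b := hc.eq.symm
  have ha1 : a ≠ 1 := fun e => by rw [e, orderOf_one] at ha; omega
  have hb1 : b ≠ 1 := fun e => by rw [e, orderOf_one] at hb; omega
  have hab1 : a * b ≠ 1 := fun e => hne (mul_left_cancel (e.trans haa.symm)).symm
  have haab : ∀ u, a * (a * u) = u := fun u => by rw [← mul_assoc, haa, one_mul]
  have hbbu : ∀ u, b * (b * u) = u := fun u => by rw [← mul_assoc, hbb, one_mul]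
  have hbau : ∀ u, b * (a * u) = a * (b * u) := fun u => by rw [← mul_assoc, hba, mul_assoc]
  let E : Subgroup G :=
    { carrier := {1, a, b, a * b}
      one_mem' := Or.inl rfl
      inv_mem' := by
        have ia : a⁻¹ = a := inv_eq_of_mul_eq_one_right haa
        have ib : b⁻¹ = b := inv_eq_of_mul_eq_one_right hbb
        rintro x (rfl | rfl | rfl | rfl)
        · simp
        · simp [ia]
        · simp [ib]
        · simp [ia, ib, hc.eq]
      mul_mem' := by
        rintro x y (rfl | rfl | rfl | rfl) (rfl | rfl | rfl | rfl) <;>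
          simp [mul_assoc, haa, hbb, hba, haab, hbbu, hbau] }
  have hsq : ∀ x ∈ E, x * x = 1 := by
    rintro x (rfl | rfl | rfl | rfl)
    · exact one_mul 1
    · exact haa
    · exact hbb
    · rw [mul_assoc, hbau, hbb, mul_one, haa]
  have hcard : Nat.card E = 4 := by
    show Nat.card ({1, a, b, a * b} : Set G) = 4
    have h1 : (1 : G) ∉ ({a, b, a * b} : Set G) := by
      simp only [Set.mem_insert_iff, Set.mem_singleton_iff, not_or]
      exact ⟨Ne.symm ha1, Ne.symm hb1, Ne.symm hab1⟩
    have h2 : a ∉ ({b, a * b} : Set G) := by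
      simp only [Set.mem_insert_iff, Set.mem_singleton_iff, not_or]
      exact ⟨hne, fun e => hb1 (mul_left_cancel ((mul_one a).trans e)).symm⟩
    have h3 : b ≠ a * b := fun e => ha1 (mul_eq_right.1 e.symm)
    rw [Nat.card_coe_set_eq, Set.ncard_insert_of_notMem h1, Set.ncard_insert_of_notMem h2,
      Set.ncard_pair h3]
  refine ⟨E, hcard, ?_⟩
  have hle : Monoid.exponent E ∣ 2 := Monoid.exponent_dvd_of_forall_pow_eq_one fun x =>
    Subtype.ext (by rw [SubmonoidClass.coe_pow, pow_two]; exact hsq x x.2)
  rcases (Nat.dvd_prime Nat.prime_two).1 hle with h | h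
  · have : Subsingleton E := Monoid.exp_eq_one_iff.1 h
    rw [Nat.card_eq_one_iff_unique.2 ⟨this, inferInstance⟩] at hcard
    omega
  · exact h

/-- A non-cyclic finite simple group contains a Klein four-group. -/
theorem exists_isKleinFour (hFT : OddSolvable.{u}) {G : Type u} [Group G] [Finite G] [IsSimpleGroup G]
    (hG : ¬ IsCyclic G) : ∃ E : Subgroup G, IsKleinFour E := by
  have hna : ¬ IsMulCommutative G := fun h => hG (by
    letI : CommGroup G := { (inferInstance : Group G) with mul_comm := h.is_comm.comm }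
    exact IsSimpleGroup.isCyclic)
  have heven : 2 ∣ Nat.card G := by
    rcases Nat.even_or_odd (Nat.card G) with h | h
    · exact h.two_dvd
    exfalso
    haveI := hFT G h
    exact hna ⟨⟨IsSimpleGroup.comm_iff_isSolvable.2 inferInstance⟩⟩
  haveI : Fact (Nat.Prime 2) := ⟨Nat.prime_two⟩
  obtain ⟨z, hz⟩ := exists_prime_orderOf_dvd_card' 2 heven
  by_contra hno
  refine CfsgLib.RankTwoTypes.no_isolated hna z ⟨hz, fun g hg => ?_⟩
  by_contra hne
  refine hno (exists_isKleinFour_of_commute hz ?_ (Ne.symm hne) hg)
  rw [← MulAut.conj_apply, MulEquiv.orderOf_eq, hz]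

end CfsgLib.FTCons
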