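import Cfsg.Agent.Lib.FTCons.Basic
import Cfsg.Agent.Lib.Blocks.Homo949Main
import Cfsg.Agent.S5212
import Cfsg.Agent.Lib.Fusion.Group
import Cfsg.Agent.Lib.Transfer.NormalComplement

/-!
A group whose Sylow 2-subgroup has a cyclic normal subgroup with cyclic quotient of order greater
than two is solvable, given that groups of odd order are solvable.
-/

set_option autoImplicit false

namespace CfsgLib.FTCons

open Cfsg

universe u

/-- `S` has a cyclic normal subgroup with cyclic quotient of order more than two. -/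
def LargeMetacyclic (S : Type u) [Group S] : Prop :=
  ∃ (N : Subgroup S) (_ : N.Normal), IsCyclic N ∧ IsCyclic (S ⧸ N) ∧ 2 < Nat.card (S ⧸ N)

theorem LargeMetacyclic.of_mulEquiv {S T : Type u} [Group S] [Group T] (e : S ≃* T)
    (h : LargeMetacyclic S) : LargeMetacyclic T := by
  obtain ⟨N, hN, hc, hq, h2⟩ := h
  haveI : (N.map e.toMonoidHom).Normal := hN.map _ e.surjective
  let e' := QuotientGroup.congr N (N.map e.toMonoidHom) e rfl
  refine ⟨N.map e.toMonoidHom, inferInstance, ?_, ?_, ?_⟩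
  · exact isCyclic_of_surjective (e.subgroupMap N) (e.subgroupMap N).surjective
  · exact isCyclic_of_surjective e' e'.surjective
  · rwa [← Nat.card_congr e'.toEquiv]

theorem LargeMetacyclic.isMetacyclic {S : Type u} [Group S] (h : LargeMetacyclic S) :
    Cfsg.IsMetacyclic S := by
  obtain ⟨N, hN, hc, hq, -⟩ := h
  exact ⟨N, hN, hc, hq⟩

/-- All squares cannot lie in the kernel. -/
theorem LargeMetacyclic.exists_sq {S : Type u} [Group S] [Finite S] (h : LargeMetacyclic S) :
    ∃ (A : Type u) (_ : CommGroup A) (f : S →* A), Function.Surjective f ∧ ∃ a : A, a ^ 2 ≠ 1 := by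
  obtain ⟨N, hN, -, hq, h2⟩ := h
  haveI := hN
  haveI := hq
  obtain ⟨g, hg⟩ := IsCyclic.exists_generator (α := S ⧸ N)
  refine ⟨S ⧸ N, IsCyclic.commGroup, QuotientGroup.mk' N, QuotientGroup.mk'_surjective N, g, fun h => ?_⟩
  have := orderOf_dvd_of_pow_eq_one h
  rw [orderOf_eq_card_of_forall_mem_zpowers hg] at this
  have := Nat.le_of_dvd (by norm_num) this
  omega

theorem LargeMetacyclic.not_dihedral {S : Type u} [Group S] [Finite S] (h : LargeMetacyclic S) :
    ¬ ∃ m : ℕ, Nonempty (S ≃* DihedralGroup m) := by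
  rintro ⟨m, ⟨e⟩⟩
  obtain ⟨A, _, f, hf, a, ha⟩ := h.exists_sq
  apply ha
  obtain ⟨s, rfl⟩ := hf a
  obtain ⟨d, rfl⟩ := e.symm.surjective s
  have hsr : ∀ i : ZMod m, f (e.symm (.sr i)) ^ 2 = 1 := fun i => by
    rw [← map_pow, ← map_pow, pow_two, DihedralGroup.sr_mul_self, map_one, map_one]
  cases d with
  | sr i => exact hsr i
  | r i =>
    rw [show DihedralGroup.r i = DihedralGroup.sr 0 * DihedralGroup.sr i by simp, map_mul, map_mul,
      mul_pow, hsr, hsr, one_mul]

theorem LargeMetacyclic.not_quaternion {S : Type u} [Group S] [Finite S] (h : LargeMetacyclic S)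
    (hS : IsPGroup 2 S) {m : ℕ} (hm : m ≠ 1) : ¬ Nonempty (S ≃* QuaternionGroup m) := by
  rintro ⟨e⟩
  obtain ⟨A, _, f, hf, a, ha⟩ := h.exists_sq
  haveI : NeZero m := ⟨fun h0 => by
    subst h0
    haveI : Finite (QuaternionGroup 0) := Finite.of_equiv S e.toEquiv
    exact Nat.card_pos.ne' (show Nat.card (QuaternionGroup 0) = 0 from by
      rw [Nat.card_congr (QuaternionGroup.quaternionGroupZeroEquivDihedralGroupZero).toEquiv]
      exact DihedralGroup.nat_card)⟩
  have heven : 2 ∣ m := by
    obtain ⟨k, hk⟩ := hS.exists_card_eq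
    rw [Nat.card_congr e.toEquiv, Nat.card_eq_fintype_card, QuaternionGroup.card] at hk
    obtain ⟨j, -, hj⟩ := (Nat.dvd_prime_pow Nat.prime_two).mp (⟨4, by rw [← hk, mul_comm]⟩ : m ∣ 2 ^ k)
    rcases j with _ | j
    · exact absurd hj hm
    · exact hj ▸ dvd_pow_self 2 (Nat.succ_ne_zero j)
  let g : QuaternionGroup m →* A := f.comp e.symm.toMonoidHom
  apply ha
  obtain ⟨s, rfl⟩ := hf a
  obtain ⟨d, rfl⟩ := e.symm.surjective s
  have hone : g (.a 0) = 1 := g.map_one
  have hr : g (.a 1) ^ 2 = 1 := by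
    have h1 : g (.xa 0) * g (.a 1) = g (.a (-1)) * g (.xa 0) := by
      rw [← map_mul, ← map_mul]
      congr 1
      simp
    rw [mul_comm (g (.xa 0))] at h1
    rw [pow_two]
    nth_rewrite 2 [mul_right_cancel h1]
    rw [← map_mul, show (QuaternionGroup.a 1 * QuaternionGroup.a (-1) : QuaternionGroup m) = .a 0 by simp]
    exact hone
  have hxa : g (.xa 0) ^ 2 = 1 := by
    obtain ⟨j, hj⟩ := heven
    rw [← map_pow, pow_two, QuaternionGroup.xa_mul_xa, show (m : ZMod (2 * m)) + 0 - 0 = (m : ZMod (2 * m)) by simp,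
      show QuaternionGroup.a (m : ZMod (2 * m)) = QuaternionGroup.a 1 ^ m by rw [QuaternionGroup.a_one_pow],
      map_pow]
    conv_lhs => arg 2; rw [hj]
    rw [pow_mul, hr, one_pow]
  show g d ^ 2 = 1
  have hpow : ∀ i : ZMod (2 * m), g (.a i) ^ 2 = 1 := fun i => by
    obtain ⟨j, rfl⟩ : ∃ j : ℕ, i = (j : ZMod (2 * m)) := ⟨i.val, (ZMod.natCast_zmod_val i).symm⟩
    rw [← QuaternionGroup.a_one_pow, map_pow, ← pow_mul, mul_comm j 2, pow_mul, hr, one_pow]
  cases d with
  | a i => exact hpow i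
  | xa i =>
    rw [show QuaternionGroup.xa i = (QuaternionGroup.xa 0 * QuaternionGroup.a i : QuaternionGroup m) by simp,
      map_mul, mul_pow, hxa, hpow, one_mul]

theorem LargeMetacyclic.not_quasiDihedral {S : Type u} [Group S] [Finite S] (h : LargeMetacyclic S) :
    ¬ Cfsg.IsQuasiDihedral S := by
  rintro ⟨n, hn, hcard, x, y, hx, hy, hxy⟩
  obtain ⟨A, _, f, hf, a, ha⟩ := h.exists_sq
  obtain ⟨N, hN⟩ : ∃ N, 2 ^ (n - 1) = N + 2 := ⟨2 ^ (n - 1) - 2, by
    have : 2 ^ 2 ≤ 2 ^ (n - 1) := Nat.pow_le_pow_right two_pos (by omega)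
    omega⟩
  have hfx : f x ^ 2 = 1 := by
    have h1 : f x = f x ^ (N + 1) := by
      have := congrArg f hxy
      rwa [map_mul, map_mul, map_inv, map_pow, mul_inv_cancel_comm, hN,
        show N + 2 - 1 = N + 1 by omega] at this
    have h2 : f x ^ N = 1 := mul_eq_right.mp (by rw [← pow_succ]; exact h1.symm)
    have h3 : f x ^ (2 ^ n) = 1 := by rw [← map_pow, ← hx, pow_orderOf_eq_one, map_one]
    have h4 : orderOf (f x) ∣ 2 := by
      have h5 : orderOf (f x) ∣ N := orderOf_dvd_of_pow_eq_one h2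
      have h6 : orderOf (f x) ∣ 2 ^ n := orderOf_dvd_of_pow_eq_one h3
      obtain ⟨j, hj, hj'⟩ := (Nat.dvd_prime_pow Nat.prime_two).mp h6
      rw [hj'] at h5 ⊢
      have hlt : j < 2 := by
        by_contra hge
        have h7 : 4 ∣ N := (pow_dvd_pow 2 (show 2 ≤ j by omega)).trans h5
        have h8 : 4 ∣ 2 ^ (n - 1) := pow_dvd_pow 2 (show 2 ≤ n - 1 by omega)
        omega
      exact pow_dvd_pow 2 (show j ≤ 1 by omega)
    exact orderOf_dvd_iff_pow_eq_one.mp h4
  have hfy : f y ^ 2 = 1 := by rw [← map_pow, ← hy, pow_orderOf_eq_one, map_one]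
  have htop : Subgroup.closure ({x, y} : Set S) = ⊤ := by
    refine Subgroup.eq_top_of_card_eq _ (le_antisymm (Subgroup.card_le_card_group _) ?_)
    have hle : Subgroup.zpowers x ≤ Subgroup.closure ({x, y} : Set S) :=
      Subgroup.zpowers_le.mpr (Subgroup.subset_closure (by simp))
    have hy' : y ∉ Subgroup.zpowers x := fun hy' => by
      obtain ⟨k, hk⟩ := hy'
      have hk' : x ^ k = y := hk
      have hxx : y * x * y⁻¹ = x := by rw [← hk']; group
      rw [hxy] at hxx
      have h1 : x ^ (2 ^ (n - 1) - 1) = x ^ 1 := by rw [pow_one, hxx]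
      rw [pow_eq_pow_iff_modEq, hx] at h1
      have h3 : 2 ^ (n - 1) < 2 ^ n := Nat.pow_lt_pow_right (by norm_num) (by omega)
      have h5 : 4 ≤ 2 ^ (n - 1) := Nat.pow_le_pow_right two_pos (show 2 ≤ n - 1 by omega)
      have h4 := Nat.ModEq.eq_of_lt_of_lt h1 (by omega) (by omega)
      omega
    obtain ⟨c, hc⟩ := Subgroup.card_dvd_of_le hle
    have hpos : 0 < Nat.card ↥(Subgroup.closure ({x, y} : Set S)) := Nat.card_pos
    have hne : c ≠ 1 := fun h1 => hy' (by
      rw [h1, mul_one] at hc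
      rw [Subgroup.eq_of_le_of_card_ge hle hc.le]
      exact Subgroup.subset_closure (by simp))
    rw [Nat.card_zpowers, hx] at hc
    rw [hcard, hc, pow_succ]
    refine Nat.mul_le_mul_left _ ?_
    rcases c with _ | _ | c <;> simp_all
  apply ha
  obtain ⟨s, rfl⟩ := hf a
  have : s ∈ Subgroup.closure ({x, y} : Set S) := htop ▸ Subgroup.mem_top s
  clear ha
  induction this using Subgroup.closure_induction with
  | mem z hz => rcases hz with rfl | rfl <;> assumption
  | one => rw [map_one, one_pow]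
  | mul a b _ _ hu hv => rw [map_mul, mul_pow, hu, hv, one_mul]
  | inv a _ hu => rw [map_inv, inv_pow, hu, inv_one]

/-- An abelian metacyclic group has at most four elements killed by two. -/
theorem card_sq_le_four {S : Type u} [Group S] [Finite S] (h : LargeMetacyclic S)
    (hc : ∀ a b : S, a * b = b * a) : Nat.card {x : S // x ^ 2 = 1} ≤ 4 := by
  classical
  obtain ⟨N, hN, hcN, hq, -⟩ := h
  haveI := hN
  haveI := hcN
  haveI := hq
  let K : Subgroup S :=
    { carrier := {x | x ^ 2 = 1}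
      one_mem' := one_pow 2
      mul_mem' := fun {a b} ha hb => by
        show (a * b) ^ 2 = 1
        rw [Commute.mul_pow (hc a b), ha, hb, one_mul]
      inv_mem' := fun {a} ha => by
        show a⁻¹ ^ 2 = 1
        rw [inv_pow, ha, inv_one] }
  let f : K →* S ⧸ N := (QuotientGroup.mk' N).comp K.subtype
  haveI := Fintype.ofFinite S
  haveI := Fintype.ofFinite (S ⧸ N)
  have hk : Nat.card f.ker ≤ 2 := by
    haveI := Fintype.ofFinite ↥N
    have h2 : Nat.card {x : N // x ^ 2 = 1} ≤ 2 := by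
      rw [Nat.subtype_card (Finset.univ.filter fun x : N => x ^ 2 = 1) (by simp)]
      exact IsCyclic.card_pow_eq_one_le (by norm_num)
    refine le_trans (Nat.card_le_card_of_injective
      (fun x : f.ker => (⟨⟨(x : K), (QuotientGroup.eq_one_iff _).mp x.2⟩,
        Subtype.ext (x : K).2⟩ : {x : N // x ^ 2 = 1})) fun a b e => ?_) h2
    exact Subtype.ext (Subtype.ext (congrArg (fun z : {x : N // x ^ 2 = 1} => ((z : N) : S)) e))
  have hr : Nat.card f.range ≤ 2 := by
    have h2 : Nat.card {x : S ⧸ N // x ^ 2 = 1} ≤ 2 := by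
      rw [Nat.subtype_card (Finset.univ.filter fun x : S ⧸ N => x ^ 2 = 1) (by simp)]
      exact IsCyclic.card_pow_eq_one_le (by norm_num)
    refine le_trans (Nat.card_le_card_of_injective
      (fun x : f.range => (⟨x.1, by
        obtain ⟨k, hk⟩ := x.2
        rw [← hk, ← map_pow, show k ^ 2 = 1 from Subtype.ext k.2, map_one]⟩ :
          {x : S ⧸ N // x ^ 2 = 1}))
      fun a b e => Subtype.ext (congrArg (fun z : {x : S ⧸ N // x ^ 2 = 1} => z.1) e)) h2
  have := Subgroup.card_mul_index f.ker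
  rw [Subgroup.index_ker] at this
  calc Nat.card {x : S // x ^ 2 = 1} = Nat.card K := rfl
    _ ≤ 2 * 2 := this ▸ Nat.mul_le_mul hk hr

/-- The kernel of a normal `2`-complement makes the group solvable. -/
theorem solvable_of_complement (hFT : OddSolvable.{u}) {G : Type u} [Group G] [Finite G]
    (h : Cfsg.HasNormalPComplement 2 G) : Group.IsSolvable G := by
  obtain ⟨P, N, hN, hc⟩ := h
  haveI := hN
  haveI : Fact (Nat.Prime 2) := ⟨Nat.prime_two⟩
  have hodd : Odd (Nat.card N) := by
    rw [← Nat.not_even_iff_odd, even_iff_two_dvd, ← hc.index_eq_card]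
    exact P.not_dvd_index
  haveI : Group.IsNilpotent ↥(P : Subgroup G) := P.2.isNilpotent
  haveI : Group.IsSolvable (G ⧸ N) :=
    solvable_of_surjective (f := (QuotientGroup.mk' N).comp (P : Subgroup G).subtype) fun z => by
      obtain ⟨g, rfl⟩ := QuotientGroup.mk'_surjective N z
      obtain ⟨⟨a, b⟩, rfl⟩ := hc.2 g
      refine ⟨b, ?_⟩
      show QuotientGroup.mk' N (b : G) = QuotientGroup.mk' N ((a : G) * b)
      rw [map_mul, (QuotientGroup.eq_one_iff (a : G)).mpr a.2 |> fun e =>
        (QuotientGroup.mk'_apply N (a : G)).trans e, one_mul]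
  haveI := hFT N hodd
  exact solvable_of_ker_le_range N.subtype (QuotientGroup.mk' N)
    (by rw [QuotientGroup.ker_mk', Subgroup.range_subtype])

theorem isSolvable_of_largeMetacyclic (hFT : OddSolvable.{u}) {G : Type u} [Group G] [Finite G]
    (S : Sylow 2 G) (hS : LargeMetacyclic ↥(S : Subgroup G)) : Group.IsSolvable G := by
  suffices H : ∀ n : ℕ, ∀ (G : Type u) [Group G] [Finite G], Nat.card G = n → ∀ S : Sylow 2 G,
      LargeMetacyclic ↥(S : Subgroup G) → Group.IsSolvable G from H _ G rfl S hS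
  intro n
  induction n using Nat.strong_induction_on with
  | _ n ih =>
  intro G _ _ hn S hS
  haveI : Fact (Nat.Prime 2) := ⟨Nat.prime_two⟩
  by_cases hh : ∃ j k : ℕ, Nonempty (↥(S : Subgroup G) ≃* Multiplicative (Fin k → ZMod (2 ^ j)))
  swap
  · refine solvable_of_complement hFT (Transfer.hasNormalPComplement_of_frobeniusCond
      (Transfer.frobeniusCond_of_le_sylow S fun Q hQ g hg hc => ?_))
    have hinner := Cfsg.Agent.S5212.result S.2 (Cfsg.groupFusionSystem (S : Subgroup G))
      (CfsgLib.Fusion.group_saturated S) hS.isMetacyclic hh hS.not_dihedral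
      (fun ⟨m, hm⟩ => by
        by_cases h1 : m = 1
        · subst h1
          obtain ⟨e⟩ := hm
          refine hh ⟨2, 1, ?_⟩
          have hcard : Nat.card (QuaternionGroup 1) = 4 := by
            rw [Nat.card_eq_fintype_card, QuaternionGroup.card]
          haveI : IsCyclic (QuaternionGroup 1) := QuaternionGroup.quaternionGroup_one_isCyclic
          haveI : IsCyclic (Multiplicative (Fin 1 → ZMod (2 ^ 2))) :=
            isCyclic_of_surjective (AddEquiv.funUnique (Fin 1) (ZMod (2 ^ 2))).symm.toMultiplicative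
              (AddEquiv.funUnique (Fin 1) (ZMod (2 ^ 2))).symm.toMultiplicative.surjective
          refine ⟨e.trans (mulEquivOfCyclicCardEq ?_)⟩
          rw [hcard]
          simp
        · exact hS.not_quaternion S.2 h1 hm)
      hS.not_quasiDihedral Q
    let φ : Q →* G := (MulAut.conj g).toMonoidHom.comp Q.subtype
    have hφ : φ ∈ (Cfsg.groupFusionSystem (S : Subgroup G)).Hom Q :=
      ⟨hQ, fun x => hQ ((Subgroup.mem_normalizer_iff.mp hg x).mp x.2), g, fun x => rfl⟩
    rw [hinner] at hφ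
    obtain ⟨-, s, hs, hsg⟩ := hφ
    -- the automorphism induced by `g` has order a power of two and prime to two
    have hiter : ∀ (i : ℕ) (x : G), x ∈ Q → g ^ i * x * (g ^ i)⁻¹ = s ^ i * x * (s ^ i)⁻¹ := by
      intro i
      induction i with
      | zero => intro x _; simp
      | succ i ihi =>
        intro x hx
        have h1 : g * x * g⁻¹ = s * x * s⁻¹ := hsg ⟨x, hx⟩
        calc g ^ (i + 1) * x * (g ^ (i + 1))⁻¹ = g ^ i * (g * x * g⁻¹) * (g ^ i)⁻¹ := by
              rw [pow_succ]; group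
          _ = s ^ i * (g * x * g⁻¹) * (s ^ i)⁻¹ :=
              ihi _ ((Subgroup.mem_normalizer_iff.mp hg x).mp hx)
          _ = _ := by rw [h1, pow_succ]; group
    rw [Subgroup.mem_centralizer_iff]
    intro x hx
    obtain ⟨k, hk⟩ := S.2 ⟨s, hs⟩
    have hk' : s ^ 2 ^ k = 1 := congrArg Subtype.val hk
    have h1 : g ^ 2 ^ k * x * (g ^ 2 ^ k)⁻¹ = x := by rw [hiter _ x hx, hk']; group
    obtain ⟨j, hj⟩ := exists_pow_eq_self_of_coprime (Nat.Coprime.pow_left k hc.symm : (2 ^ k).Coprime (orderOf g))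
    have h2 : Commute (g ^ 2 ^ k) x := mul_inv_eq_iff_eq_mul.mp h1
    have h3 := h2.pow_left j
    rw [hj] at h3
    exact h3.eq.symm
  obtain ⟨j, k, ⟨e⟩⟩ := hh
  have hcS : ∀ a b : ↥(S : Subgroup G), a * b = b * a := fun a b => e.injective (by
    rw [map_mul, map_mul, mul_comm])
  have hj : 2 ≤ j := by
    by_contra hj
    obtain ⟨A, _, f, hf, a, ha⟩ := hS.exists_sq
    apply ha
    obtain ⟨s, rfl⟩ := hf a
    have hs : s ^ 2 = 1 := e.injective (by
      rw [map_pow, map_one]
      refine Multiplicative.toAdd.injective (funext fun i => ?_)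
      show (2 : ℕ) • (Multiplicative.toAdd (e s) i) = 0
      rw [nsmul_eq_mul, show ((2 : ℕ) : ZMod (2 ^ j)) = 0 from
        (ZMod.natCast_eq_zero_iff 2 (2 ^ j)).mpr ((pow_dvd_pow 2 (show j ≤ 1 by omega)).trans (pow_one 2).dvd),
        zero_mul])
    rw [← map_pow, hs, map_one]
  have hk2 : k ≤ 2 := by
    by_contra hk
    haveI : NeZero (2 ^ j) := ⟨by positivity⟩
    let v : (Fin k → ZMod 2) → Multiplicative (Fin k → ZMod (2 ^ j)) := fun b =>
      Multiplicative.ofAdd fun i => (((b i).val * 2 ^ (j - 1) : ℕ) : ZMod (2 ^ j))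
    have hv : Function.Injective v := fun b b' hb => funext fun i => by
      have h := congrFun (congrArg Multiplicative.toAdd hb) i
      simp only [v, toAdd_ofAdd] at h
      have hlt : ∀ z : ZMod 2, z.val * 2 ^ (j - 1) < 2 ^ j := fun z => by
        calc z.val * 2 ^ (j - 1) < 2 * 2 ^ (j - 1) := Nat.mul_lt_mul_of_pos_right z.val_lt (by positivity)
          _ = 2 ^ j := by rw [← pow_succ', Nat.sub_add_cancel (by omega : 1 ≤ j)]
      have h2 := congrArg ZMod.val h
      rw [ZMod.val_natCast_of_lt (hlt _), ZMod.val_natCast_of_lt (hlt _)] at h2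
      exact ZMod.val_injective 2 (Nat.eq_of_mul_eq_mul_right (by positivity) h2)
    have hv2 : ∀ b, (e.symm (v b)) ^ 2 = 1 := fun b => e.injective (by
      rw [map_pow, e.apply_symm_apply, map_one]
      refine Multiplicative.toAdd.injective (funext fun i => ?_)
      show (2 : ℕ) • (((b i).val * 2 ^ (j - 1) : ℕ) : ZMod (2 ^ j)) = 0
      rw [nsmul_eq_mul, ← Nat.cast_mul, ZMod.natCast_eq_zero_iff, mul_left_comm, ← pow_succ',
        Nat.sub_add_cancel (by omega : 1 ≤ j)]
      exact dvd_mul_left _ _)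
    have h1 := Nat.card_le_card_of_injective
      (fun b => (⟨e.symm (v b), hv2 b⟩ : {x : ↥(S : Subgroup G) // x ^ 2 = 1}))
      (fun b b' hb => hv (e.symm.injective (congrArg Subtype.val hb)))
    rw [Nat.card_pi, Finset.prod_const, Nat.card_zmod, Finset.card_univ, Fintype.card_fin] at h1
    have h8 : 2 ^ 3 ≤ 2 ^ k := Nat.pow_le_pow_right two_pos (by omega)
    have := card_sq_le_four hS hcS
    omega
  haveI := Fintype.ofFinite G
  by_cases hnc : Subgroup.normalizer ((S : Subgroup G) : Set G) ≤ Subgroup.centralizer ((S : Subgroup G) : Set G)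
  · exact solvable_of_complement hFT (Transfer.hasNormalPComplement_of_normalizer_le S hnc)
  obtain ⟨x, hx, hxC⟩ := Set.not_subset.mp hnc
  rcases (show k = 0 ∨ k = 1 ∨ k = 2 by omega) with rfl | rfl | rfl
  · refine absurd hx fun _ => hxC (Subgroup.mem_centralizer_iff.mpr fun y hy => ?_)
    have hy1 : (⟨y, hy⟩ : ↥(S : Subgroup G)) = 1 := e.injective (Subsingleton.elim _ _)
    rw [show y = 1 from congrArg Subtype.val hy1, one_mul, mul_one]
  · haveI : IsCyclic ↥(S : Subgroup G) := by
      haveI : IsCyclic (Multiplicative (Fin 1 → ZMod (2 ^ j))) :=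
        isCyclic_of_surjective (AddEquiv.funUnique (Fin 1) (ZMod (2 ^ j))).symm.toMultiplicative
          (AddEquiv.funUnique (Fin 1) (ZMod (2 ^ j))).symm.toMultiplicative.surjective
      exact isCyclic_of_surjective e.symm e.symm.surjective
    by_cases hev : 2 ∣ Nat.card G
    · exact absurd (IsCyclic.normalizer_le_centralizer
        ((Nat.minFac_eq_two_iff _).mpr hev) (P := S) inferInstance hx) hxC
    · exact hFT G (Nat.odd_iff.mpr (by omega))
  · let D : Blocks.Homo949.Data G :=
      { P := S, m := j, hm := hj, n := x, hn := hx, hnC := hxC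
        e := e.trans (AddEquiv.toMultiplicative (RingEquiv.piFinTwo fun _ => ZMod (2 ^ j)).toAddEquiv) }
    obtain ⟨M, hM⟩ := Blocks.exists_isPModular (p := 2)
    obtain ⟨f, hf, hfS⟩ := D.exists_linear hM
    have hle : (S : Subgroup G) ≤ f.ker := fun y hy => hfS y hy
    have hlt : Nat.card f.ker < n := by
      rw [← hn]
      refine lt_of_le_of_ne (Subgroup.card_le_card_group _) fun he => hf ?_
      ext g
      have : g ∈ f.ker := Subgroup.eq_top_of_card_eq _ he ▸ Subgroup.mem_top g
      rw [MonoidHom.mem_ker] at this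
      rw [this, MonoidHom.one_apply]
    haveI := ih _ hlt ↥f.ker rfl (S.subtype hle)
      (hS.of_mulEquiv ((Subgroup.subgroupOfEquivOfLe hle).symm.trans
        (MulEquiv.subgroupCongr (S.coe_subtype hle).symm)))
    exact solvable_of_ker_le_range f.ker.subtype f (by rw [Subgroup.range_subtype])

end CfsgLib.FTCons
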