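import Mathlib
import Cfsg.Prelude.Def_KGroupFacts
import Cfsg.Agent.Lib.FTCons.FixSylow

/-!
A simple group whose Sylow 2-subgroup has solvable automorphism group has solvable outer automorphism
group, given the Odd Order Theorem.
-/

set_option autoImplicit false

namespace CfsgLib.FTCons

open Subgroup Pointwise

universe u

variable {G : Type u} [Group G]

/-- Restriction of the automorphisms fixing `S` to `S`. -/
noncomputable def restrictSylow {p : ℕ} (S : Sylow p G) :
    MulAction.stabilizer (MulAut G) S →* MulAut ↥(S : Subgroup G) :=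
  have hmem : ∀ (φ : MulAction.stabilizer (MulAut G) S) (s : G), s ∈ (S : Subgroup G) →
      (φ : MulAut G) s ∈ (S : Subgroup G) := fun φ s hs => by
    have h1 := congrArg (fun T : Sylow p G => (T : Subgroup G)) φ.2
    exact h1 ▸ Subgroup.smul_mem_pointwise_smul s (φ : MulAut G) _ hs
  MonoidHom.mk'
    (fun φ =>
      { toFun := fun s => ⟨(φ : MulAut G) s, hmem φ s s.2⟩
        invFun := fun s => ⟨((φ⁻¹ : MulAction.stabilizer (MulAut G) S) : MulAut G) s, hmem φ⁻¹ s s.2⟩
        left_inv := fun s => Subtype.ext (MulAut.inv_apply_self G (φ : MulAut G) s)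
        right_inv := fun s => Subtype.ext (MulAut.apply_inv_self G (φ : MulAut G) s)
        map_mul' := fun a b => Subtype.ext (map_mul (φ : MulAut G) (a : G) (b : G)) })
    fun _ _ => rfl

variable [Finite G]

/-- The outer automorphism group is solvable when that of a Sylow 2-subgroup is. -/
theorem isSolvable_out (hFT : OddSolvable.{u}) [IsSimpleGroup G] (S : Sylow 2 G)
    (hS1 : (S : Subgroup G) ≠ ⊥) (hS : Group.IsSolvable (MulAut ↥(S : Subgroup G))) :
    Group.IsSolvable (Cfsg.Out G) := by
  haveI : Fact (Nat.Prime 2) := ⟨Nat.prime_two⟩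
  have hO : ∀ N : Subgroup G, N.Normal → Odd (Nat.card N) → N = ⊥ := by
    intro N hN hodd
    refine (hN.eq_bot_or_eq_top).resolve_right fun h => ?_
    rw [h, Subgroup.card_top] at hodd
    obtain ⟨k, hk⟩ := IsPGroup.iff_card.1 S.2
    rcases Nat.eq_zero_or_pos k with rfl | hk0
    · exact hS1 (Subgroup.card_eq_one.1 (by simpa using hk))
    · have h2 : 2 ∣ Nat.card G :=
        ((dvd_pow_self 2 hk0.ne').trans (dvd_of_eq hk.symm)).trans (Subgroup.card_subgroup_dvd_card _)
      exact Nat.not_even_iff_odd.2 hodd (even_iff_two_dvd.2 h2)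
  set res := restrictSylow S with hres
  set C := res.ker.map (MulAction.stabilizer (MulAut G) S).subtype
  have hC : Group.IsSolvable C := by
    refine (FixSylow.structure_of_fix hFT hO S C ?_).2
    rintro _ ⟨φ, hφ, rfl⟩ s hs
    exact congrArg Subtype.val (DFunLike.congr_fun (MonoidHom.mem_ker.1 hφ : res φ = 1) ⟨s, hs⟩)
  haveI : Group.IsSolvable res.ker :=
    solvable_of_solvable_injective
      (f := ((MulAction.stabilizer (MulAut G) S).subtype.subgroupMap res.ker))
      fun a b h => by
        have h1 := congrArg Subtype.val h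
        simp only [MonoidHom.subgroupMap_apply_coe, Subgroup.coe_subtype] at h1
        exact Subtype.ext (Subtype.ext h1)
  haveI : Group.IsSolvable (MulAction.stabilizer (MulAut G) S) :=
    solvable_of_ker_le_range res.ker.subtype res (res.ker.range_subtype).ge
  refine solvable_of_surjective
    (f := (QuotientGroup.mk' (Cfsg.Inn G)).comp (MulAction.stabilizer (MulAut G) S).subtype) ?_
  intro q
  obtain ⟨φ, rfl⟩ := QuotientGroup.mk'_surjective (Cfsg.Inn G) q
  obtain ⟨g, hg⟩ := MulAction.exists_smul_eq G S (φ • S)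
  refine ⟨⟨(MulAut.conj g)⁻¹ * φ, ?_⟩, ?_⟩
  · rw [MulAction.mem_stabilizer_iff, mul_smul, ← hg]
    exact inv_smul_smul (MulAut.conj g) S
  · show (QuotientGroup.mk ((MulAut.conj g)⁻¹ * φ) : MulAut G ⧸ Cfsg.Inn G) = QuotientGroup.mk φ
    rw [QuotientGroup.eq]
    have h1 : ((MulAut.conj g)⁻¹ * φ)⁻¹ * φ = φ⁻¹ * MulAut.conj g * φ := by group
    rw [h1]
    have hn := (inferInstance : (Cfsg.Inn G).Normal).conj_mem _ (⟨g, rfl⟩ : MulAut.conj g ∈ Cfsg.Inn G) φ⁻¹
    rwa [inv_inv] at hn

end CfsgLib.FTCons
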