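import Cfsg.Agent.Lib.FTCons.Basic
import Cfsg.Agent.Lib.Primitive.ClassSize

/-!
# Primitive characters of groups of odd order (modulo the Odd Order Theorem)
-/

set_option autoImplicit false

namespace CfsgLib.FTCons

universe u

open Cfsg

/-- The content of S4991: in a group of odd order some class size has `p`-part at least that of
the degree of a given primitive character. -/
theorem primitive_degree_le_class (hFT : OddSolvable.{u}) {G : Type u} [Group G] [Fintype G]
    (hodd : Odd (Nat.card G)) {χ : G → ℂ} (hχ : IsIrrCharacter G χ)
    (hprim : ¬ ∃ H : Subgroup G, H ≠ ⊤ ∧ ∃ θ : H → ℂ, IsCharacter H θ ∧ indFun H θ = χ)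
    (p : ℕ) [Fact p.Prime] :
    ∃ g : G, (Cfsg.charDegree χ).factorization p ≤
      (Subgroup.centralizer ({g} : Set G)).index.factorization p := by
  have : Group.IsSolvable G := hFT G hodd
  exact CfsgLib.PrimitiveClassSize.exists_class hχ hprim p

end CfsgLib.FTCons
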