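import Cfsg.Agent.Lib.Transfer.NormalComplement
import Cfsg.Agent.Lib.Involutions.BaerSuzuki
import Cfsg.Agent.Lib.FTCons.Basic
import Cfsg.Prelude.Def_Solvable
import Cfsg.Agent.Lib.PCore.Basic

/-!
Groups whose noncentral real elements have class sizes with a common 2-part, with a Sylow
2-subgroup in which real elements are central.
-/

set_option autoImplicit false

namespace CfsgLib.FTCons.RealTwoPart

open Subgroup

variable {G : Type*} [Group G] [Finite G]

/-- A real element that is not self-inverse has a class of even size. -/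
theorem two_dvd_index_of_real {x : G} (hx : IsConj x x⁻¹) (hne : x ≠ x⁻¹) :
    2 ∣ (centralizer ({x} : Set G)).index := by
  obtain ⟨a, ha⟩ := isConj_iff.mp hx
  set C := centralizer ({x} : Set G) with hC
  let E : Subgroup G :=
    { carrier := {h | h * x * h⁻¹ = x ∨ h * x * h⁻¹ = x⁻¹}
      one_mem' := Or.inl (by simp)
      mul_mem' := by
        intro h k hh hk
        have e : h * k * x * (h * k)⁻¹ = h * (k * x * k⁻¹) * h⁻¹ := by group
        rw [Set.mem_ofPred_eq, e]
        rcases hk with hk | hk <;> rw [hk]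
        · exact hh
        · rcases hh with hh | hh
          · exact Or.inr (by rw [← conj_inv, hh])
          · exact Or.inl (by rw [← conj_inv, hh, inv_inv])
      inv_mem' := by
        intro h hh
        rw [Set.mem_ofPred_eq, inv_inv]
        rcases hh with hh | hh
        · refine Or.inl ?_
          conv_lhs => rw [← hh]
          group
        · refine Or.inr ?_
          have h2 : x = h⁻¹ * x⁻¹ * h := by rw [← hh]; group
          conv_rhs => rw [h2]
          group }
  have hCE : C ≤ E := fun h hh => Or.inl (by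
    rw [hC, mem_centralizer_singleton_iff] at hh
    rw [hh, mul_inv_cancel_right])
  have hidx : (C.subgroupOf E).index = 2 := by
    rw [index_eq_two_iff]
    refine ⟨⟨a, Or.inr ha⟩, fun ⟨b, hb⟩ => ?_⟩
    simp only [mem_subgroupOf, hC, coe_mul, mem_centralizer_singleton_iff]
    have key : ∀ c : G, c * x = x * c ↔ c * x * c⁻¹ = x := fun c => by
      rw [mul_inv_eq_iff_eq_mul]
    simp only [key]
    have e : b * a * x * (b * a)⁻¹ = (b * x * b⁻¹)⁻¹ := by
      rw [show b * a * x * (b * a)⁻¹ = b * (a * x * a⁻¹) * b⁻¹ by group, ha]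
      group
    rw [e]
    rcases hb with hb | hb <;> rw [hb]
    · refine Or.inr ⟨rfl, fun h => hne h.symm⟩
    · refine Or.inl ⟨inv_inv x, fun h => hne h.symm⟩

  rw [← relIndex_mul_index hCE]
  exact Dvd.dvd.mul_right (hidx.symm ▸ dvd_rfl : 2 ∣ C.relIndex E) _

/-- If no nontrivial element of odd order is inverted by conjugation, the 2-core has odd index. -/
theorem odd_index_pCore_of_no_real
    (h : ∀ x : G, Odd (orderOf x) → IsConj x x⁻¹ → x = 1) :
    Odd (Nat.card (G ⧸ Cfsg.pCore 2 G)) := by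
  haveI : Fact (Nat.Prime 2) := ⟨Nat.prime_two⟩
  haveI hN : (Cfsg.pCore 2 G).Normal := inferInstance
  set N := Cfsg.pCore 2 G with hNdef
  have hNp : IsPGroup 2 N := CfsgLib.PCore.pCore_isPGroup
  rw [← Nat.not_even_iff_odd, even_iff_two_dvd]
  intro h2
  obtain ⟨t, ht⟩ := exists_prime_orderOf_dvd_card' 2 h2
  have hpair : ∀ g : G ⧸ N, IsPGroup 2 (closure ({t, g * t * g⁻¹} : Set (G ⧸ N))) := by
    intro g
    have htg : orderOf (g * t * g⁻¹) = 2 := by rw [Involutions.orderOf_conj_eq, ht]
    set w := t * (g * t * g⁻¹) with hw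
    by_cases hall : ∀ q : ℕ, q.Prime → q ∣ orderOf w → q = 2
    · exact Involutions.isPGroup_two_closure_pair ht htg
        (Nat.eq_prime_pow_of_unique_prime_dvd (orderOf_pos w).ne' @hall)
    exfalso
    push_neg at hall
    obtain ⟨q, hq, hqd, hq2⟩ := hall
    haveI := Fact.mk hq
    have hinv : t * w * t⁻¹ = w⁻¹ := by
      have h1 : t⁻¹ = t := Involutions.inv_eq_self_of_involution ht
      have h3 : (g * t * g⁻¹)⁻¹ = g * t * g⁻¹ := Involutions.inv_eq_self_of_involution htg
      have h4 : t * t = 1 := Involutions.mul_self_eq_one ht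
      rw [hw, mul_inv_rev, h3, h1, ← mul_assoc t t, h4, one_mul]
    set z := w ^ (orderOf w / q) with hz
    have hzq : orderOf z = q := by
      rw [hz, orderOf_pow_of_dvd (Nat.div_pos (Nat.le_of_dvd (orderOf_pos w) hqd) hq.pos).ne'
        (Nat.div_dvd_of_dvd hqd), Nat.div_div_self hqd (orderOf_pos w).ne']
    have hzinv : t * z * t⁻¹ = z⁻¹ := Involutions.inverts_pow hinv _
    obtain ⟨x0, hx0⟩ := QuotientGroup.mk_surjective z
    set H : Subgroup G := (zpowers z).comap (QuotientGroup.mk' N) with hH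
    have hNH : N ≤ H := fun n hn => by
      rw [hH, mem_comap, QuotientGroup.mk'_apply, (QuotientGroup.eq_one_iff n).mpr hn]
      exact one_mem _
    obtain ⟨P⟩ : Nonempty (Sylow q H) := inferInstance
    have hker : (QuotientGroup.mk' N).ker = N := QuotientGroup.ker_mk' N
    obtain ⟨u, hu⟩ := QuotientGroup.mk_surjective t
    have hnorm : u ∈ normalizer (H : Set G) := by
      refine mem_normalizer_fintype fun y hy => ?_
      simp only [SetLike.mem_coe, hH, mem_comap, map_mul, map_inv, QuotientGroup.mk'_apply] at hy ⊢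
      obtain ⟨k, hk⟩ := mem_zpowers_iff.mp hy
      rw [hu, ← hk, ← conj_zpow, hzinv]
      exact zpow_mem (inv_mem (mem_zpowers z)) k
    obtain ⟨m, hm⟩ := IsPGroup.iff_card.mp hNp
    have hcard : Nat.card H = q * 2 ^ m := by
      have h1 := Subgroup.card_mul_index (N.subgroupOf H)
      rw [Nat.card_congr (subgroupOfEquivOfLe hNH).toEquiv, hm] at h1
      have h3 : (N.subgroupOf H).index = q := by
        change N.relIndex H = q
        have h4 := Subgroup.relIndex_ker (K := H) (QuotientGroup.mk' N)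
        rw [hker] at h4
        rw [h4, hH, Subgroup.map_comap_eq_self_of_surjective (QuotientGroup.mk'_surjective N),
          Nat.card_zpowers, hzq]
      rw [h3] at h1
      rw [← h1, mul_comm]
    have hPcard : Nat.card (P : Subgroup H) = q := by
      rw [Sylow.card_eq_multiplicity, hcard, Nat.factorization_mul hq.ne_zero (pow_ne_zero _ two_ne_zero),
        Finsupp.add_apply, hq.factorization_self, Nat.factorization_pow, Finsupp.smul_apply,
        Nat.prime_two.factorization, Finsupp.single_apply, if_neg (Ne.symm hq2)]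
      simp
    -- Frattini: some element of `u H` normalises `P`
    let c0 : H →* H :=
      { toFun := fun y => ⟨u * y * u⁻¹, (mem_normalizer_iff.mp hnorm y).mp y.2⟩
        map_one' := by ext; simp
        map_mul' := fun a b => by ext; simp [mul_assoc] }
    let c : H ≃* H := MulEquiv.ofBijective c0
      ⟨fun a b hab => by
          apply Subtype.ext
          simpa [c0] using congrArg Subtype.val hab,
        fun b => ⟨⟨u⁻¹ * b * u, by
          simpa [mul_assoc] using (mem_normalizer_iff.mp (inv_mem hnorm) b).mp b.2⟩,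
          by ext; simp [c0, mul_assoc]⟩⟩
    obtain ⟨k, hk⟩ := MulAction.exists_smul_eq H (P.comapOfInjective c.toMonoidHom c.injective
      (by intro y _; exact ⟨c.symm y, by simp⟩)) P
    obtain ⟨p, hp, hp1⟩ : ∃ p : H, p ∈ (P : Subgroup H) ∧ p ≠ 1 := by
      have : Nontrivial (P : Subgroup H) := Finite.one_lt_card_iff_nontrivial.mp (by rw [hPcard]; exact hq.one_lt)
      obtain ⟨⟨p, hp⟩, hne⟩ := exists_ne (1 : (P : Subgroup H))
      exact ⟨p, hp, fun he => hne (Subtype.ext he)⟩
    -- `c⁻¹ P` is conjugate to `P` by `k`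
    have hsub : (c.symm p : H) ∈ (P.comapOfInjective c.toMonoidHom c.injective
      (by intro y _; exact ⟨c.symm y, by simp⟩) : Subgroup H) := by
      simp [hp]
    have hPk : k * c.symm p * k⁻¹ ∈ (P : Subgroup H) := by
      rw [← hk]
      exact Subgroup.smul_mem_pointwise_smul _ (MulAut.conj k) _ hsub
    set p' := k * c.symm p * k⁻¹ with hp'
    set v : G := (k : G) * u⁻¹ with hv
    have hvp : v * (p : G) * v⁻¹ = (p' : G) := by
      have hpu : ((c.symm p : H) : G) = u⁻¹ * p * u := by
        have h1 : u * ((c.symm p : H) : G) * u⁻¹ = (p : G) :=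
          congrArg Subtype.val (c.apply_symm_apply p)
        rw [← h1]
        group
      rw [hp', hv]
      simp [hpu, mul_assoc]
    have hqq : orderOf (p : G) = q := by
      rw [orderOf_coe]
      have h1 : orderOf (⟨p, hp⟩ : (P : Subgroup H)) ∣ q := (_root_.orderOf_dvd_natCard _).trans (dvd_of_eq hPcard)
      rw [← orderOf_coe] at h1
      rcases (Nat.dvd_prime hq).mp h1 with h1 | h1
      · exact absurd (orderOf_eq_one_iff.mp h1) hp1
      · exact h1
    have hinj : ∀ y : H, y ∈ (P : Subgroup H) → ((y : G) : G ⧸ N) = 1 → y = 1 := by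
      intro y hy h1
      have hyN : (y : G) ∈ N := (QuotientGroup.eq_one_iff _).mp h1
      have d1 : orderOf (y : G) ∣ q := by
        rw [orderOf_coe, ← orderOf_mk y hy]
        exact (_root_.orderOf_dvd_natCard _).trans (dvd_of_eq hPcard)
      obtain ⟨j, hj⟩ := hNp ⟨_, hyN⟩
      have d2 : orderOf (y : G) ∣ 2 ^ j :=
        orderOf_dvd_of_pow_eq_one (by simpa using congrArg Subtype.val hj)
      have hcop : q.Coprime (2 ^ j) := Nat.Coprime.pow_right j ((Nat.coprime_primes hq Nat.prime_two).mpr hq2)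
      exact Subtype.ext (orderOf_eq_one_iff.mp (Nat.eq_one_of_dvd_coprimes hcop d1 d2))
    have himg : ((p' : G) : G ⧸ N) = ((p : G) : G ⧸ N)⁻¹ := by
      rw [← hvp]
      have hkz : ((k : G) : G ⧸ N) ∈ zpowers z := k.2
      obtain ⟨i, hi⟩ := mem_zpowers_iff.mp hkz
      obtain ⟨j, hj⟩ := mem_zpowers_iff.mp (show ((p : G) : G ⧸ N) ∈ zpowers z from p.2)
      rw [hv]
      simp only [QuotientGroup.mk_mul, QuotientGroup.mk_inv, hu, ← hi, ← hj,
        Involutions.inv_eq_self_of_involution ht, mul_inv_rev]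
      have h5 : t * z ^ j * t = (z ^ j)⁻¹ := by
        have := Involutions.inverts_zpow hzinv j
        rwa [Involutions.inv_eq_self_of_involution ht] at this
      calc z ^ i * t * z ^ j * (t * (z ^ i)⁻¹) = z ^ i * (t * z ^ j * t) * (z ^ i)⁻¹ := by group
        _ = (z ^ j)⁻¹ := by rw [h5]; group
    have hpp : p' = p⁻¹ := by
      have := hinj (p' * p) (mul_mem (by simpa [hp'] using hPk) hp)
        (by simp [himg])
      exact eq_inv_of_mul_eq_one_left this
    have hodd : Odd (orderOf (p : G)) := hqq ▸ hq.odd_of_ne_two hq2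
    exact hp1 (Subtype.ext (h _ hodd (isConj_iff.mpr ⟨v, by rw [hvp, hpp]; rfl⟩)))
  obtain ⟨W, hWn, hWp, htW⟩ := Involutions.exists_normal_isPGroup_of_mem hpair
  have hle : W.comap (QuotientGroup.mk' N) ≤ N :=
    CfsgLib.PCore.le_pCore (hWn.comap _)
      (hWp.comap_of_ker_isPGroup _ (by rwa [QuotientGroup.ker_mk']))
  obtain ⟨u, hu⟩ := QuotientGroup.mk_surjective t
  have : u ∈ N := hle (by rw [mem_comap, QuotientGroup.mk'_apply, hu]; exact htW)
  rw [(QuotientGroup.eq_one_iff u).mpr this] at hu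
  rw [← hu, orderOf_one] at ht
  omega

/-- With all involutions central and real elements of a Sylow 2-subgroup central in it,
Frobenius' condition holds. -/
theorem frobeniusCond_of_central (hI : ∀ t : G, t * t = 1 → t ∈ center G) (S : Sylow 2 G)
    (hS : ∀ s : ↥(S : Subgroup G), IsConj s s⁻¹ → s ∈ center ↥(S : Subgroup G)) :
    Transfer.FrobeniusCond 2 G := by
  haveI : Fact (Nat.Prime 2) := ⟨Nat.prime_two⟩
  refine Transfer.frobeniusCond_of_le_sylow S fun Q hQ g hg hc => ?_
  rw [mem_centralizer_iff]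
  suffices H : ∀ n, ∀ v : G, orderOf v = n → v ∈ Q → g * v * g⁻¹ = v by
    intro v hv
    exact (mul_inv_eq_iff_eq_mul.mp (H _ v rfl hv)).symm
  intro n
  induction n using Nat.strong_induction_on with
  | _ n ih =>
  intro v hn hv
  by_cases h1 : v = 1
  · simp [h1]
  obtain ⟨k, hk⟩ := S.2 ⟨v, hQ hv⟩
  have hdvd : 2 ∣ orderOf v := by
    obtain ⟨j, -, hj⟩ := (Nat.dvd_prime_pow Nat.prime_two).mp
      (orderOf_dvd_of_pow_eq_one (by simpa using congrArg Subtype.val hk : v ^ 2 ^ k = 1))
    rcases j with _ | j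
    · exact absurd (orderOf_eq_one_iff.mp (by simpa using hj)) h1
    · exact ⟨2 ^ j, by rw [hj, pow_succ']⟩
  have hsq : g * (v * v) * g⁻¹ = v * v := by
    refine ih (orderOf (v * v)) ?_ _ rfl (mul_mem hv hv)
    rw [← pow_two, orderOf_pow_of_dvd two_ne_zero hdvd, ← hn]
    exact Nat.div_lt_self (orderOf_pos v) one_lt_two
  set s := v⁻¹ * (g * v * g⁻¹) with hs
  have hsQ : s ∈ Q := mul_mem (inv_mem hv) ((mem_set_normalizer_iff.mp hg v).mp hv)
  have hgv : g * v * g⁻¹ = v * s := by rw [hs]; group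
  have hrev : s * v * s = v := by
    have h2 : v * s * (v * s) = v * v := by rw [← hgv, ← hsq]; group
    simpa [mul_assoc] using h2
  have hreal : IsConj (⟨s, hQ hsQ⟩ : ↥(S : Subgroup G)) (⟨s, hQ hsQ⟩ : ↥(S : Subgroup G))⁻¹ := by
    refine isConj_iff.mpr ⟨⟨v⁻¹, inv_mem (hQ hv)⟩, Subtype.ext ?_⟩
    simp only [coe_mul, coe_inv, inv_inv]
    refine eq_inv_of_mul_eq_one_left ?_
    calc v⁻¹ * s * v * s = v⁻¹ * (s * v * s) := by group
      _ = 1 := by rw [hrev, inv_mul_cancel]
  have hcomm : v * s = s * v :=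
    congrArg Subtype.val (mem_center_iff.mp (hS _ hreal) ⟨v, hQ hv⟩)
  have hs2 : s * s = 1 := by
    have h2 : v * (s * s) = v := by rw [← mul_assoc, hcomm, hrev]
    exact mul_left_cancel (h2.trans (mul_one v).symm)
  have hgs : g * s * g⁻¹ = s := by
    rw [mem_center_iff.mp (hI s hs2) g, mul_inv_cancel_right]
  have hpow : ∀ j : ℕ, g ^ j * v * (g ^ j)⁻¹ = v * s ^ j := by
    intro j
    induction j with
    | zero => simp
    | succ j ihj =>
      calc g ^ (j + 1) * v * (g ^ (j + 1))⁻¹ = g * (g ^ j * v * (g ^ j)⁻¹) * g⁻¹ := by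
            rw [pow_succ']; group
        _ = g * v * g⁻¹ * (g * s * g⁻¹) ^ j := by rw [ihj, conj_pow]; group
        _ = v * s ^ (j + 1) := by rw [hgv, hgs, pow_succ', mul_assoc]
  have hse : s = 1 := by
    have h3 := hpow (orderOf g)
    rw [pow_orderOf_eq_one] at h3
    have d1 : orderOf s ∣ orderOf g := orderOf_dvd_of_pow_eq_one (by
      simpa using h3.symm)
    have d2 : orderOf s ∣ 2 := orderOf_dvd_of_pow_eq_one (by rw [pow_two, hs2])
    exact orderOf_eq_one_iff.mp (Nat.eq_one_of_dvd_coprimes hc d1 d2)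
  rw [hgv, hse, mul_one]

universe u

theorem solvable_and_complement (hFT : CfsgLib.FTCons.OddSolvable.{u}) {G : Type u} [Group G]
    [Finite G] (a : ℕ)
    (h : ∀ x : G, IsConj x x⁻¹ → x ∉ center G →
      ((centralizer ({x} : Set G)).index).factorization 2 = a)
    (S : Sylow 2 G)
    (hS : ∀ s : ↥(S : Subgroup G), IsConj s s⁻¹ → s ∈ center ↥(S : Subgroup G)) :
    Group.IsSolvable G ∧
      Cfsg.HasNormalPComplement 2 ↥(closure {g : G | ∃ k : ℕ, orderOf g = 2 ^ k}) := by
  haveI : Fact (Nat.Prime 2) := ⟨Nat.prime_two⟩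
  by_cases hI : ∀ t : G, t * t = 1 → t ∈ center G
  · have hc := Transfer.hasNormalPComplement_of_frobeniusCond (frobeniusCond_of_central hI S hS)
    refine ⟨?_, Transfer.hasNormalPComplement_subgroup _ hc⟩
    haveI := Transfer.pResidual_normal (G := G) (p := 2)
    have hd := Transfer.hasNormalPComplement_iff.mp hc
    haveI : Group.IsSolvable (Cfsg.pResidual 2 G) :=
      hFT _ (Nat.odd_iff.mpr (Nat.two_dvd_ne_zero.mp hd))
    have hq : IsPGroup 2 (G ⧸ Cfsg.pResidual 2 G) :=
      Transfer.isPGroup_quotient_of_pResidual_le _ le_rfl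
    haveI : Group.IsNilpotent (G ⧸ Cfsg.pResidual 2 G) := hq.isNilpotent
    exact solvable_of_ker_le_range (Cfsg.pResidual 2 G).subtype (QuotientGroup.mk' (Cfsg.pResidual 2 G))
      (by rw [QuotientGroup.ker_mk', range_subtype])
  push_neg at hI
  obtain ⟨t, ht, htc⟩ := hI
  have ha : a = 0 := by
    have ht1 : t ≠ 1 := fun e => htc (e ▸ one_mem _)
    have hord : orderOf t = 2 := orderOf_eq_prime (by rw [pow_two, ht]) ht1
    have hp : IsPGroup 2 (zpowers t) := IsPGroup.of_card (n := 1) (by rw [Nat.card_zpowers, hord]; rfl)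
    obtain ⟨R, hR⟩ := hp.exists_le_sylow
    obtain ⟨c, rfl⟩ := MulAction.exists_smul_eq G S R
    obtain ⟨y, hy, e⟩ := hR (mem_zpowers t)
    have e' : c * y * c⁻¹ = t := e
    have hyy : y * y = 1 := by
      have h1 : c * (y * y) * c⁻¹ = 1 := by rw [← ht, ← e']; group
      simpa using h1
    have hyc : y ∉ center G := fun hm => htc (by
      rw [← e', mem_center_iff.mp hm c, mul_inv_cancel_right]; exact hm)
    have hinv : y⁻¹ = y := inv_eq_of_mul_eq_one_right hyy
    have hycS := hS ⟨y, hy⟩ (by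
      have h2 : (⟨y, hy⟩ : ↥(S : Subgroup G))⁻¹ = ⟨y, hy⟩ := Subtype.ext hinv
      rw [h2])
    have hle : (S : Subgroup G) ≤ centralizer ({y} : Set G) := fun s hs =>
      mem_centralizer_singleton_iff.mpr (congrArg Subtype.val (mem_center_iff.mp hycS ⟨s, hs⟩))
    rw [← h y (by rw [hinv]) hyc]
    exact Nat.factorization_eq_zero_of_not_dvd fun hd =>
      S.not_dvd_index (hd.trans (index_dvd_of_le hle))
  have hno : ∀ x : G, Odd (orderOf x) → IsConj x x⁻¹ → x = 1 := by
    intro x hodd hx
    by_contra hx1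
    have hne : x ≠ x⁻¹ := fun e => by
      have h2 : orderOf x ∣ 2 := orderOf_dvd_of_pow_eq_one (by
        rw [pow_two]
        nth_rewrite 2 [e]
        exact mul_inv_cancel x)
      exact hx1 (orderOf_eq_one_iff.mp
        (Nat.eq_one_of_dvd_coprimes (Nat.coprime_two_right.mpr hodd) dvd_rfl h2))
    have hxc : x ∉ center G := fun hm => by
      obtain ⟨c, hc⟩ := isConj_iff.mp hx
      rw [mem_center_iff.mp hm c, mul_inv_cancel_right] at hc
      exact hne hc
    have h2 := h x hx hxc
    rw [ha] at h2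
    exact absurd h2 (Nat.Prime.factorization_pos_of_dvd Nat.prime_two index_ne_zero_of_finite
      (two_dvd_index_of_real hx hne)).ne'
  haveI hN : (Cfsg.pCore 2 G).Normal := inferInstance
  have hodd := odd_index_pCore_of_no_real hno
  haveI : Group.IsSolvable (G ⧸ Cfsg.pCore 2 G) := hFT _ hodd
  haveI : Group.IsNilpotent (Cfsg.pCore 2 G) := CfsgLib.PCore.pCore_isPGroup.isNilpotent
  refine ⟨solvable_of_ker_le_range (Cfsg.pCore 2 G).subtype (QuotientGroup.mk' (Cfsg.pCore 2 G))
    (by rw [QuotientGroup.ker_mk', range_subtype]), ?_⟩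
  have hle : closure {g : G | ∃ k : ℕ, orderOf g = 2 ^ k} ≤ Cfsg.pCore 2 G := by
    rw [closure_le]
    rintro g ⟨k, hk⟩
    rw [SetLike.mem_coe, ← QuotientGroup.eq_one_iff, ← orderOf_eq_one_iff]
    refine Nat.eq_one_of_dvd_coprimes ((Nat.coprime_two_right.mpr hodd).pow_right k)
      (orderOf_dvd_natCard _) ?_
    rw [← hk]
    exact orderOf_map_dvd (QuotientGroup.mk' _) g
  refine Transfer.hasNormalPComplement_of_coprime ⊥ (by simp) ?_
  exact ((CfsgLib.PCore.pCore_isPGroup (p := 2) (G := G)).to_le hle).to_quotient ⊥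

end CfsgLib.FTCons.RealTwoPart
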