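import Cfsg.Agent.Lib.FTCons.ComponentTrichotomy
import Cfsg.Agent.Lib.PCore.Basic

/-!
Standard subgroups of core-free groups (statement S1347), given that groups of odd order are solvable.
-/

set_option autoImplicit false

namespace CfsgLib.FTCons

open Subgroup CfsgLib.Components CfsgLib.Tech46 CfsgLib.LBalance
open scoped commutatorElement

universe u

variable {G : Type u} [Group G] [Finite G]

theorem exists_involution_of_quasisimple (hFT : OddSolvable.{u}) {K : Subgroup G}
    (hK : Cfsg.IsQuasisimple K) : ∃ x ∈ K, orderOf x = 2 := by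
  obtain ⟨x, a, hxK, -, hx, -⟩ := exists_two_element hFT hK
  refine ⟨x ^ 2 ^ a, pow_mem hxK _, ?_⟩
  rw [orderOf_pow, hx, Nat.gcd_eq_right (pow_dvd_pow 2 a.le_succ), pow_succ,
    Nat.mul_div_cancel_left _ (pow_pos two_pos a)]

theorem pLayer_le_layer (hO : Cfsg.pPrimeCore 2 G = ⊥) : Cfsg.pLayer 2 G ≤ Cfsg.layer G := by
  refine sSup_le fun K hK => component_le_layer ?_
  have hinj : Function.Injective (QuotientGroup.mk' (Cfsg.pPrimeCore 2 G)) :=
    (MonoidHom.ker_eq_bot_iff _).1 (by rw [QuotientGroup.ker_mk', hO])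
  let e : G ≃* G ⧸ Cfsg.pPrimeCore 2 G :=
    MulEquiv.ofBijective _ ⟨hinj, QuotientGroup.mk'_surjective _⟩
  have h2 := isComponent_map_equiv e.symm hK.2.1
  have he : (K.map (QuotientGroup.mk' (Cfsg.pPrimeCore 2 G))).map e.symm.toMonoidHom = K := by
    rw [Subgroup.map_map]
    convert Subgroup.map_id K
    ext x
    exact e.symm_apply_apply x
  rwa [he] at h2

theorem standard_trichotomy (hFT : OddSolvable.{u}) (A : Subgroup G) (hA : Cfsg.IsStandardSubgroup A)
    (hO : Cfsg.oddCore G = ⊥) (t : G) (ht : orderOf t = 2)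
    (htA : t ∈ centralizer (A : Set G)) :
    A.Normal ∨ (∃ X : Subgroup G, IsSimpleGroup ↥X ∧ ¬ IsMulCommutative ↥X ∧ Nonempty (↥X ≃* ↥A) ∧
      (∀ a ∈ X, ∀ b ∈ X.map (MulAut.conj t).toMonoidHom, a * b = b * a) ∧
      X ⊓ X.map (MulAut.conj t).toMonoidHom = ⊥ ∧
      X ⊔ X.map (MulAut.conj t).toMonoidHom = Cfsg.layer G ∧
      centralizer (A : Set G) = zpowers t) ∨
    (A ≤ Cfsg.layer G ∧ IsSimpleGroup ↥(Cfsg.layer G) ∧ ¬ IsMulCommutative ↥(Cfsg.layer G)) := by
  haveI : Fact (Nat.Prime 2) := ⟨Nat.prime_two⟩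
  obtain ⟨hAq, ⟨-, htight⟩, hcomm, hNN⟩ := hA
  set K := centralizer (A : Set G) with hK
  set C := centralizer ({t} : Set G) with hC
  have ht2 : t * t = 1 := by rw [← pow_two, ← ht, pow_orderOf_eq_one]
  have hO' : Cfsg.pPrimeCore 2 G = ⊥ := hO
  -- whatever centralizes an involution of `K` normalizes `A`
  have hinv : ∀ u ∈ K, orderOf u = 2 → ∀ g : G, g * u = u * g → g ∈ normalizer (A : Set G) := by
    intro u hu hu2 g hg
    rw [hNN]
    by_contra hgN
    have h1 : u ∈ K ⊓ K.map (MulAut.conj g).toMonoidHom :=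
      ⟨hu, u, hu, by
        show g * u * g⁻¹ = u
        rw [hg, mul_inv_cancel_right]⟩
    have h2 : orderOf (⟨u, h1⟩ : ↥(K ⊓ K.map (MulAut.conj g).toMonoidHom)) ∣ Nat.card _ :=
      orderOf_dvd_natCard _
    rw [← Subgroup.orderOf_coe, hu2] at h2
    exact (htight g hgN).not_two_dvd_nat h2
  have hAC : A ≤ C := fun a ha => mem_centralizer_singleton_iff.mpr (mem_centralizer_iff.mp htA a ha)
  have hAcomp : Cfsg.IsComponent (A.subgroupOf C) := by
    refine ⟨?_, isQuasisimple_of_mulEquiv hAq (subgroupOfEquivOfLe hAC).symm⟩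
    exact ((normal_subgroupOf_iff_le_normalizer hAC).mpr fun g hg =>
      hinv t htA ht g (mem_centralizer_singleton_iff.mp hg)).isSubnormal
  have h2A : 2 ∣ Nat.card A := by
    obtain ⟨x, hxA, hx⟩ := exists_involution_of_quasisimple hFT hAq
    have := orderOf_dvd_natCard (⟨x, hxA⟩ : A)
    rwa [← Subgroup.orderOf_coe, hx] at this
  have hAE : A ≤ Cfsg.layer G :=
    (component_le_layer_of_even ht2 hAC hAcomp h2A).trans (pLayer_le_layer hO')
  obtain ⟨D, hD, hcase⟩ := component_cases ht2 hAC hAcomp hAE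
  -- an odd-order normal subgroup is trivial
  have hodd : ∀ N : Subgroup G, N.Normal → (∀ u ∈ N, orderOf u ≠ 2) → N = ⊥ := by
    intro N hN h
    rw [eq_bot_iff, ← hO']
    refine CfsgLib.PCore.le_pPrimeCore_of_not_dvd hN fun h2 => ?_
    obtain ⟨x, hx⟩ := exists_prime_orderOf_dvd_card' 2 h2
    exact h x x.2 (by rw [Subgroup.orderOf_coe]; exact hx)
  -- a component centralized by every involution-free condition is simple
  have hsimple : ∀ E : Subgroup G, Cfsg.IsComponent E →
      (∀ u ∈ E ⊓ centralizer (E : Set G), orderOf u ≠ 2) → IsSimpleGroup E := by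
    intro E hE h
    have hz : (center E).map E.subtype = ⊥ := by
      rw [eq_bot_iff, ← hO']
      refine CfsgLib.PCore.le_pPrimeCore_of_isSubnormal ?_ ?_
      · refine IsSubnormal.step _ E (map_subtype_le _) hE.1 ?_
        have : ((center E).map E.subtype).subgroupOf E = center E :=
          comap_map_eq_self_of_injective E.subtype_injective _
        rw [this]; infer_instance
      · refine (Nat.Prime.coprime_iff_not_dvd Nat.prime_two).mpr (fun h2 => ?_) |>.symm
        obtain ⟨x, hx⟩ := exists_prime_orderOf_dvd_card' 2 h2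
        exact h x ((map_center_subtype E).le x.2) (by rw [Subgroup.orderOf_coe]; exact hx)
    have hz' : center E = ⊥ := (Subgroup.map_eq_bot_iff_of_injective _ E.subtype_injective).mp hz
    haveI := hE.2.2
    haveI := quasisimple_nontrivial hE.2
    exact IsSimpleGroup.isSimpleGroup_of_surjective (QuotientGroup.quotientMulEquivOfEq hz'
      |>.trans QuotientGroup.quotientBot).toMonoidHom (MulEquiv.surjective _)
  rcases hcase with ⟨htD, hAD⟩ | ⟨hne, h, hdiag⟩
  · by_cases hEq : A = D
    · left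
      refine ⟨fun a ha g => ?_⟩
      by_contra hga
      have hcj := isComponent_conj g (hEq ▸ hD : Cfsg.IsComponent A)
      have hne' : A.map (MulAut.conj g).toMonoidHom ≠ A := fun e => hga (e.le ⟨a, ha, rfl⟩)
      exact hcomm g hne' (commutator_components_eq_bot (hEq ▸ hD) hcj hne'.symm)
    right; right
    -- `A` is not normalized by `D`
    have hnot : ¬ D ≤ normalizer (A : Set G) := by
      intro hn
      obtain h1 | h1 := component_eq_or_commutator_of_normalized hD hAD hn
      · exact hEq h1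
      · refine quasisimple_not_isMulCommutative hAq (le_centralizer_iff_isMulCommutative.mp ?_)
        exact (le_centralizer_iff.mp ((le_centralizer_of_commutator_eq_bot h1))).trans
          (centralizer_le (SetLike.coe_subset_coe.mpr hAD))
    have hnoinv : ∀ u, u ∈ centralizer (D : Set G) → orderOf u ≠ 2 := fun u hu hu2 =>
      hnot fun d hd => hinv u (centralizer_le (SetLike.coe_subset_coe.mpr hAD) hu) hu2 d
        (mem_centralizer_iff.mp hu d hd)
    have honly : ∀ E : Subgroup G, Cfsg.IsComponent E → E = D := by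
      intro E hE
      by_contra hne'
      obtain ⟨x, hxE, hx⟩ := exists_involution_of_quasisimple hFT hE.2
      exact hnoinv x (le_centralizer_of_commutator_eq_bot (commutator_components_eq_bot hE hD hne') hxE) hx
    have hlayer : Cfsg.layer G = D :=
      le_antisymm (sSup_le fun E hE => (honly E hE).le) (component_le_layer hD)
    rw [hlayer]
    exact ⟨hAD, hsimple D hD fun u hu => hnoinv u hu.2, quasisimple_not_isMulCommutative hD.2⟩
  right; left
  set Dt := D.map (MulAut.conj t).toMonoidHom with hDt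
  have hDDt : D ≤ centralizer (Dt : Set G) :=
    le_centralizer_of_commutator_eq_bot (commutator_components_eq_bot hD (isComponent_conj t hD) (Ne.symm hne))
  have hAle : A ≤ D ⊔ Dt := by
    rw [hdiag]; rintro _ ⟨x, rfl⟩; exact mul_mem_sup x.2 ⟨x, x.2, rfl⟩
  have hnot : ¬ D ≤ normalizer (A : Set G) := by
    intro hn
    refine quasisimple_not_isMulCommutative hD.2 (le_centralizer_iff_isMulCommutative.mp ?_)
    intro x hx
    refine mem_centralizer_of_component_mod_center hD fun y hy => ?_
    have hmem : ⁅x, y⁆ ∈ A := by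
      have h1 : y * (t * y * t⁻¹) ∈ A := by rw [hdiag]; exact ⟨⟨y, hy⟩, rfl⟩
      have h2 := mul_mem ((mem_normalizer_iff.mp (hn hx) _).mp h1) (A.inv_mem h1)
      have e : x * (y * (t * y * t⁻¹)) * x⁻¹ * (y * (t * y * t⁻¹))⁻¹ = ⁅x, y⁆ := by
        have hc : (t * y * t⁻¹) * x⁻¹ = x⁻¹ * (t * y * t⁻¹) :=
          mem_centralizer_iff.mp (hDDt (inv_mem hx)) _ ⟨y, hy, rfl⟩
        calc x * (y * (t * y * t⁻¹)) * x⁻¹ * (y * (t * y * t⁻¹))⁻¹
            = x * y * ((t * y * t⁻¹) * x⁻¹) * (t * y * t⁻¹)⁻¹ * y⁻¹ := by group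
          _ = x * y * (x⁻¹ * (t * y * t⁻¹)) * (t * y * t⁻¹)⁻¹ * y⁻¹ := by rw [hc]
          _ = ⁅x, y⁆ := by rw [commutatorElement_def]; group
      rwa [e] at h2
    refine ⟨D.mul_mem (D.mul_mem (D.mul_mem hx hy) (D.inv_mem hx)) (D.inv_mem hy), ?_⟩
    rw [hdiag] at hmem
    obtain ⟨⟨z, hz⟩, hze⟩ := hmem
    have hze' : z * (t * z * t⁻¹) = ⁅x, y⁆ := hze
    have hw : t * z * t⁻¹ ∈ D := by
      have : t * z * t⁻¹ = z⁻¹ * ⁅x, y⁆ := by rw [← hze', inv_mul_cancel_left]
      rw [this]
      exact D.mul_mem (D.inv_mem hz) (D.mul_mem (D.mul_mem (D.mul_mem hx hy) (D.inv_mem hx)) (D.inv_mem hy))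
    have hwc : t * z * t⁻¹ ∈ centralizer (D : Set G) := (le_centralizer_iff.mp hDDt) ⟨z, hz, rfl⟩
    have hzc : z ∈ centralizer (D : Set G) := by
      refine mem_centralizer_iff.mpr fun d hd => ?_
      have h1 := mem_centralizer_iff.mp (hDDt hw) (t * d * t⁻¹) ⟨d, hd, rfl⟩
      exact mul_left_cancel (a := t) (mul_right_cancel (b := t⁻¹) (by
        simpa [mul_assoc] using h1))
    rw [← hze']
    exact mul_mem hzc hwc
  have hnoinv : ∀ u, u ∈ centralizer (D : Set G) → u ∈ centralizer (Dt : Set G) → orderOf u ≠ 2 := by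
    intro u hu hut hu2
    refine hnot fun d hd => hinv u ?_ hu2 d (mem_centralizer_iff.mp hu d hd)
    have : D ⊔ Dt ≤ centralizer ({u} : Set G) := sup_le
      (fun x hx => mem_centralizer_singleton_iff.mpr (mem_centralizer_iff.mp hu x hx))
      (fun x hx => mem_centralizer_singleton_iff.mpr (mem_centralizer_iff.mp hut x hx))
    exact mem_centralizer_iff.mpr fun a ha => mem_centralizer_singleton_iff.mp (this (hAle ha))
  have hlayer : D ⊔ Dt = Cfsg.layer G := by
    refine le_antisymm (sup_le (component_le_layer hD) (component_le_layer (isComponent_conj t hD)))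
      (sSup_le fun E hE => ?_)
    by_contra hle
    obtain ⟨x, hxE, hx⟩ := exists_involution_of_quasisimple hFT hE.2
    have h1 : E ≠ D := fun e => hle (e ▸ le_sup_left)
    have h2 : E ≠ Dt := fun e => hle (e ▸ le_sup_right)
    exact hnoinv x (le_centralizer_of_commutator_eq_bot (commutator_components_eq_bot hE hD h1) hxE)
      (le_centralizer_of_commutator_eq_bot
        (commutator_components_eq_bot hE (isComponent_conj t hD) h2) hxE) hx
  have hsimp : IsSimpleGroup D := by
    refine hsimple D hD fun u hu hu2 => hnoinv u hu.2 (hDDt hu.1) hu2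
  have hinter : D ⊓ Dt = ⊥ := by
    have hle : D ⊓ Dt ≤ D ⊓ centralizer (D : Set G) :=
      inf_le_inf le_rfl (le_centralizer_iff.mp hDDt)
    rw [eq_bot_iff]
    intro x hx
    have hxc : (⟨x, hx.1⟩ : D) ∈ center D :=
      mem_center_iff.mpr fun y => Subtype.ext (mem_centralizer_iff.mp (hle hx).2 y y.2)
    rcases hsimp.eq_bot_or_eq_top_of_normal (center D) inferInstance with e | e
    · rw [e, mem_bot] at hxc
      exact mem_bot.mpr (congrArg Subtype.val hxc)
    · exact absurd e (quasisimple_center_ne_top hD.2)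
  have hinj : Function.Injective (diag t h) := by
    rw [← MonoidHom.ker_eq_bot_iff, eq_bot_iff]
    intro x hx
    have hx' : (x : G) * (t * x * t⁻¹) = 1 := hx
    have : (x : G) ∈ D ⊓ Dt := ⟨x.2, by
      rw [eq_inv_of_mul_eq_one_left hx']; exact Dt.inv_mem ⟨x, x.2, rfl⟩⟩
    rw [hinter, mem_bot] at this
    exact mem_bot.mpr (Subtype.ext this)
  refine ⟨D, hsimp, quasisimple_not_isMulCommutative hD.2,
    ⟨(MonoidHom.ofInjective hinj).trans (MulEquiv.subgroupCongr hdiag.symm)⟩,
    fun a ha b hb => (mem_centralizer_iff.mp (hDDt ha) b hb).symm, hinter, hlayer, ?_⟩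
  -- the centralizer of `A`
  have hCE : centralizer ((Cfsg.layer G : Subgroup G) : Set G) = ⊥ := by
    refine hodd _ inferInstance fun u hu => hnoinv u ?_ ?_
    · exact centralizer_le (SetLike.coe_subset_coe.mpr (component_le_layer hD)) hu
    · exact centralizer_le (SetLike.coe_subset_coe.mpr (component_le_layer (isComponent_conj t hD))) hu
  have hfix : ∀ k ∈ K, k ∈ normalizer (D : Set G) → k ∈ normalizer (Dt : Set G) → k = 1 := by
    intro k hk hkD hkt
    rw [← mem_bot, ← hCE]
    have key : ∀ x ∈ D, k * x * k⁻¹ = x ∧ k * (t * x * t⁻¹) * k⁻¹ = t * x * t⁻¹ := by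
      intro x hx
      have h1 : x * (t * x * t⁻¹) ∈ A := by rw [hdiag]; exact ⟨⟨x, hx⟩, rfl⟩
      have h2 := mem_centralizer_iff.mp hk _ h1
      have h3 : (k * x * k⁻¹) * (k * (t * x * t⁻¹) * k⁻¹) = x * (t * x * t⁻¹) := by
        calc (k * x * k⁻¹) * (k * (t * x * t⁻¹) * k⁻¹) = k * (x * (t * x * t⁻¹)) * k⁻¹ := by group
          _ = x * (t * x * t⁻¹) := by rw [← h2, mul_inv_cancel_right]
      have h4 : x⁻¹ * (k * x * k⁻¹) ∈ D ⊓ Dt := by
        refine ⟨D.mul_mem (D.inv_mem hx) ((mem_normalizer_iff.mp hkD x).mp hx), ?_⟩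
        have e : x⁻¹ * (k * x * k⁻¹) = (t * x * t⁻¹) * (k * (t * x * t⁻¹) * k⁻¹)⁻¹ := by
          rw [eq_mul_inv_iff_mul_eq, mul_assoc, h3, inv_mul_cancel_left]
        rw [e]
        exact Dt.mul_mem ⟨x, hx, rfl⟩ (Dt.inv_mem ((mem_normalizer_iff.mp hkt _).mp ⟨x, hx, rfl⟩))
      rw [hinter, mem_bot, inv_mul_eq_one] at h4
      rw [← h4] at h3
      exact ⟨h4.symm, mul_left_cancel h3⟩
    rw [mem_centralizer_iff]
    intro y hy
    have : D ⊔ Dt ≤ centralizer ({k} : Set G) := by
      refine sup_le (fun x hx => mem_centralizer_singleton_iff.mpr ?_) ?_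
      · exact (mul_inv_eq_iff_eq_mul.mp (key x hx).1).symm
      · rintro _ ⟨x, hx, rfl⟩
        exact mem_centralizer_singleton_iff.mpr (mul_inv_eq_iff_eq_mul.mp (key x hx).2).symm
    exact mem_centralizer_singleton_iff.mp (this (hlayer ▸ hy))
  have htt : t⁻¹ = t := inv_eq_of_mul_eq_one_right ht2
  refine le_antisymm (fun k hk => ?_) (zpowers_le.mpr htA)
  -- `k` permutes the two components
  have hperm : ∀ g : G, D.map (MulAut.conj g).toMonoidHom = D ∨ D.map (MulAut.conj g).toMonoidHom = Dt := by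
    intro g
    by_contra hcon
    push Not at hcon
    have hE := isComponent_conj g hD
    have hEle : D.map (MulAut.conj g).toMonoidHom ≤ D ⊔ Dt := hlayer ▸ component_le_layer hE
    refine quasisimple_not_isMulCommutative hE.2 (le_centralizer_iff_isMulCommutative.mp ?_)
    refine le_centralizer_iff.mp (hEle.trans ?_)
    exact sup_le (le_centralizer_of_commutator_eq_bot (commutator_components_eq_bot hD hE hcon.1.symm))
      (le_centralizer_of_commutator_eq_bot
        (commutator_components_eq_bot (isComponent_conj t hD) hE hcon.2.symm))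
  have hmap : ∀ a b : G, D.map (MulAut.conj (a * b)).toMonoidHom =
      (D.map (MulAut.conj b).toMonoidHom).map (MulAut.conj a).toMonoidHom := by
    intro a b
    rw [Subgroup.map_map]
    congr 1
    ext z
    simp [mul_assoc]
  have hDtt : Dt.map (MulAut.conj t).toMonoidHom = D := by
    rw [hDt, ← hmap, ht2, map_one]
    exact Subgroup.map_id D
  rcases hperm k with e | e
  · have hkN : k ∈ normalizer (D : Set G) := mem_normalizer_iff_map_conj_eq.mpr e
    have h' : D.map (MulAut.conj (k * t)).toMonoidHom = Dt.map (MulAut.conj k).toMonoidHom := hmap k t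
    rcases hperm (k * t) with e' | e'
    · exfalso
      rw [h'] at e'
      have := (Subgroup.map_injective (MulAut.conj k).injective) (e'.trans e.symm)
      exact hne this
    · rw [h'] at e'
      rw [hfix k hk hkN (mem_normalizer_iff_map_conj_eq.mpr e')]
      exact one_mem _
  · have hkt : k * t ∈ K := mul_mem hk htA
    have e1 : D.map (MulAut.conj (t * k)).toMonoidHom = D := by rw [hmap, e, hDtt]
    have hk' : t * k ∈ K := mul_mem htA hk
    have e2 : Dt.map (MulAut.conj (t * k)).toMonoidHom = Dt := by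
      rcases hperm (t * k * t) with q | q
      · exfalso
        rw [hmap (t * k) t] at q
        exact hne ((Subgroup.map_injective (MulAut.conj (t * k)).injective) (q.trans e1.symm))
      · rwa [hmap (t * k) t] at q
    have := hfix (t * k) hk' (mem_normalizer_iff_map_conj_eq.mpr e1)
      (mem_normalizer_iff_map_conj_eq.mpr e2)
    rw [eq_inv_of_mul_eq_one_right this, htt]
    exact mem_zpowers t

end CfsgLib.FTCons
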