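import Cfsg.Agent.Lib.FTCons.Basic
import Cfsg.Agent.Lib.HallHigman.DerivedTwo

/-!
# 2-soluble groups are soluble; the bounds on the 2-length
-/

set_option autoImplicit false

namespace CfsgLib.FTCons

universe u

variable {G : Type u} [Group G] [Finite G]

/-- With the odd order theorem, a `2`-soluble group is soluble. -/
theorem OddSolvable.solvable_of_isPSolvable_two (hFT : OddSolvable.{u}) (hG : Cfsg.IsPSolvable 2 G) :
    Group.IsSolvable G := by
  obtain ⟨n, H, h0, hlast, hmono, hn, hfac⟩ := hG
  suffices h : ∀ i : Fin (n + 1), Group.IsSolvable (H i) by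
    have h1 := h (Fin.last n)
    rw [hlast] at h1
    exact Group.isSolvable_of_surjective (f := (Subgroup.topEquiv (G := G)).toMonoidHom) Subgroup.topEquiv.surjective
  intro i
  induction i using Fin.induction with
  | zero => rw [h0]; infer_instance
  | succ i ih =>
    have hle : H i.castSucc ≤ H i.succ := hmono (Fin.castSucc_le_succ i)
    have : (H i.castSucc).Normal := hn _
    set K := (H i.castSucc).subgroupOf (H i.succ)
    have : Group.IsSolvable K :=
      Group.isSolvable_of_isSolvable_injective (f := (Subgroup.subgroupOfEquivOfLe hle).toMonoidHom)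
        (Subgroup.subgroupOfEquivOfLe hle).injective
    have hQ : Group.IsSolvable (H i.succ ⧸ K) := by
      have hcard : Nat.card (H i.succ ⧸ K) = (H i.castSucc).relIndex (H i.succ) := (K.index_eq_card).symm
      rcases hfac i with ⟨m, hm⟩ | hcop
      · have := Fact.mk Nat.prime_two
        have hp : IsPGroup 2 (H i.succ ⧸ K) := IsPGroup.of_card (hcard.trans hm)
        have := hp.isNilpotent
        infer_instance
      · refine hFT _ ?_
        rw [hcard, Nat.odd_iff]
        rw [Nat.coprime_comm, Nat.prime_two.coprime_iff_not_dvd] at hcop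
        omega
    exact (Group.isSolvable_iff_subgroup_quotient K).mpr ⟨inferInstance, hQ⟩

/-- The `2`-length is at most `e` if the Sylow `2`-subgroups have exponent dividing `2^e`. -/
theorem pLengthLE_two_exponent (hFT : OddSolvable.{u}) (hG : Cfsg.IsPSolvable 2 G) (e : ℕ)
    (hexp : ∀ (P : Sylow 2 G), ∀ x ∈ (P : Subgroup G), x ^ 2 ^ e = 1) : Cfsg.PLengthLE 2 e G :=
  CfsgLib.HallHigman.pLengthLE_two_le_exponent e G (hFT.solvable_of_isPSolvable_two hG) hexp

/-- The `2`-length is at most `d` if the Sylow `2`-subgroups have derived length at most `d`. -/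
theorem pLengthLE_two_derivedLength (hFT : OddSolvable.{u}) (hG : Cfsg.IsPSolvable 2 G) (d : ℕ)
    (hd : ∀ P : Sylow 2 G, derivedSeries (P : Subgroup G) d = ⊥) : Cfsg.PLengthLE 2 d G :=
  CfsgLib.HallHigman.pLengthLE_two_le_derivedLength d G (hFT.solvable_of_isPSolvable_two hG) fun P => by
    rw [CfsgLib.HallHigman.dSer, hd P, Subgroup.map_bot]

end CfsgLib.FTCons
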